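import Cfsg.Agent.Lib.TwelveDim.Core
import Cfsg.Agent.Lib.SympEight.Defs

/-!
In dimension eight a perfect minimal normal subgroup is a core, or is made of three commuting quaternion-type
factors permuted by the group.
-/

set_option autoImplicit false

namespace Cfsg.Agent.Lib.SympEight

open Cfsg.Geo Matrix
open Cfsg.Agent.Lib.SLTwoPrime Cfsg.Agent.Lib.TwelveDim
open Cfsg.Agent.Lib
open scoped MatrixGroups Kronecker commutatorElement

section Factors

variable {ι : Type} [Fintype ι] [DecidableEq ι] {F : Type*} [Field F]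

/-- In `2 × 4` coordinates there is room for at most two further commuting factors of degree two, and one
further factor leaves something commuting with both. -/
theorem three_factors (Rr : Matrix (Fin 2 × Fin 4) (Fin 2 × Fin 4) F ≃ₐ[F] Matrix ι ι F)
    (ψ : Matrix (Fin 2) (Fin 2) F →ₐ[F] Matrix ι ι F) (h : ∀ a b, ψ a * Rr (b ⊗ₖ 1) = Rr (b ⊗ₖ 1) * ψ a) :
    (∀ ψ' ψ'' : Matrix (Fin 2) (Fin 2) F →ₐ[F] Matrix ι ι F,
      (∀ a b, ψ' a * Rr (b ⊗ₖ 1) = Rr (b ⊗ₖ 1) * ψ' a) → (∀ a b, ψ'' a * Rr (b ⊗ₖ 1) = Rr (b ⊗ₖ 1) * ψ'' a) →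
      (∀ a b, ψ' a * ψ b = ψ b * ψ' a) → (∀ a b, ψ'' a * ψ b = ψ b * ψ'' a) →
      (∀ a b, ψ'' a * ψ' b = ψ' b * ψ'' a) → False) ∧
    ∃ M : Matrix ι ι F, (∀ a, M * Rr (a ⊗ₖ 1) = Rr (a ⊗ₖ 1) * M) ∧ (∀ a, M * ψ a = ψ a * M) ∧ ∀ c : F, M ≠ c • 1 := by
  obtain ⟨χ, hχ⟩ := factor (by norm_num) Rr ψ h
  obtain ⟨v, e', Q', hv, hQe⟩ := units_form (by norm_num : 0 < 2) χ
  rw [Fintype.card_fin] at hv
  obtain rfl : v = 2 := by omega
  let R' : Matrix (Fin 2 × Fin 2) (Fin 2 × Fin 2) F ≃ₐ[F] Matrix (Fin 4) (Fin 4) F :=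
    (Matrix.reindexAlgEquiv F F e'.symm).trans (cjA Q')
  have hR' : ∀ a, χ a = R' (a ⊗ₖ 1) := fun a => by rw [hQe]; rfl
  have hdown : ∀ ψ' : Matrix (Fin 2) (Fin 2) F →ₐ[F] Matrix ι ι F,
      (∀ a b, ψ' a * Rr (b ⊗ₖ 1) = Rr (b ⊗ₖ 1) * ψ' a) → (∀ a b, ψ' a * ψ b = ψ b * ψ' a) →
      ∃ θ : Matrix (Fin 2) (Fin 2) F →ₐ[F] Matrix (Fin 2) (Fin 2) F,
        ∀ a, ψ' a = Rr (1 ⊗ₖ R' (1 ⊗ₖ θ a)) := by
    intro ψ' hψ' hcom
    obtain ⟨η, hη⟩ := factor (by norm_num) Rr ψ' hψ'
    obtain ⟨θ, hθ⟩ := factor (by norm_num) R' η fun a b => by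
      rw [← hR']
      apply kronHom_injective (F := F) (by norm_num : 0 < 2) 4
      apply Rr.injective
      have h2 := hcom a b
      rw [hη, hχ, ← map_mul, ← map_mul] at h2
      rw [map_mul (kronHom 2 4), map_mul (kronHom 2 4)]
      exact h2
    exact ⟨θ, fun a => by rw [hη, hθ]⟩
  refine ⟨fun ψ' ψ'' hψ' hψ'' hcom' hcom'' hcom => ?_,
    Rr (1 ⊗ₖ R' (1 ⊗ₖ Matrix.single (0 : Fin 2) (0 : Fin 2) (1 : F))), fun a => ?_, fun a => ?_, fun c hc => ?_⟩
  · obtain ⟨θ', hθ'⟩ := hdown ψ' hψ' hcom'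
    obtain ⟨θ'', hθ''⟩ := hdown ψ'' hψ'' hcom''
    obtain ⟨Q, hQ⟩ := exists_inner (by norm_num : 0 < 2) θ'
    have hc : ∀ a b, θ'' a * θ' b = θ' b * θ'' a := fun a b => by
      have h2 := hcom a b
      rw [hθ', hθ'', ← map_mul, ← map_mul, ← mul_kronecker_mul, ← mul_kronecker_mul, ← map_mul, ← map_mul,
        ← mul_kronecker_mul, ← mul_kronecker_mul, one_mul] at h2
      exact kronHom_injective (F := F) (by norm_num : 0 < 2) 2
        (R'.injective (kronHom_injective (F := F) (by norm_num : 0 < 2) 4 (Rr.injective h2)))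
    have hsc : ∀ a, ∃ c : F, θ'' a = c • 1 := fun a => by
      obtain ⟨c, hc'⟩ : θ'' a ∈ Set.range (Matrix.scalar (Fin 2)) :=
        Matrix.mem_range_scalar_of_commute_single fun i j _ => by
          have h2 := hc a (((Q⁻¹ : GL (Fin 2) F) : Matrix _ _ F) * Matrix.single i j 1 * (Q : Matrix _ _ F))
          rw [hQ] at h2
          simp only [mul_assoc, Units.mul_inv_cancel_left, Units.mul_inv, mul_one] at h2
          exact h2.symm
      exact ⟨c, by rw [← hc']; simp [Matrix.smul_one_eq_diagonal]⟩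
    choose c hc using hsc
    have hab : ∀ a b, θ'' (a * b) = θ'' (b * a) := fun a b => by
      rw [map_mul, map_mul, hc a, hc b, smul_mul_smul_comm, smul_mul_smul_comm, mul_comm (c a)]
    have h00 : θ'' (Matrix.single 0 0 1) = θ'' (Matrix.single 1 1 1) := by
      simpa using hab (Matrix.single 0 1 1) (Matrix.single 1 0 1)
    have h0 : θ'' (Matrix.single 0 0 1) = 0 := by
      have h1 : θ'' (Matrix.single 0 0 1) * θ'' (Matrix.single 0 0 1) = θ'' (Matrix.single 0 0 1) := by
        rw [← map_mul]; simp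
      have h2 : θ'' (Matrix.single 0 0 1) * θ'' (Matrix.single 1 1 1) = 0 := by
        rw [← map_mul, show (Matrix.single 0 0 1 * Matrix.single 1 1 1 : Matrix (Fin 2) (Fin 2) F) = 0 from by
          ext i j; fin_cases i <;> fin_cases j <;> simp [Matrix.mul_apply]]
        exact map_zero _
      rw [← h00, h1] at h2
      exact h2
    have h1 : θ'' 1 = 0 := by
      have : (1 : Matrix (Fin 2) (Fin 2) F) = Matrix.single 0 0 1 + Matrix.single 1 1 1 := by
        ext i j; fin_cases i <;> fin_cases j <;> simp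
      rw [this, map_add, ← h00, h0, add_zero]
    rw [map_one] at h1
    exact one_ne_zero h1
  · simp only [← map_mul, ← mul_kronecker_mul, one_mul, mul_one]
  · simp only [hχ, hR', ← map_mul, ← mul_kronecker_mul, one_mul, mul_one]
  · have h2 : (1 : Matrix (Fin 2) (Fin 2) F) ⊗ₖ R' (1 ⊗ₖ Matrix.single (0 : Fin 2) (0 : Fin 2) (1 : F)) = c • 1 :=
      Rr.injective (by rw [map_smul, map_one]; exact hc)
    have h2' : R' (1 ⊗ₖ Matrix.single (0 : Fin 2) (0 : Fin 2) (1 : F)) = c • 1 :=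
      kronHom_injective (F := F) (by norm_num : 0 < 2) 4 (h2.trans (by rw [map_smul, map_one]))
    have h3 : (1 : Matrix (Fin 2) (Fin 2) F) ⊗ₖ (Matrix.single (0 : Fin 2) (0 : Fin 2) (1 : F)) = c • 1 :=
      R'.injective (by rw [map_smul, map_one]; exact h2')
    have h4 := congrFun (congrFun h3 (0, 0)) (0, 0)
    have h5 := congrFun (congrFun h3 (0, 1)) (0, 1)
    simp [Matrix.kroneckerMap_apply] at h4 h5
    exact one_ne_zero (h4.trans h5.symm)

end Factors

variable {F : Type*} [Field F] [Fintype F]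
  {H P : Subgroup (Matrix.GeneralLinearGroup (Fin 4 ⊕ Fin 4) F)}

local notation "ιι" => (Fin 4 ⊕ Fin 4)

set_option maxHeartbeats 1000000 in
/-- A perfect minimal normal subgroup is a core, or there are three commuting factors permuted by `H`. -/
theorem perfect_cases (hH : IsMaximalIn (Cfsg.spGL 4 F) H) (hPH : P ≤ H)
    (hPn : ∀ g ∈ H, ∀ x ∈ P, g * x * g⁻¹ ∈ P) (hPsc : ¬ P ≤ scalars ιι F)
    (hmin : ∀ M : Subgroup (GL ιι F), M ≤ P → (∀ g ∈ H, ∀ x ∈ M, g * x * g⁻¹ ∈ M) → ¬ M ≤ scalars ιι F → M = P)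
    (htop : adj P = ⊤) (hnab : ¬ ∀ x ∈ P, ∀ y ∈ P, x * y * x⁻¹ * y⁻¹ ∈ scalars ιι F) :
    SympTwoPrime.Core H P ∨ Nonempty (CubeData H) := by
  classical
  set Sc := scalars ιι F
  have conj_comm : ∀ (R : Subgroup (GL ιι F)), (∀ g ∈ H, ∀ x ∈ R, g * x * g⁻¹ ∈ R) →
      ∀ g ∈ H, ∀ x ∈ ⁅R, R⁆, g * x * g⁻¹ ∈ ⁅R, R⁆ := by
    intro R hR g hg
    have : (⁅R, R⁆).map (MulAut.conj g).toMonoidHom ≤ ⁅R, R⁆ := by
      rw [Subgroup.map_commutator]
      refine Subgroup.commutator_mono ?_ ?_ <;> rintro _ ⟨x, hx, rfl⟩ <;> exact hR g hg x hx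
    exact fun x hx => this ⟨x, hx, rfl⟩
  have hperf : ⁅P, P⁆ = P := hmin _ (Subgroup.commutator_le.2 fun a ha b hb =>
    mul_mem (mul_mem (mul_mem ha hb) (inv_mem ha)) (inv_mem hb)) (conj_comm P hPn)
    fun hle => hnab fun x hx y hy => hle (Subgroup.commutator_mem_commutator hx hy)
  have hcomm : ∀ g : GL ιι F, (∀ x ∈ P, g * x * g⁻¹ * x⁻¹ ∈ Sc) → g ∈ Sc := by
    intro g hg
    obtain ⟨c, hc⟩ := scalar_of_commute htop (M := (g : Matrix ιι ιι F)) fun x hx =>
      congrArg Units.val (commute_of_perfect hg (hperf.symm ▸ hx))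
    exact mem_scalars_of_val hc
  -- minimal normal subgroups of the socle above the scalars
  obtain ⟨R, hRmem, hRmin⟩ := Set.exists_min_image
    {N : Subgroup (GL ιι F) | N ≤ P ∧ P ⊓ Sc ≤ N ∧ (∀ g ∈ P, ∀ x ∈ N, g * x * g⁻¹ ∈ N) ∧ ¬ N ≤ Sc} (fun N => Nat.card N)
    (Set.toFinite _) ⟨P, le_rfl, inf_le_left, fun g hg x hx => mul_mem (mul_mem hg hx) (inv_mem hg), hPsc⟩
  obtain ⟨hRP, hZR, hRn, hRsc⟩ := hRmem
  have hcjmem : ∀ (h : GL ιι F) (x : GL ιι F), x ∈ R.map (MulAut.conj h).toMonoidHom ↔ h⁻¹ * x * h ∈ R := by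
    intro h x
    constructor
    · rintro ⟨y, hy, rfl⟩
      have : h⁻¹ * (MulAut.conj h y) * h = y := by simp [mul_assoc]
      exact this.symm ▸ hy
    · intro hx; exact ⟨_, hx, by simp [mul_assoc]⟩
  have hother : ∀ h ∈ H, R.map (MulAut.conj h).toMonoidHom ≠ R → ∀ a ∈ R.map (MulAut.conj h).toMonoidHom, ∀ b ∈ R,
      a * b * a⁻¹ * b⁻¹ ∈ Sc := by
    intro h hh hne a ha b hb
    set R' := R.map (MulAut.conj h).toMonoidHom with hR'
    have hR'P : R' ≤ P := by rintro _ ⟨y, hy, rfl⟩; exact hPn h hh y (hRP hy)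
    have hR'n : ∀ g ∈ P, ∀ x ∈ R', g * x * g⁻¹ ∈ R' := by
      intro g hg x hx
      rw [hR', hcjmem] at hx ⊢
      have := hRn _ (by simpa using hPn h⁻¹ (inv_mem hh) g hg) _ hx
      simpa [mul_assoc] using this
    have hint : R' ⊓ R ≤ Sc := by
      by_contra hnot
      have h1 : R' ⊓ R = R := Subgroup.eq_of_le_of_card_ge inf_le_right (hRmin _ ⟨inf_le_right.trans hRP,
        le_inf (fun x hx => by
          rw [hR', hcjmem]
          refine hZR ⟨by simpa using hPn h⁻¹ (inv_mem hh) x hx.1, ?_⟩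
          simpa using scalars_normal.conj_mem x hx.2 h⁻¹) hZR,
        fun g hg x hx => ⟨hR'n g hg x hx.1, hRn g hg x hx.2⟩, hnot⟩)
      refine hne (Subgroup.eq_of_le_of_card_ge (inf_eq_right.1 h1) ?_).symm
      exact (Subgroup.card_map_of_injective (MulAut.conj h).injective).le
    refine hint (Subgroup.mem_inf.2 ⟨?_, ?_⟩)
    · rw [show a * b * a⁻¹ * b⁻¹ = a * (b * a⁻¹ * b⁻¹) by group]
      exact mul_mem ha (hR'n b (hRP hb) _ (inv_mem ha))
    · exact mul_mem (hRn a (hR'P ha) b hb) (inv_mem hb)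
  have hRnab : ¬ ∀ a ∈ R, ∀ b ∈ R, a * b * a⁻¹ * b⁻¹ ∈ Sc := by
    intro hab
    -- all conjugates commute modulo scalars
    have hall : ∀ h ∈ H, ∀ k ∈ H, ∀ a ∈ R, ∀ b ∈ R,
        h * a * h⁻¹ * (k * b * k⁻¹) * (h * a * h⁻¹)⁻¹ * (k * b * k⁻¹)⁻¹ ∈ Sc := by
      intro h hh k hk a ha b hb
      have key : k⁻¹ * h * a * (k⁻¹ * h)⁻¹ * b * (k⁻¹ * h * a * (k⁻¹ * h)⁻¹)⁻¹ * b⁻¹ ∈ Sc := by
        by_cases he : R.map (MulAut.conj (k⁻¹ * h)).toMonoidHom = R
        · exact hab _ (he ▸ ⟨a, ha, rfl⟩) b hb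
        · exact hother _ (mul_mem (inv_mem hk) hh) he _ ⟨a, ha, rfl⟩ b hb
      have := scalars_normal.conj_mem _ key k
      convert this using 1
      group
    let S : Set (GL ιι F) := {x | ∃ h ∈ H, ∃ a ∈ R, x = h * a * h⁻¹}
    have hgen : Subgroup.closure S = P := by
      refine hmin _ ((Subgroup.closure_le _).2 ?_) (fun g hg x hx => ?_) fun hle => hRsc fun a ha => hle
        (Subgroup.subset_closure ⟨1, one_mem _, a, ha, by simp⟩)
      · rintro _ ⟨h, hh, a, ha, rfl⟩; exact hPn h hh a (hRP ha)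
      · have : (Subgroup.closure S).map (MulAut.conj g).toMonoidHom ≤ Subgroup.closure S := by
          rw [MonoidHom.map_closure, Subgroup.closure_le]
          rintro _ ⟨_, ⟨h, hh, a, ha, rfl⟩, rfl⟩
          exact Subgroup.subset_closure ⟨g * h, mul_mem hg hh, a, ha, by simp [mul_assoc]⟩
        exact this ⟨x, hx, rfl⟩
    apply hPsc
    intro x hx
    have hq : ∀ u ∈ S, ∀ v ∈ S, Commute (QuotientGroup.mk' Sc u) (QuotientGroup.mk' Sc v) := by
      rintro _ ⟨h, hh, a, ha, rfl⟩ _ ⟨k, hk, b, hb, rfl⟩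
      rw [Commute, SemiconjBy, ← commutatorElement_eq_one_iff_mul_comm, ← map_commutatorElement]
      exact (QuotientGroup.eq_one_iff _).2 (hall h hh k hk a ha b hb)
    rw [← hperf] at hx
    refine (Subgroup.commutator_le.2 fun u hu v hv => ?_ : ⁅P, P⁆ ≤ Sc) hx
    rw [← QuotientGroup.eq_one_iff, ← QuotientGroup.mk'_apply, map_commutatorElement, commutatorElement_eq_one_iff_mul_comm]
    rw [← hgen] at hu hv
    induction hu, hv using Subgroup.closure_induction₂ with
    | mem u v hu hv => exact hq u hu v hv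
    | one_left v _ => simp
    | one_right u _ => simp
    | mul_left u u' v _ _ _ h1 h2 => rw [map_mul]; exact (Commute.mul_left h1 h2).eq
    | mul_right u v v' _ _ _ h1 h2 => rw [map_mul]; exact (Commute.mul_right h1 h2).eq
    | inv_left u v _ _ h1 => rw [map_inv]; exact (Commute.inv_left h1).eq
    | inv_right u v _ _ h1 => rw [map_inv]; exact (Commute.inv_right h1).eq
  set S := ⁅R, R⁆ with hS
  have hSP : S ≤ P := (Subgroup.commutator_mono hRP hRP).trans hperf.le
  have hSsc : ¬ S ≤ Sc := fun hle => hRnab fun a ha b hb => hle (Subgroup.commutator_mem_commutator ha hb)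
  have hSn : ∀ g ∈ P, ∀ x ∈ S, g * x * g⁻¹ ∈ S := by
    intro g hg
    have : S.map (MulAut.conj g).toMonoidHom ≤ S := by
      rw [hS, Subgroup.map_commutator]
      refine Subgroup.commutator_mono ?_ ?_ <;> rintro _ ⟨x, hx, rfl⟩ <;> exact hRn g hg x hx
    exact fun x hx => this ⟨x, hx, rfl⟩
  have hS' : ⁅S, S⁆ = S := by
    set S' := S ⊔ (P ⊓ Sc) with hS'def
    have hS'R : S' ≤ R := sup_le (Subgroup.commutator_le.2 fun a ha b hb =>
      mul_mem (mul_mem (mul_mem ha hb) (inv_mem ha)) (inv_mem hb)) hZR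
    have hS'n : ∀ g ∈ P, ∀ x ∈ S', g * x * g⁻¹ ∈ S' := by
      intro g hg
      have : S'.map (MulAut.conj g).toMonoidHom ≤ S' := by
        rw [hS'def, Subgroup.map_sup]
        refine sup_le_sup ?_ ?_
        · rintro _ ⟨x, hx, rfl⟩; exact hSn g hg x hx
        · rintro _ ⟨x, hx, rfl⟩
          exact ⟨P.mul_mem (P.mul_mem hg hx.1) (P.inv_mem hg), scalars_normal.conj_mem x hx.2 g⟩
      exact fun x hx => this ⟨x, hx, rfl⟩
    have hRS : R ≤ S ⊔ Sc := by
      have := Subgroup.eq_of_le_of_card_ge hS'R (hRmin S' ⟨hS'R.trans hRP, le_sup_right, hS'n,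
        fun hle => hSsc (le_sup_left.trans hle)⟩)
      exact this.ge.trans (sup_le_sup_left inf_le_right S)
    refine le_antisymm (Subgroup.commutator_le.2 fun a ha b hb =>
      mul_mem (mul_mem (mul_mem ha hb) (inv_mem ha)) (inv_mem hb)) ?_
    calc S = ⁅R, R⁆ := hS
      _ ≤ ⁅S ⊔ Sc, S ⊔ Sc⁆ := Subgroup.commutator_mono hRS hRS
      _ = ⁅S, S⁆ := KnownA.PrimeDim.commutator_sup_scalar S
  by_cases hfix : ∀ h ∈ H, R.map (MulAut.conj h).toMonoidHom = R
  swap
  · right
    push Not at hfix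
    obtain ⟨h, hh, hne⟩ := hfix
    -- the other conjugate centralises
    have hcen : ∀ h ∈ H, R.map (MulAut.conj h).toMonoidHom ≠ R → ∀ s ∈ S,
        ∀ a ∈ R.map (MulAut.conj h).toMonoidHom, a * s = s * a :=
      fun h hh hne s hs a ha => commute_of_perfect (fun r hr => hother h hh hne a ha r hr) hs
    let gen : Set (GL ιι F) := {x | ∃ k ∈ H, ∃ s ∈ S, x = k * s * k⁻¹}
    have hgen : Subgroup.closure gen = P := by
      refine hmin _ ((Subgroup.closure_le _).2 ?_) (fun g hg x hx => ?_) fun hle => hSsc fun s hs => hle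
        (Subgroup.subset_closure ⟨1, one_mem _, s, hs, by simp⟩)
      · rintro _ ⟨k, hk, a, ha, rfl⟩; exact hPn k hk a (hSP ha)
      · have : (Subgroup.closure gen).map (MulAut.conj g).toMonoidHom ≤ Subgroup.closure gen := by
          rw [MonoidHom.map_closure, Subgroup.closure_le]
          rintro _ ⟨_, ⟨k, hk, a, ha, rfl⟩, rfl⟩
          exact Subgroup.subset_closure ⟨g * k, mul_mem hg hk, a, ha, by simp [mul_assoc]⟩
        exact this ⟨x, hx, rfl⟩
    have hSR : S ≤ R := Subgroup.commutator_le.2 fun a ha b hb =>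
      mul_mem (mul_mem (mul_mem ha hb) (inv_mem ha)) (inv_mem hb)
    have hA := inv_adj hSn
    obtain ⟨d, φ, hd, hrange, hφ⟩ := matrix_form (absIrred_of_top htop).1 hA fun z hz hzc => by
      refine scalar_of_commute htop fun x hx => ?_
      rw [← hgen] at hx
      let C : Subgroup (GL ιι F) :=
        { carrier := {x | z * (x : Matrix ιι ιι F) = (x : Matrix ιι ιι F) * z}
          one_mem' := by simp
          mul_mem' := fun {a b} ha hb => by
            simp only [Set.mem_ofPred_eq, Units.val_mul] at *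
            rw [← mul_assoc, ha, mul_assoc, hb, mul_assoc]
          inv_mem' := fun {a} ha => by
            simp only [Set.mem_ofPred_eq] at *
            rw [Units.eq_inv_mul_iff_mul_eq, ← mul_assoc, ← ha, Units.mul_inv_cancel_right] }
      refine (Subgroup.closure_le C).2 ?_ hx
      rintro _ ⟨k, hk, s, hs, rfl⟩
      by_cases he : R.map (MulAut.conj k).toMonoidHom = R
      · have he' : S.map (MulAut.conj k).toMonoidHom = S := by rw [hS, Subgroup.map_commutator, he]
        exact hzc _ (mem_adj (he' ▸ ⟨s, hs, rfl⟩ : k * s * k⁻¹ ∈ S))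
      · refine (commute_adj (N := S) (fun t ht => ?_) z hz).symm
        exact congrArg Units.val (hcen k hk he t ht _ ⟨s, hSR hs, rfl⟩)
    obtain ⟨w, e, Q, hdw, hQ⟩ := units_form hd φ
    have hd2 : 2 ≤ d := by
      by_contra hlt
      refine hSsc fun x hx => ?_
      have hx' : (x : Matrix ιι ιι F) ∈ φ.range := hrange ▸ mem_adj hx
      obtain ⟨a, ha⟩ := hx'
      have : a = a ⟨0, hd⟩ ⟨0, hd⟩ • 1 := by
        ext i j; obtain rfl : i = ⟨0, hd⟩ := Fin.ext (by omega); obtain rfl : j = ⟨0, hd⟩ := Fin.ext (by omega); simp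
      refine mem_scalars_of_val (c := a ⟨0, hd⟩ ⟨0, hd⟩) ?_
      rw [← ha]; change φ a = _
      conv_lhs => rw [this]
      rw [map_smul, map_one]
    -- the conjugate algebra lies in the commutant
    let Rr : Matrix (Fin d × Fin w) (Fin d × Fin w) F ≃ₐ[F] Matrix ιι ιι F :=
      (Matrix.reindexAlgEquiv F F e.symm).trans (cjA Q)
    have hQ' : ∀ a, φ a = Rr (a ⊗ₖ 1) := fun a => by rw [hQ]; rfl
    have hw : 0 < w := Nat.pos_of_ne_zero fun h => by subst h; rw [mul_zero] at hdw; exact Fintype.card_ne_zero hdw.symm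
    have hrS : ∀ a : Matrix (Fin d) (Fin d) F, Rr.symm (cjA h (φ a)) ∈ (kronHom d w).range := by
      intro a
      obtain ⟨B, hB⟩ := kron_commutant hd (Rr.symm (cjA h (φ a))) fun i j => by
        apply Rr.injective
        rw [map_mul, map_mul, AlgEquiv.apply_symm_apply, ← hQ']
        refine commute_adj (N := S) (M := cjA h (φ a)) (fun x hx => ?_) _ (hrange ▸ ⟨Matrix.single i j 1, rfl⟩)
        have ha : φ a ∈ adj S := hrange ▸ ⟨a, rfl⟩
        have h1 := commute_adj (N := S) (M := ((h⁻¹ * x * h : GL ιι F) : Matrix ιι ιι F)) (fun y hy => by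
          have := congrArg (fun u => h⁻¹ * u * h) (hcen h hh hne x hx _ ⟨y, hSR hy, rfl⟩).symm
          simpa [mul_assoc] using congrArg Units.val this) _ ha
        have h2 := congrArg (cjA h) h1
        rw [map_mul, map_mul, show cjA h ((h⁻¹ * x * h : GL ιι F) : Matrix ιι ιι F) = x by simp [mul_assoc]] at h2
        exact h2.symm
      exact ⟨B, hB.symm⟩
    have hdvd : d ∣ w := dvd_of_kron_range hd (Rr.symm.toAlgHom.comp ((cjA h).toAlgHom.comp φ)) hrS
    obtain ⟨r, hr⟩ := hdvd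
    have hd24 : d = 2 ∧ w = 4 := by
      simp only [Fintype.card_sum, Fintype.card_fin] at hdw
      rw [hr] at hdw
      have hdd : d * d * r = 8 := by rw [mul_assoc]; omega
      have hd3 : d ≤ 2 := by
        by_contra hlt
        have : 9 ≤ d * d := Nat.mul_le_mul (by omega : 3 ≤ d) (by omega : 3 ≤ d)
        rcases Nat.eq_zero_or_pos r with h0 | h0
        · rw [h0, mul_zero] at hdd; omega
        · have := Nat.le_mul_of_pos_right (d * d) h0
          omega
      interval_cases d <;> omega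
    obtain ⟨rfl, rfl⟩ := hd24
    let ψ : GL ιι F → (Matrix (Fin 2) (Fin 2) F →ₐ[F] Matrix ιι ιι F) := fun k => (cjA k).toAlgHom.comp φ
    have hψ1 : ∀ a, ψ 1 a = φ a := fun a => by simp [ψ]
    have hmem : ∀ a, φ a ∈ adj S := fun a => hrange ▸ ⟨a, rfl⟩
    have hmul : ∀ k l a, cjA k (ψ l a) = ψ (k * l) a := fun k l a => by simp [ψ, mul_assoc]
    have hψc : ∀ k ∈ H, R.map (MulAut.conj k).toMonoidHom ≠ R → ∀ a b, ψ k a * φ b = φ b * ψ k a :=
      fun k hk hne' a b => commute_conj (fun x hx y hy => hcen k hk hne' x hx _ ⟨y, hSR hy, rfl⟩) (hmem a) (hmem b)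
    let C : GL ιι F → Subgroup (GL ιι F) := fun k => R.map (MulAut.conj k).toMonoidHom
    have hC1 : C 1 = R := by
      ext x
      rw [hcjmem]
      simp
    have hCmul : ∀ k l, C (k * l) = (C l).map (MulAut.conj k).toMonoidHom := fun k l => by
      simp only [C, Subgroup.map_map]
      congr 1
      ext x
      simp [mul_assoc]
    have hCc : ∀ k ∈ H, ∀ l ∈ H, C k ≠ C l → ∀ a b, ψ k a * ψ l b = ψ l b * ψ k a := by
      intro k hk l hl hkl a b
      have hne' : C (l⁻¹ * k) ≠ R := fun heq => hkl (by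
        rw [show k = l * (l⁻¹ * k) by group, hCmul, heq])
      have h3 := congrArg (cjA l) (hψc _ (mul_mem (inv_mem hl) hk) hne' a b)
      rw [map_mul, map_mul, hmul, show l * (l⁻¹ * k) = k by group] at h3
      exact h3
    obtain ⟨hfour, M, hMφ, hMψ, hMs⟩ := three_factors Rr (ψ h) fun a b => by rw [← hQ']; exact hψc h hh hne a b
    have hrng : ∀ k ∈ H, C k = R → ∀ a, cjA k (φ a) ∈ φ.range := by
      intro k hk he a
      have he' : S.map (MulAut.conj k).toMonoidHom = S := by
        rw [hS, Subgroup.map_commutator]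
        exact congrArg (fun T => ⁅T, T⁆) he
      have hkn : k ∈ Subgroup.normalizer (S : Set (GL ιι F)) := by
        rw [Subgroup.mem_normalizer_iff]
        refine fun x => ⟨fun hx => he' ▸ ⟨x, hx, rfl⟩, fun hx => ?_⟩
        obtain ⟨y, hy, hyx⟩ : k * x * k⁻¹ ∈ S.map (MulAut.conj k).toMonoidHom := he'.symm ▸ hx
        rwa [show x = y from ((MulAut.conj k).injective hyx).symm]
      exact hrange ▸ inv_adj (H := Subgroup.normalizer (S : Set (GL ιι F)))
        (fun g hg x hx => ((Subgroup.mem_normalizer_iff.1 hg) x).1 hx) k hkn _ (hmem a)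
    obtain ⟨k, hk, hkR, hkh⟩ : ∃ k ∈ H, C k ≠ R ∧ C k ≠ C h := by
      by_contra hcon
      push Not at hcon
      obtain ⟨c, hc⟩ := scalar_of_commute htop (M := M) fun x hx => by
        rw [← hgen] at hx
        induction hx using Subgroup.closure_induction with
        | mem y hy =>
          obtain ⟨k, hk, s, hs, rfl⟩ := hy
          obtain ⟨a, ha⟩ : (s : Matrix ιι ιι F) ∈ φ.range := hrange ▸ mem_adj hs
          have hval : ((k * s * k⁻¹ : GL ιι F) : Matrix ιι ιι F) = ψ k a := by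
            show _ = cjA k (φ.toRingHom a)
            rw [ha]
            simp [mul_assoc]
          rw [hval]
          by_cases he : C k = R
          · obtain ⟨b, hb⟩ := hrng k hk he a
            show M * cjA k (φ a) = cjA k (φ a) * M
            rw [← hb]
            show M * φ b = φ b * M
            rw [hQ']
            exact hMφ b
          · obtain ⟨b, hb⟩ := hrng (h⁻¹ * k) (mul_mem (inv_mem hh) hk) (by
              rw [hCmul, hcon k hk he, ← hCmul, inv_mul_cancel, hC1]) a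
            have hb' : ψ h b = ψ k a := by
              show cjA h (φ.toRingHom b) = _
              rw [hb]
              exact (hmul h (h⁻¹ * k) a).trans (by rw [mul_inv_cancel_left])
            rw [← hb']
            exact hMψ b
        | one => simp
        | mul a b _ _ iha ihb => rw [Units.val_mul, ← mul_assoc, iha, mul_assoc, ihb, mul_assoc]
        | inv a _ iha => exact ((show Commute M (a : Matrix ιι ιι F) from iha).units_inv_right).eq
      exact hMs c hc
    have hneh : C h ≠ C 1 := by rw [hC1]; exact hne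
    have hall : ∀ l ∈ H, C l = C 1 ∨ C l = C h ∨ C l = C k := by
      intro l hl
      by_contra hcon
      push Not at hcon
      rw [hC1] at hcon
      exact hfour (ψ k) (ψ l) (fun a b => by rw [← hQ']; exact hψc k hk hkR a b)
        (fun a b => by rw [← hQ']; exact hψc l hl hcon.1 a b) (hCc k hk h hh hkh) (hCc l hl h hh hcon.2.1)
        (hCc l hl k hk hcon.2.2)
    let ks : Fin 3 → GL ιι F := ![1, h, k]
    have hks : ∀ i, ks i ∈ H := fun i => by fin_cases i <;> simp [ks, hh, hk]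
    have hinj : ∀ i j, C (ks i) = C (ks j) → i = j := by
      have h01 : C 1 ≠ C h := hneh.symm
      have h02 : C 1 ≠ C k := by rw [hC1]; exact hkR.symm
      intro i j hij
      fin_cases i <;> fin_cases j <;> first
        | rfl
        | exact absurd hij h01
        | exact absurd hij hneh
        | exact absurd hij h02
        | exact absurd hij h02.symm
        | exact absurd hij hkh
        | exact absurd hij hkh.symm
    -- elements of `S` have determinant one in the factor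
    have hinjφ : Function.Injective φ := hφ
    have hone : ∀ s ∈ S, ∀ a, φ a = (s : Matrix ιι ιι F) → a.det = 1 := by
      let K : Subgroup (GL ιι F) :=
        { carrier := {x | ∃ a, φ a = (x : Matrix ιι ιι F) ∧ a.det = 1}
          one_mem' := ⟨1, by simp, det_one⟩
          mul_mem' := fun {x y} ⟨a, ha, ha'⟩ ⟨b, hb, hb'⟩ =>
            ⟨a * b, by rw [map_mul, ha, hb, Units.val_mul], by rw [det_mul, ha', hb', one_mul]⟩
          inv_mem' := fun {x} ⟨a, ha, ha'⟩ => ⟨a.adjugate, Units.eq_inv_of_mul_eq_one_left (by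
              rw [← ha, ← map_mul, Matrix.mul_adjugate, ha', one_smul, map_one]),
            by rw [Matrix.det_adjugate, ha', one_pow]⟩ }
      intro s hs a ha
      have hle : ⁅S, S⁆ ≤ K := Subgroup.commutator_le.2 fun x hx y hy => by
        have hpre : ∀ z ∈ S, ∃ a, φ a = (z : Matrix ιι ιι F) := fun z hz => by
          obtain ⟨b, hb⟩ : (z : Matrix ιι ιι F) ∈ φ.range := hrange ▸ mem_adj hz
          exact ⟨b, hb⟩
        obtain ⟨a, ha⟩ := hpre x hx
        obtain ⟨b, hb⟩ := hpre y hy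
        obtain ⟨a', ha'⟩ := hpre x⁻¹ (inv_mem hx)
        obtain ⟨b', hb'⟩ := hpre y⁻¹ (inv_mem hy)
        have haa : a * a' = 1 := hinjφ (by rw [map_mul, ha, ha', Units.mul_inv, map_one])
        have hbb : b * b' = 1 := hinjφ (by rw [map_mul, hb, hb', Units.mul_inv, map_one])
        refine ⟨a * b * a' * b', by simp only [map_mul, ha, hb, ha', hb', commutatorElement_def, Units.val_mul], ?_⟩
        have h1 := congrArg Matrix.det haa
        have h2 := congrArg Matrix.det hbb
        rw [det_mul, det_one] at h1 h2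
        rw [det_mul, det_mul, det_mul]
        linear_combination b.det * b'.det * h1 + h2
      obtain ⟨b, hb, hb'⟩ := hle (hS'.symm ▸ hs)
      rw [hinjφ (ha.trans hb.symm), hb']
    have hSp : ∀ g ∈ H, ∀ u v : ιι → F, sympForm 4 F ((g : Matrix ιι ιι F) *ᵥ u) ((g : Matrix ιι ιι F) *ᵥ v) =
        sympForm 4 F u v := fun g hg u v => hH.1.le hg u v
    have hbil : IsBilinearForm (sympForm 4 F) := SympTwoPrime.sp_bilinear
    have hbase : ∀ y ∈ adj S, ∃ a, φ a = y ∧ ∀ u v : ιι → F,
        sympForm 4 F (φ a *ᵥ u) v = sympForm 4 F u (φ a.adjugate *ᵥ v) := by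
      intro y hy
      induction hy using Algebra.adjoin_induction with
      | mem y hy =>
        obtain ⟨s, hs, rfl⟩ := hy
        obtain ⟨a, ha⟩ : (s : Matrix ιι ιι F) ∈ φ.range := hrange ▸ mem_adj hs
        refine ⟨a, ha, fun u v => ?_⟩
        have hadj : φ a.adjugate = ((s⁻¹ : GL ιι F) : Matrix ιι ιι F) := Units.eq_inv_of_mul_eq_one_left (by
          rw [← ha]
          show φ a * φ a.adjugate = 1
          rw [← map_mul, Matrix.mul_adjugate, hone s hs a ha, one_smul, map_one])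
        rw [show φ a = (s : Matrix ιι ιι F) from ha, hadj]
        have h2 := hSp s (hPH (hSP hs)) u (((s⁻¹ : GL ιι F) : Matrix ιι ιι F) *ᵥ v)
        rwa [mulVec_mulVec, Units.mul_inv, one_mulVec] at h2
      | algebraMap c =>
        refine ⟨algebraMap F _ c, φ.commutes c, fun u v => ?_⟩
        have hadj : (algebraMap F (Matrix (Fin 2) (Fin 2) F) c).adjugate = algebraMap F _ c := by
          rw [Matrix.adjugate_fin_two]
          ext i j; fin_cases i <;> fin_cases j <;> simp [Matrix.algebraMap_matrix_apply]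
        rw [hadj, φ.commutes, Algebra.algebraMap_eq_smul_one, smul_mulVec, smul_mulVec, one_mulVec, one_mulVec,
          hbil.smul_left, hbil.smul_right]
      | add x z _ _ hx hz =>
        obtain ⟨a, ha, hA⟩ := hx
        obtain ⟨b, hb, hB⟩ := hz
        refine ⟨a + b, by rw [map_add, ha, hb], fun u v => ?_⟩
        have hadj : (a + b).adjugate = a.adjugate + b.adjugate := by
          simp only [Matrix.adjugate_fin_two]
          ext i j; fin_cases i <;> fin_cases j <;> simp [add_comm]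
        rw [hadj, map_add, map_add, add_mulVec, add_mulVec, hbil.add_left, hbil.add_right, hA, hB]
      | mul x z _ _ hx hz =>
        obtain ⟨a, ha, hA⟩ := hx
        obtain ⟨b, hb, hB⟩ := hz
        refine ⟨a * b, by rw [map_mul, ha, hb], fun u v => ?_⟩
        rw [Matrix.adjugate_mul_distrib, map_mul, map_mul, ← mulVec_mulVec, ← mulVec_mulVec, hA, hB]
    refine ⟨{ φ := fun i => ψ (ks i), commute := ?_, perm := ?_, adjoint := ?_ }⟩
    · exact fun i j hij => hCc _ (hks i) _ (hks j) fun he => hij (hinj i j he)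
    · intro g hg
      have hex : ∀ i, ∃ j, C (g * ks i) = C (ks j) := fun i => by
        rcases hall _ (mul_mem hg (hks i)) with he | he | he
        · exact ⟨0, he⟩
        · exact ⟨1, he⟩
        · exact ⟨2, he⟩
      choose σ hσ using hex
      have hσi : Function.Injective σ := fun i j hij => hinj i j (by
        have h2 : C (g * ks i) = C (g * ks j) := by rw [hσ, hσ, hij]
        rw [hCmul, hCmul] at h2
        exact Subgroup.map_injective (MulAut.conj g).injective h2)
      refine ⟨Equiv.ofBijective σ (Finite.injective_iff_bijective.1 hσi), fun i a => ?_⟩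
      obtain ⟨b, hb⟩ := hrng ((ks (σ i))⁻¹ * (g * ks i)) (mul_mem (inv_mem (hks _)) (mul_mem hg (hks i))) (by
        rw [hCmul, hσ, ← hCmul, inv_mul_cancel, hC1]) a
      refine ⟨b, ?_⟩
      show cjA (ks (σ i)) (φ.toRingHom b) = cjA g (ψ (ks i) a)
      rw [hb, hmul]
      exact (hmul (ks (σ i)) ((ks (σ i))⁻¹ * (g * ks i)) a).trans (by rw [mul_inv_cancel_left])
    · intro i a u v
      obtain ⟨b, hb, hB⟩ := hbase _ (hmem a)
      obtain rfl : b = a := hinjφ hb
      set g := ks i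
      show sympForm 4 F (cjA g (φ b) *ᵥ u) v = sympForm 4 F u (cjA g (φ b.adjugate) *ᵥ v)
      rw [cjA_apply, cjA_apply, ← hSp g⁻¹ (inv_mem (hks i)) _ v, ← hSp g⁻¹ (inv_mem (hks i)) u]
      simp only [mulVec_mulVec, ← mul_assoc, Units.inv_mul, one_mul]
      rw [← mulVec_mulVec, ← mulVec_mulVec, hB]
  left
  have hRP' : R = P := hmin R hRP (fun g hg x hx => (hfix g hg) ▸ ⟨x, hx, rfl⟩) hRsc
  subst hRP'
  refine ⟨hPH, hPn, hperf, ?_, ?_, fun h _ hh => hcomm h hh, absIrred_of_top htop⟩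
  · have hnt : Nontrivial (R ⧸ Sc.subgroupOf R) := by
      refine QuotientGroup.nontrivial_iff.2 fun hc => hRsc ?_
      exact Subgroup.subgroupOf_eq_top.1 hc
    refine IsSimpleGroup.mk fun U hU => ?_
    set V : Subgroup (GL ιι F) := (U.comap (QuotientGroup.mk' (Sc.subgroupOf R))).map R.subtype with hV
    have hUn : (U.comap (QuotientGroup.mk' (Sc.subgroupOf R))).Normal := hU.comap _
    have hVn : ∀ g ∈ R, ∀ x ∈ V, g * x * g⁻¹ ∈ V := by
      intro g hg x hx
      obtain ⟨y, hy, rfl⟩ := Subgroup.mem_map.1 hx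
      refine Subgroup.mem_map.2 ⟨(⟨g, hg⟩ : R) * y * (⟨g, hg⟩ : R)⁻¹, hUn.conj_mem y hy (⟨g, hg⟩ : R), ?_⟩
      simp only [map_mul, map_inv, Subgroup.coe_subtype]
    by_cases hVs : V ≤ Sc
    · left
      rw [eq_bot_iff]
      intro u hu
      obtain ⟨x, rfl⟩ := QuotientGroup.mk'_surjective _ u
      exact (QuotientGroup.eq_one_iff _).2 (Subgroup.mem_subgroupOf.2 (hVs ⟨x, hu, rfl⟩))
    · right
      have hVR : V = R := Subgroup.eq_of_le_of_card_ge (Subgroup.map_subtype_le _) (hRmin V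
        ⟨Subgroup.map_subtype_le _, fun x hx => ⟨⟨x, hx.1⟩, by
          show QuotientGroup.mk' _ _ ∈ U
          rw [QuotientGroup.mk'_apply, (QuotientGroup.eq_one_iff _).2 (Subgroup.mem_subgroupOf.2 hx.2)]
          exact U.one_mem, rfl⟩, hVn, hVs⟩)
      rw [eq_top_iff]
      intro u _
      obtain ⟨x, rfl⟩ := QuotientGroup.mk'_surjective _ u
      obtain ⟨y, hy, hyx⟩ := (hVR.symm ▸ x.2 : (x : GL ιι F) ∈ V)
      rwa [show y = x from Subtype.ext hyx] at hy
  · intro hc
    refine hRnab fun a ha b hb => ?_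
    have := hc.is_comm.comm (QuotientGroup.mk' (Sc.subgroupOf R) ⟨a, ha⟩) (QuotientGroup.mk' _ ⟨b, hb⟩)
    rw [← commutatorElement_eq_one_iff_mul_comm, ← map_commutatorElement, QuotientGroup.mk'_apply,
      QuotientGroup.eq_one_iff] at this
    exact Subgroup.mem_subgroupOf.1 this

end Cfsg.Agent.Lib.SympEight
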