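import Cfsg.Agent.Lib.SympEight.Defs
import Cfsg.Agent.Lib.SympTwoPrime.Proper

/-!
helper7: three commuting two-dimensional matrix algebras permuted by a maximal subgroup of the symplectic group in
dimension eight give the tensor cube, the orthogonal group in characteristic two, or a normalised two-group.
-/

set_option autoImplicit false
set_option linter.style.haveILetI false
set_option linter.unusedSectionVars false
set_option linter.unusedSimpArgs false
set_option linter.unusedVariables false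

namespace Cfsg.Agent.Lib.SympEight

open Matrix Cfsg.Geo
open scoped MatrixGroups Matrix

variable {F : Type*} [Field F]

local notation "II" => (Fin 4 ⊕ Fin 4)
local notation "MM" => Matrix (Fin 4 ⊕ Fin 4) (Fin 4 ⊕ Fin 4) F
local notation "VV" => (Fin 4 ⊕ Fin 4 → F)
local notation "GG" => GL (Fin 4 ⊕ Fin 4) F
local notation "M2" => Matrix (Fin 2) (Fin 2) F
local notation "ff" => Cfsg.sympForm 4 F
local notation "BB" => LinearMap.BilinForm
local notation "KK" => (Fin 3 → Fin 2)
local notation "AA" => Cfsg.Agent.Lib.MaxSub.stdAlt 4 F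

namespace CubeAux

/-- A matrix unit in the first column. -/
def colU (k : Fin 2) : M2 := Matrix.single k 0 1

/-- The alternating matrix of size two. -/
def jm : M2 := !![0, 1; -1, 0]

theorem mul_colU (A : M2) (k : Fin 2) : A * colU k = ∑ l, A l k • colU l := by
  ext i j
  fin_cases k <;> fin_cases i <;> fin_cases j <;> simp [colU, Matrix.mul_apply, Fin.sum_univ_two]

theorem adj_colU (i j : Fin 2) : (colU i : M2).adjugate * colU j = (jm : M2) i j • (colU 1 : M2) := by
  ext a b
  fin_cases i <;> fin_cases j <;> fin_cases a <;> fin_cases b <;>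
    simp [colU, jm, Matrix.adjugate_fin_two, Matrix.mul_apply]

/-- Functions on three letters as triples. -/
def triple : (Fin 2 × Fin 2 × Fin 2) ≃ KK where
  toFun p := ![p.1, p.2.1, p.2.2]
  invFun a := (a 0, a 1, a 2)
  left_inv p := rfl
  right_inv a := by funext i; fin_cases i <;> rfl

theorem sum_KK {M : Type*} [AddCommMonoid M] (g : KK → M) :
    ∑ a, g a = g ![0, 0, 0] + g ![0, 0, 1] + (g ![0, 1, 0] + g ![0, 1, 1]) +
      ((g ![1, 0, 0] + g ![1, 0, 1]) + (g ![1, 1, 0] + g ![1, 1, 1])) := by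
  rw [← triple.sum_comp]
  simp only [Fintype.sum_prod_type, Fin.sum_univ_two]
  rfl

end CubeAux

open CubeAux

namespace CubeData

variable {H : Subgroup (GL (Fin 4 ⊕ Fin 4) F)} (D : CubeData H)

/-- The product of the three images. -/
def T (X : Fin 3 → M2) : MM := D.φ 0 (X 0) * D.φ 1 (X 1) * D.φ 2 (X 2)

theorem T_mul (X Y : Fin 3 → M2) : D.T X * D.T Y = D.T (fun i => X i * Y i) := by
  simp only [T, map_mul]
  have e1 : ∀ Z, D.φ 2 (X 2) * (D.φ 0 (Y 0) * Z) = D.φ 0 (Y 0) * (D.φ 2 (X 2) * Z) := fun Z => by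
    rw [← mul_assoc, D.commute 2 0 (by decide), mul_assoc]
  have e2 : ∀ Z, D.φ 1 (X 1) * (D.φ 0 (Y 0) * Z) = D.φ 0 (Y 0) * (D.φ 1 (X 1) * Z) := fun Z => by
    rw [← mul_assoc, D.commute 1 0 (by decide), mul_assoc]
  have e3 : ∀ Z, D.φ 2 (X 2) * (D.φ 1 (Y 1) * Z) = D.φ 1 (Y 1) * (D.φ 2 (X 2) * Z) := fun Z => by
    rw [← mul_assoc, D.commute 2 1 (by decide), mul_assoc]
  simp only [mul_assoc, e1, e2, e3]

theorem T_one : D.T (fun _ => 1) = 1 := by simp [T]

theorem T_single (j : Fin 3) (Y : M2) : D.T (Pi.mulSingle j Y) = D.φ j Y := by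
  fin_cases j <;> simp [T, Pi.mulSingle_apply]

theorem T_zero {X : Fin 3 → M2} {i : Fin 3} (h : X i = 0) : D.T X = 0 := by
  fin_cases i <;> simp at h <;> simp [T, h]

theorem T_smul (c : Fin 3 → F) (X : Fin 3 → M2) : D.T (fun i => c i • X i) = (∏ i, c i) • D.T X := by
  simp only [T, map_smul, smul_mul_assoc, mul_smul_comm, smul_smul, Fin.prod_univ_three]
  congr 1
  ring

theorem T_sum (c : Fin 3 → Fin 2 → F) (U : Fin 2 → M2) :
    D.T (fun i => ∑ k, c i k • U k) = ∑ b : KK, (∏ i, c i (b i)) • D.T (fun i => U (b i)) := by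
  rw [sum_KK]
  simp only [T, Fin.sum_univ_two, map_add, map_smul, add_mul, mul_add, smul_mul_assoc, mul_smul_comm, smul_smul,
    Fin.prod_univ_three, Matrix.cons_val_zero, Matrix.cons_val_one, Matrix.cons_val]
  module

theorem reorder (a b c : Fin 3) (hab : a ≠ b) (hac : a ≠ c) (hbc : b ≠ c) (Y : Fin 3 → M2) :
    D.φ a (Y a) * D.φ b (Y b) * D.φ c (Y c) = D.T Y := by
  have s10 := D.commute 1 0 (by decide) (Y 1) (Y 0)
  have s20 := D.commute 2 0 (by decide) (Y 2) (Y 0)
  have s21 := D.commute 2 1 (by decide) (Y 2) (Y 1)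
  fin_cases a <;> fin_cases b <;> fin_cases c <;> simp at hab hac hbc <;> simp only [T] <;>
    simp [s10, s20, s21, mul_assoc] <;> first
      | rw [← mul_assoc, s20, mul_assoc, s21]
      | rw [← mul_assoc, s10, mul_assoc]

theorem T_adjoint (X : Fin 3 → M2) (u v : VV) :
    ff (D.T X *ᵥ u) v = ff u (D.T (fun i => (X i).adjugate) *ᵥ v) := by
  rw [T, ← Matrix.mulVec_mulVec, ← Matrix.mulVec_mulVec, D.adjoint, D.adjoint, D.adjoint,
    Matrix.mulVec_mulVec, Matrix.mulVec_mulVec,
    D.reorder 2 1 0 (by decide) (by decide) (by decide) (fun i => (X i).adjugate)]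

/-- The product of the corner units. -/
def corner : MM := D.T (fun _ => colU 0)

theorem corner_ne : D.corner ≠ 0 := by
  intro h
  have hz : ∀ a : KK, D.T (fun i => Matrix.single (a i) (a i) (1 : F)) = 0 := by
    intro a
    have e : D.T (fun i => Matrix.single (a i) 0 (1 : F)) * D.corner *
        D.T (fun i => Matrix.single 0 (a i) (1 : F)) = D.T (fun i => Matrix.single (a i) (a i) (1 : F)) := by
      simp [corner, T_mul, colU]
    rw [← e, h, mul_zero, zero_mul]
  have h1 : D.T (fun _ => (1 : M2)) = 0 := by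
    have : (fun _ : Fin 3 => (1 : M2)) = fun _ => ∑ k, (1 : F) • Matrix.single k k (1 : F) := by
      funext i
      ext a b
      fin_cases a <;> fin_cases b <;> simp [Fin.sum_univ_two]
    rw [this, D.T_sum]
    exact Finset.sum_eq_zero fun b _ => by rw [hz b, smul_zero]
  rw [T_one] at h1
  exact one_ne_zero h1

theorem phi_inj (i : Fin 3) {Y : M2} (h : D.φ i Y = 0) : Y = 0 := by
  ext j k
  by_contra hjk
  have h00 : D.φ i (colU 0) = 0 := by
    have e : (colU 0 : M2) = (Y j k)⁻¹ • (Matrix.single 0 j (1 : F) * Y * Matrix.single k 0 (1 : F)) := by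
      rw [Matrix.single_mul_mul_single]
      simp [colU, Matrix.smul_single, inv_mul_cancel₀ (show Y j k ≠ 0 from hjk)]
    rw [e, map_smul, map_mul, map_mul, h, mul_zero, zero_mul, smul_zero]
  refine D.corner_ne ?_
  fin_cases i <;> simp at h00 <;> simp [corner, T, h00]

theorem phi_injective (i : Fin 3) : Function.Injective (D.φ i) :=
  (injective_iff_map_eq_zero (D.φ i)).mpr fun _ h => D.phi_inj i h

theorem exists_vector : ∃ v : VV, v ≠ 0 ∧ D.corner *ᵥ v = v := by
  obtain ⟨x, hx⟩ : ∃ x : VV, D.corner *ᵥ x ≠ 0 := by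
    by_contra hc
    push Not at hc
    exact D.corner_ne (Matrix.ext_of_mulVec_single fun i => by rw [hc, Matrix.zero_mulVec])
  exact ⟨_, hx, by rw [Matrix.mulVec_mulVec]; simp [corner, T_mul, colU]⟩

variable {v : Fin 4 ⊕ Fin 4 → F}

/-- The frame vectors. -/
def vec (v : VV) (a : KK) : VV := D.T (fun i => colU (a i)) *ᵥ v

theorem vec_zero (hv : D.corner *ᵥ v = v) : D.vec v (fun _ => 0) = v := hv

theorem unit_vec (b c a : KK) (v : VV) :
    D.T (fun i => Matrix.single (b i) (c i) (1 : F)) *ᵥ D.vec v a = if c = a then D.vec v b else 0 := by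
  rw [vec, Matrix.mulVec_mulVec, T_mul]
  split_ifs with h
  · subst h
    simp [colU, vec]
  · obtain ⟨i, hi⟩ := Function.ne_iff.1 h
    rw [D.T_zero (i := i) (by simp [colU, Matrix.single_mul_single_of_ne, hi]), Matrix.zero_mulVec]

theorem linearIndependent (hv0 : v ≠ 0) (hv : D.corner *ᵥ v = v) : LinearIndependent F (D.vec v) := by
  classical
  rw [Fintype.linearIndependent_iff]
  intro g hg b
  have h := congrArg (fun x => D.T (fun i => Matrix.single (0 : Fin 2) (b i) (1 : F)) *ᵥ x) hg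
  simp only [Matrix.mulVec_sum, Matrix.mulVec_smul, Matrix.mulVec_zero] at h
  simp only [D.unit_vec (fun _ => 0) b] at h
  rw [Finset.sum_eq_single b (fun a _ ha => by rw [if_neg (Ne.symm ha), smul_zero])
    (fun hb => absurd (Finset.mem_univ b) hb), if_pos rfl, D.vec_zero hv] at h
  exact (smul_eq_zero.mp h).resolve_right hv0

/-- The frame as a linear equivalence. -/
noncomputable def frame (hv0 : v ≠ 0) (hv : D.corner *ᵥ v = v) : (KK → F) ≃ₗ[F] VV :=
  (basisOfLinearIndependentOfCardEqFinrank (D.linearIndependent hv0 hv)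
    (by simp [Module.finrank_fintype_fun_eq_card])).equivFun.symm

theorem frame_apply (hv0 : v ≠ 0) (hv : D.corner *ᵥ v = v) (x : KK → F) :
    D.frame hv0 hv x = ∑ a, x a • D.vec v a := by
  simp [frame, Module.Basis.equivFun_symm_apply]

theorem exists_coord (hv0 : v ≠ 0) (hv : D.corner *ᵥ v = v) (y : VV) :
    ∃ x : KK → F, y = ∑ a, x a • D.vec v a := by
  obtain ⟨x, rfl⟩ := (D.frame hv0 hv).surjective y
  exact ⟨x, D.frame_apply hv0 hv x⟩

theorem corner_line (hv0 : v ≠ 0) (hv : D.corner *ᵥ v = v) (y : VV) : ∃ c : F, D.corner *ᵥ y = c • v := by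
  classical
  obtain ⟨x, rfl⟩ := D.exists_coord hv0 hv y
  refine ⟨x (fun _ => 0), ?_⟩
  simp only [Matrix.mulVec_sum, Matrix.mulVec_smul, corner, colU]
  simp only [D.unit_vec (fun _ => 0) (fun _ => 0)]
  rw [Finset.sum_eq_single (fun _ => (0 : Fin 2)) (fun a _ ha => by rw [if_neg (Ne.symm ha), smul_zero])
    (fun hb => absurd (Finset.mem_univ _) hb), if_pos rfl, D.vec_zero hv]

/-- The value of the form on the two opposite corners. -/
def scale (v : VV) : F := ff v (D.vec v fun _ => 1)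

theorem form_vec (v : VV) (a b : KK) : ff (D.vec v a) (D.vec v b) = (∏ i, (jm : M2) (a i) (b i)) * D.scale v := by
  rw [vec, D.T_adjoint, vec, Matrix.mulVec_mulVec, T_mul]
  simp only [adj_colU]
  rw [T_smul, Matrix.smul_mulVec, ← MaxSub.stdAlt_apply, map_smul, smul_eq_mul, MaxSub.stdAlt_apply]
  rfl

theorem form_sum (v : VV) (x y : KK → F) :
    ff (∑ a, x a • D.vec v a) (∑ b, y b • D.vec v b) =
      D.scale v * ∑ a, ∑ b, x a * (∏ i, (jm : M2) (a i) (b i)) * y b := by
  rw [← MaxSub.stdAlt_apply]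
  simp only [map_sum, map_smul, LinearMap.sum_apply, LinearMap.smul_apply, smul_eq_mul, MaxSub.stdAlt_apply,
    D.form_vec, Finset.mul_sum]
  rw [Finset.sum_comm]
  refine Finset.sum_congr rfl fun a _ => Finset.sum_congr rfl fun b _ => ?_
  ring

theorem scale_ne (hv0 : v ≠ 0) (hv : D.corner *ᵥ v = v) : D.scale v ≠ 0 := by
  intro h
  refine hv0 ((AA).nondeg v fun y => ?_)
  obtain ⟨x, rfl⟩ := D.exists_coord hv0 hv y
  simp only [map_sum, map_smul, LinearMap.sum_apply, LinearMap.smul_apply, smul_eq_mul, MaxSub.stdAlt_apply]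
  refine Finset.sum_eq_zero fun a _ => ?_
  have h1 := D.form_vec v a (fun _ => 0)
  rw [D.vec_zero hv] at h1
  rw [h1, h, mul_zero, mul_zero]

theorem conj_algebra {h : GG} {i j : Fin 3}
    (hp : ∀ X, (h : MM) * D.φ i X * ((h⁻¹ : GG) : MM) ∈ (D.φ j).range) :
    ∃ C : GL (Fin 2) F, ∀ X, (h : MM) * D.φ i X * ((h⁻¹ : GG) : MM) =
      D.φ j ((C : M2) * X * ((C⁻¹ : GL (Fin 2) F) : M2)) := by
  classical
  choose ψ hψ using fun X => (AlgHom.mem_range _).mp (hp X)
  have inj := D.phi_injective j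
  have hmul : ∀ X Y, ψ (X * Y) = ψ X * ψ Y := fun X Y => inj (by
    rw [map_mul, hψ, hψ, hψ, map_mul]
    simp only [mul_assoc]
    rw [← mul_assoc ((h⁻¹ : GG) : MM) (h : MM), ← Units.val_mul, inv_mul_cancel, Units.val_one, one_mul])
  have hadd : ∀ X Y, ψ (X + Y) = ψ X + ψ Y := fun X Y => inj (by
    rw [map_add, hψ, hψ, hψ, map_add, mul_add, add_mul])
  have hsmul : ∀ (c : F) X, ψ (c • X) = c • ψ X := fun c X => inj (by
    rw [map_smul, hψ, hψ, map_smul, mul_smul_comm, smul_mul_assoc])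
  have h00 : ψ (colU 0) ≠ 0 := by
    intro h0
    have h1 := hψ (colU 0)
    rw [h0, map_zero] at h1
    have h2 : D.φ i (colU 0) = 0 := by
      have := congrArg (fun A => ((h⁻¹ : GG) : MM) * A * (h : MM)) h1
      simpa [mul_assoc, ← Units.val_mul] using this.symm
    have := D.phi_inj i h2
    simpa [colU] using congrFun (congrFun this 0) 0
  obtain ⟨x, hx⟩ : ∃ x : Fin 2 → F, ψ (colU 0) *ᵥ x ≠ 0 := by
    by_contra hc
    push Not at hc
    exact h00 (Matrix.ext_of_mulVec_single fun l => by rw [hc, Matrix.zero_mulVec])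
  let u : Fin 2 → F := ψ (colU 0) *ᵥ x
  let C0 : M2 := Matrix.of fun r k => (ψ (colU k) *ᵥ u) r
  have hC : ∀ y : Fin 2 → F, C0 *ᵥ y = y 0 • (ψ (colU 0) *ᵥ u) + y 1 • (ψ (colU 1) *ᵥ u) := by
    intro y
    funext r
    simp [C0, Matrix.mulVec, dotProduct, Fin.sum_univ_two]
    fin_cases r <;> simp <;> ring
  have key : ∀ X : M2, ψ X * C0 = C0 * X := by
    intro X
    refine Matrix.ext_of_mulVec_single fun k => ?_
    rw [← Matrix.mulVec_mulVec, ← Matrix.mulVec_mulVec]
    have e1 : C0 *ᵥ Pi.single k 1 = ψ (colU k) *ᵥ u := by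
      rw [hC]; fin_cases k <;> simp
    have e2 : X *ᵥ Pi.single k 1 = fun l => X l k := by
      funext l; simp [Matrix.mulVec_single_one]
    rw [e1, e2, hC, Matrix.mulVec_mulVec, ← hmul, mul_colU, Fin.sum_univ_two, hadd, hsmul, hsmul,
      Matrix.add_mulVec, Matrix.smul_mulVec, Matrix.smul_mulVec]
  have hu : ψ (colU 0) *ᵥ u = u := by
    show ψ (colU 0) *ᵥ (ψ (colU 0) *ᵥ x) = ψ (colU 0) *ᵥ x
    rw [Matrix.mulVec_mulVec, ← hmul]
    simp [colU]
  have hinj : Function.Injective C0.mulVec := by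
    have h0 : ∀ y, C0 *ᵥ y = 0 → y = 0 := by
      intro y hy
      funext l
      have h1 := congrArg (fun z => ψ (Matrix.single 0 l (1 : F)) *ᵥ z) hy
      simp only [Matrix.mulVec_zero] at h1
      rw [Matrix.mulVec_mulVec, key, ← Matrix.mulVec_mulVec] at h1
      have e : (Matrix.single 0 l (1 : F) : M2) *ᵥ y = ![y l, 0] := by
        funext r
        fin_cases r <;> fin_cases l <;> simp [Matrix.mulVec, dotProduct, Fin.sum_univ_two]
      rw [e, hC] at h1
      simp only [Matrix.cons_val_zero, Matrix.cons_val_one, zero_smul, add_zero, hu] at h1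
      exact (smul_eq_zero.mp h1).resolve_right hx
    intro y y' hyy
    exact sub_eq_zero.mp (h0 _ (by rw [Matrix.mulVec_sub]; exact sub_eq_zero.mpr hyy))
  obtain ⟨C, hCeq⟩ := Matrix.mulVec_injective_iff_isUnit.mp hinj
  refine ⟨C, fun X => ?_⟩
  rw [← hψ X]
  congr 1
  rw [hCeq, ← key X, ← hCeq, mul_assoc, ← Units.val_mul, mul_inv_cancel, Units.val_one, mul_one]

theorem conj_T {h : GG} (hh : h ∈ H) : ∃ (σ : Equiv.Perm (Fin 3)) (E : Fin 3 → GL (Fin 2) F),
    ∀ X, (h : MM) * D.T X * ((h⁻¹ : GG) : MM) =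
      D.T (fun j => (E j : M2) * X (σ.symm j) * (((E j)⁻¹ : GL (Fin 2) F) : M2)) := by
  obtain ⟨σ, hσ⟩ := D.perm h hh
  choose C hC using fun i => D.conj_algebra (hσ i)
  refine ⟨σ, fun j => C (σ.symm j), fun X => ?_⟩
  have hsplit : (h : MM) * D.T X * ((h⁻¹ : GG) : MM) = ((h : MM) * D.φ 0 (X 0) * ((h⁻¹ : GG) : MM)) *
      ((h : MM) * D.φ 1 (X 1) * ((h⁻¹ : GG) : MM)) * ((h : MM) * D.φ 2 (X 2) * ((h⁻¹ : GG) : MM)) := by
    simp only [T, mul_assoc, ← mul_assoc ((h⁻¹ : GG) : MM) (h : MM), ← Units.val_mul, inv_mul_cancel,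
      Units.val_one, one_mul]
  rw [hsplit, hC, hC, hC]
  rw [← D.reorder (σ 0) (σ 1) (σ 2) (by simp) (by simp) (by simp)]
  simp only [Equiv.symm_apply_apply]

/-- The shape of the elements of `H` in the frame. -/
theorem act (hv0 : v ≠ 0) (hv : D.corner *ᵥ v = v) {h : GG} (hh : h ∈ H) :
    ∃ (σ : Equiv.Perm (Fin 3)) (E : Fin 3 → GL (Fin 2) F) (c : Fˣ), ∀ a : KK,
      (h : MM) *ᵥ D.vec v a =
        ∑ b : KK, ((c : F) * ∏ j, ((E j : M2) (b j) (a (σ.symm j)))) • D.vec v b := by
  obtain ⟨σ, E, hE⟩ := D.conj_T hh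
  have hmove : ∀ X y, (h : MM) *ᵥ (D.T X *ᵥ y) =
      D.T (fun j => (E j : M2) * X (σ.symm j) * (((E j)⁻¹ : GL (Fin 2) F) : M2)) *ᵥ ((h : MM) *ᵥ y) := by
    intro X y
    rw [← hE, Matrix.mulVec_mulVec, Matrix.mulVec_mulVec]
    congr 1
    simp [mul_assoc, ← Units.val_mul]
  have hsplit : ∀ X : Fin 3 → M2,
      D.T (fun j => (E j : M2) * X j * (((E j)⁻¹ : GL (Fin 2) F) : M2)) =
        D.T (fun j => (E j : M2) * X j) * D.T (fun j => (((E j)⁻¹ : GL (Fin 2) F) : M2)) := by
    intro X; rw [T_mul]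
  obtain ⟨c, hc⟩ := D.corner_line hv0 hv (D.T (fun j => (((E j)⁻¹ : GL (Fin 2) F) : M2)) *ᵥ ((h : MM) *ᵥ v))
  have hhv : (h : MM) *ᵥ v = c • (D.T (fun j => (E j : M2)) *ᵥ v) := by
    conv_lhs => rw [← hv, corner]
    rw [hmove, hsplit, ← Matrix.mulVec_mulVec, ← Matrix.mulVec_smul, ← hc]
    simp only [corner, Matrix.mulVec_mulVec, T_mul, ← mul_assoc]
  have hc0 : c ≠ 0 := by
    intro h0
    rw [h0, zero_smul] at hhv
    refine hv0 ?_
    have := congrArg (fun z => ((h⁻¹ : GG) : MM) *ᵥ z) hhv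
    simpa [Matrix.mulVec_mulVec, ← Units.val_mul] using this
  refine ⟨σ, E, Units.mk0 c hc0, fun a => ?_⟩
  have hid : D.T (fun j => (((E j)⁻¹ : GL (Fin 2) F) : M2)) *ᵥ (D.T (fun j => (E j : M2)) *ᵥ v) = v := by
    rw [Matrix.mulVec_mulVec, T_mul]
    simp [← Units.val_mul, T_one]
  rw [vec, hmove, hsplit, ← Matrix.mulVec_mulVec, hhv, Matrix.mulVec_smul, hid, Matrix.mulVec_smul]
  simp only [mul_colU]
  rw [D.T_sum (fun j l => (E j : M2) l (a (σ.symm j))) colU, Matrix.sum_mulVec, Finset.smul_sum]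
  refine Finset.sum_congr rfl fun b _ => ?_
  rw [Matrix.smul_mulVec, smul_smul]
  rfl

end CubeData

namespace CubeAux

theorem jm_form : gramMatrix (fun u w : Fin 2 → F => u 0 * w 1 - u 1 * w 0) = (jm : M2) := by
  ext i j
  fin_cases i <;> fin_cases j <;> simp [gramMatrix, jm]

theorem det_symplectic : IsSymplecticForm (fun u w : Fin 2 → F => u 0 * w 1 - u 1 * w 0) := by
  refine ⟨⟨?_, ?_, ?_, ?_⟩, fun v w => by ring, fun v => by ring, ?_⟩
  any_goals intro x y z; simp only [Pi.add_apply, Pi.smul_apply, smul_eq_mul]; ring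
  intro v hv
  obtain ⟨i, hi⟩ := Function.ne_iff.1 hv
  fin_cases i
  · exact ⟨⟨![0, 1], by simpa using hi⟩, ![0, 1], by simpa using hi⟩
  · exact ⟨⟨![1, 0], by simpa using hi⟩, ![1, 0], by simpa using hi⟩

/-- A monomial in three tensor factors lies in the standard tensor wreath subgroup. -/
theorem exists_wreath (gs : Fin 3 → GL (Fin 2) F) (σ : Equiv.Perm (Fin 3)) :
    ∃ W : GL KK F, W ∈ tensorWreathStandard 2 3 F ∧
      ∀ b a : KK, (W : Matrix KK KK F) b a = ∏ j, (gs j : M2) (b j) (a (σ.symm j)) := by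
  classical
  let pm : (Fin 3 → GL (Fin 2) F) → Matrix KK KK F := fun g =>
    Matrix.of fun x y => ∏ i, (g i : M2) (x i) (y i)
  have pmul : ∀ g g' : Fin 3 → GL (Fin 2) F, pm g * pm g' = pm (fun i => g i * g' i) := by
    intro g g'
    ext x z
    simp only [pm, Matrix.mul_apply, Matrix.of_apply, Units.val_mul, Fintype.prod_sum, Finset.prod_mul_distrib]
  have pone : pm (fun _ => 1) = 1 := by
    ext x y
    by_cases hxy : x = y
    · subst hxy; simp [pm]
    · obtain ⟨i, hi⟩ := Function.ne_iff.1 hxy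
      simp only [pm, Matrix.of_apply, Matrix.one_apply, if_neg hxy]
      exact Finset.prod_eq_zero (Finset.mem_univ i) (by simp [hi])
  let G : GL KK F := ⟨pm gs, pm (fun i => (gs i)⁻¹), by rw [pmul]; simpa using pone, by rw [pmul]; simpa using pone⟩
  let qm : Equiv.Perm (Fin 3) → Matrix KK KK F := fun τ => Matrix.of fun x y => if y = x ∘ τ then 1 else 0
  have qmul : ∀ τ : Equiv.Perm (Fin 3), qm τ * qm τ.symm = 1 := by
    intro τ
    ext x z
    simp only [qm, Matrix.mul_apply, Matrix.of_apply, boole_mul, Finset.sum_ite_eq', Finset.mem_univ, if_true,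
      Matrix.one_apply, Function.comp_assoc, Equiv.self_comp_symm, Function.comp_id]
    exact if_congr eq_comm rfl rfl
  let Pg : GL KK F := ⟨qm σ, qm σ.symm, qmul σ, by simpa using qmul σ.symm⟩
  refine ⟨G * Pg, Subgroup.mul_mem _ (Subgroup.subset_closure (Or.inl ⟨gs, fun x y => rfl⟩))
    (Subgroup.subset_closure (Or.inr ⟨σ, fun x y => rfl⟩)), fun b a => ?_⟩
  show (pm gs * qm σ) b a = _
  rw [Matrix.mul_apply, Finset.sum_eq_single (a ∘ σ.symm)]
  · simp [pm, qm, Function.comp_assoc]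
  · intro c _ hc
    simp only [qm, Matrix.of_apply]
    rw [if_neg, mul_zero]
    intro hca
    exact hc (by rw [hca, Function.comp_assoc, Equiv.self_comp_symm, Function.comp_id])
  · intro h; exact absurd (Finset.mem_univ _) h

/-- Pure tensors. -/
def Pure (x : KK → F) : Prop := ∃ u : Fin 3 → Fin 2 → F, ∀ a, x a = ∏ i, u i (a i)

theorem pure_mem [Finite F] {g : GL KK F} (hg : g ∈ tensorWreathStandard 2 3 F) :
    ∀ {x : KK → F}, Pure x → Pure ((g : Matrix KK KK F) *ᵥ x) := by
  unfold tensorWreathStandard at hg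
  induction hg using Subgroup.closure_induction with
  | mem g hg =>
    rintro x ⟨u, hu⟩
    rcases hg with ⟨gs, hgs⟩ | ⟨σ, hσ⟩
    · refine ⟨fun i => (gs i : M2) *ᵥ u i, fun a => ?_⟩
      simp only [Matrix.mulVec, dotProduct, hgs, hu, Fintype.prod_sum, Finset.prod_mul_distrib]
    · refine ⟨fun i => u (σ.symm i), fun a => ?_⟩
      have he : ((g : Matrix KK KK F) *ᵥ x) a = x (a ∘ σ) := by simp [Matrix.mulVec, dotProduct, hσ]
      rw [he, hu]
      exact Fintype.prod_equiv σ _ _ fun i => by simp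
  | one => intro x hx; simpa using hx
  | mul a b _ _ ha hb => intro x hx; rw [Units.val_mul, ← Matrix.mulVec_mulVec]; exact ha (hb hx)
  | inv a _ ha =>
    intro x hx
    have hpow : ∀ k : ℕ, ∀ x, Pure x → Pure (((a ^ k : GL KK F) : Matrix KK KK F) *ᵥ x) := by
      intro k
      induction k with
      | zero => intro x hx; simpa using hx
      | succ k ih => intro x hx; rw [pow_succ, Units.val_mul, ← Matrix.mulVec_mulVec]; exact ih _ (ha hx)
    haveI : Finite (GL KK F) := inferInstance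
    obtain ⟨k, hk⟩ : ∃ k : ℕ, a ^ k = a⁻¹ := ⟨orderOf a - 1, by
      refine eq_inv_of_mul_eq_one_left ?_
      rw [← pow_succ, Nat.sub_add_cancel (isOfFinOrder_of_finite a).orderOf_pos, pow_orderOf_eq_one]⟩
    rw [← hk]
    exact hpow k x hx

/-- The reindexed action. -/
theorem reindex_mulVec (e : II ≃ KK) (W : GL KK F) (x : KK → F) :
    ((glReindex e.symm W : GG) : MM) *ᵥ (x ∘ e) = ((W : Matrix KK KK F) *ᵥ x) ∘ e := by
  show Matrix.reindex e.symm e.symm (W : Matrix _ _ F) *ᵥ _ = _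
  rw [Matrix.reindex_apply, Equiv.symm_symm, Matrix.submatrix_mulVec_equiv, Function.comp_assoc,
    Equiv.self_comp_symm, Function.comp_id]

/-- The quadratic form vanishing on pure tensors. -/
def qf (c : F) (x : KK → F) : F :=
  c * (x ![0, 0, 0] * x ![1, 1, 1] + x ![0, 0, 1] * x ![1, 1, 0] + x ![0, 1, 0] * x ![1, 0, 1] +
    x ![0, 1, 1] * x ![1, 0, 0])

/-- The eight elements of the quaternion group inside `SL₂(3)`. -/
def Quat (X : M2) : Prop := X.det = 1 ∧ (X 0 0 + X 1 1 = 0 ∨ ∃ a : F, X = a • (1 : M2))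

theorem quat_one : Quat (1 : M2) := ⟨Matrix.det_one, Or.inr ⟨1, (one_smul _ _).symm⟩⟩

theorem quat_sq {X : M2} (h : Quat X) : ∃ a : F, X * X = a • (1 : M2) := by
  obtain ⟨hd, h | ⟨a, rfl⟩⟩ := h
  · refine ⟨-1, ?_⟩
    rw [Matrix.det_fin_two] at hd
    have h11 : X 1 1 = -X 0 0 := by linear_combination h
    ext i j
    fin_cases i <;> fin_cases j <;> simp [Matrix.mul_apply, Fin.sum_univ_two, h11] <;>
      first | ring1 | linear_combination (-1 : F) * hd + X 0 0 * h
  · exact ⟨a * a, by rw [smul_mul_smul_comm, one_mul]⟩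

theorem quat_adj {X : M2} (h : Quat X) : Quat X.adjugate := by
  obtain ⟨hd, h | ⟨a, rfl⟩⟩ := h
  · refine ⟨by rw [Matrix.det_adjugate, hd, one_pow], Or.inl ?_⟩
    simp [Matrix.adjugate_fin_two]
    linear_combination h
  · refine ⟨by rw [Matrix.det_adjugate, hd, one_pow], Or.inr ⟨a, ?_⟩⟩
    ext i j
    fin_cases i <;> fin_cases j <;> simp [Matrix.adjugate_fin_two]

theorem quat_conj (g : GL (Fin 2) F) {X : M2} (h : Quat X) :
    Quat ((g : M2) * X * ((g⁻¹ : GL (Fin 2) F) : M2)) := by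
  obtain ⟨hd, h⟩ := h
  refine ⟨?_, ?_⟩
  · rw [Matrix.det_mul, Matrix.det_mul, mul_comm, ← mul_assoc, ← Matrix.det_mul, ← Units.val_mul,
      inv_mul_cancel, Units.val_one, Matrix.det_one, one_mul, hd]
  · rcases h with h | ⟨a, rfl⟩
    · left
      have : ((g : M2) * X * ((g⁻¹ : GL (Fin 2) F) : M2)).trace = X.trace := by
        rw [Matrix.trace_mul_cycle, ← Units.val_mul, inv_mul_cancel, Units.val_one, one_mul]
      rw [Matrix.trace_fin_two, Matrix.trace_fin_two] at this
      rw [this, h]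
    · exact Or.inr ⟨a, by simp [← Units.val_mul]⟩

theorem three_cases [Fintype F] (h3 : Fintype.card F = 3) :
    (3 : F) = 0 ∧ ∀ x : F, x = 0 ∨ x = 1 ∨ x = -1 := by
  constructor
  · have := FiniteField.cast_card_eq_zero F
    rw [h3] at this
    exact_mod_cast this
  · intro x
    by_cases hx : x = 0
    · exact Or.inl hx
    · have h := FiniteField.pow_card_sub_one_eq_one x hx
      rw [h3] at h
      have : (x - 1) * (x + 1) = 0 := by linear_combination h
      rcases mul_eq_zero.mp this with h' | h'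
      · exact Or.inr (Or.inl (sub_eq_zero.mp h'))
      · exact Or.inr (Or.inr (eq_neg_of_add_eq_zero_left h'))

/-- The three generators up to sign. -/
theorem quat_list [Fintype F] (h3 : Fintype.card F = 3) {X : M2} (hd : X.det = 1) (ht : X 0 0 + X 1 1 = 0) :
    ∃ s : F, (s = 1 ∨ s = -1) ∧ (X = s • !![0, -1; 1, 0] ∨ X = s • !![1, 1; 1, -1] ∨ X = s • !![-1, 1; 1, 1]) := by
  obtain ⟨h30, hF⟩ := three_cases h3
  have h11 : X 1 1 = -X 0 0 := by linear_combination ht
  have hX : X = !![X 0 0, X 0 1; X 1 0, -X 0 0] := by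
    conv_lhs => rw [Matrix.eta_fin_two X, h11]
  rw [Matrix.det_fin_two, h11] at hd
  have hne : (1 : F) ≠ 0 := one_ne_zero
  have h2 : (2 : F) = -1 := by linear_combination h30
  rw [hX]
  rcases hF (X 0 0) with ha | ha | ha <;> rcases hF (X 0 1) with hb | hb | hb <;>
    rcases hF (X 1 0) with hc | hc | hc <;> rw [ha, hb, hc] at hd ⊢ <;>
    first
      | (exfalso; apply hne; linear_combination (-1 : F) * hd)
      | (exfalso; apply hne; linear_combination hd + (0 : F) * h30)
      | (exfalso; apply hne; linear_combination hd + h30)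
      | (exfalso; apply hne; linear_combination (-1 : F) * hd - h30)
      | (exfalso; apply hne; linear_combination h30 - hd)
      | (exfalso; apply hne; linear_combination hd - h30)
      | (refine ⟨1, Or.inl rfl, ?_⟩; simp; done)
      | (refine ⟨-1, Or.inr rfl, ?_⟩; simp; done)

theorem quat_smul {X : M2} (h : Quat X) {s : F} (hs : s = 1 ∨ s = -1) : Quat (s • X) := by
  obtain ⟨hd, h⟩ := h
  refine ⟨?_, ?_⟩
  · rw [Matrix.det_smul, hd, mul_one, Fintype.card_fin]; rcases hs with rfl | rfl <;> ring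
  · rcases h with h | ⟨a, rfl⟩
    · exact Or.inl (by simp only [Matrix.smul_apply, smul_eq_mul]; linear_combination s * h)
    · exact Or.inr ⟨s * a, smul_smul _ _ _⟩

theorem quat_mul [Fintype F] (h3 : Fintype.card F = 3) {X Y : M2} (hX : Quat X) (hY : Quat Y) :
    Quat (X * Y) := by
  obtain ⟨h30, hF⟩ := three_cases h3
  have hscal : ∀ {a : F}, (a • (1 : M2)).det = 1 → a = 1 ∨ a = -1 := by
    intro a ha
    rcases hF a with h | h
    · subst h; simp at ha
    · exact h
  refine ⟨by rw [Matrix.det_mul, hX.1, hY.1, one_mul], ?_⟩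
  obtain ⟨hdX, hX | ⟨a, rfl⟩⟩ := hX
  · obtain ⟨hdY, hY | ⟨b, rfl⟩⟩ := hY
    · obtain ⟨s, hs, hXl⟩ := quat_list h3 hdX hX
      obtain ⟨t, ht, hYl⟩ := quat_list h3 hdY hY
      have base : ∀ P Q : M2, (P = !![0, -1; 1, 0] ∨ P = !![1, 1; 1, -1] ∨ P = !![-1, 1; 1, 1]) →
          (Q = !![0, -1; 1, 0] ∨ Q = !![1, 1; 1, -1] ∨ Q = !![-1, 1; 1, 1]) →
          (P * Q) 0 0 + (P * Q) 1 1 = 0 ∨ P * Q = (-1 : F) • (1 : M2) := by
        have h11 : (1 : F) + 1 = -1 := by linear_combination h30
        rintro P Q (rfl | rfl | rfl) (rfl | rfl | rfl) <;>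
          first
            | (left; simp [Matrix.mul_apply, Fin.sum_univ_two]; done)
            | (right; ext i j; fin_cases i <;> fin_cases j <;> simp [Matrix.mul_apply, Fin.sum_univ_two, h11]; done)
      have hsX : ∃ P, X = s • P ∧ (P = !![0, -1; 1, 0] ∨ P = !![1, 1; 1, -1] ∨ P = !![-1, 1; 1, 1]) := by
        rcases hXl with h | h | h <;> exact ⟨_, h, by simp⟩
      have htY : ∃ Q, Y = t • Q ∧ (Q = !![0, -1; 1, 0] ∨ Q = !![1, 1; 1, -1] ∨ Q = !![-1, 1; 1, 1]) := by
        rcases hYl with h | h | h <;> exact ⟨_, h, by simp⟩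
      obtain ⟨P, rfl, hP⟩ := hsX
      obtain ⟨Q, rfl, hQ⟩ := htY
      rw [smul_mul_smul_comm]
      rcases base P Q hP hQ with h | h
      · left
        simp only [Matrix.smul_apply, smul_eq_mul]
        linear_combination (s * t) * h
      · exact Or.inr ⟨s * t * (-1), by rw [h, smul_smul]⟩
    · rw [mul_smul_comm, mul_one]
      exact (quat_smul ⟨hdX, Or.inl hX⟩ (hscal hdY)).2
  · rw [smul_mul_assoc, one_mul]
    exact (quat_smul hY (hscal hdX)).2

theorem quat_span [Fintype F] (h3 : Fintype.card F = 3) (S : Submodule F M2) (hS : ∀ X, Quat X → X ∈ S) :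
    S = ⊤ := by
  obtain ⟨h30, hF⟩ := three_cases h3
  have e : ∀ (a b c : F), a * a + b * c = -1 → !![a, b; c, -a] ∈ S := fun a b c h =>
    hS _ ⟨by rw [Matrix.det_fin_two]; simp; linear_combination -h, Or.inl (by simp)⟩
  have hI := e 0 (-1) 1 (by ring)
  have hJ := e 1 1 1 (by linear_combination h30)
  have hK := e (-1) 1 1 (by linear_combination h30)
  have h1 : (1 : M2) ∈ S := hS 1 quat_one
  refine eq_top_iff.mpr fun X _ => ?_
  have : X = (-(X 0 0 + X 1 1)) • (1 : M2) + (-(X 1 0 - X 0 1)) • !![0, -1; 1, -0] +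
      ((X 0 0 - X 1 1) + (X 0 1 + X 1 0)) • !![1, 1; 1, -1] +
      (-(X 0 0 - X 1 1) + (X 0 1 + X 1 0)) • !![-1, 1; 1, - -1] := by
    ext i j
    fin_cases i <;> fin_cases j <;> simp
    · linear_combination (X 1 1) * h30 
    · linear_combination (-(X 1 0)) * h30
    · linear_combination (-(X 0 1)) * h30
    · linear_combination (X 0 0) * h30
  rw [this]
  exact S.add_mem (S.add_mem (S.add_mem (S.smul_mem _ h1) (S.smul_mem _ hI)) (S.smul_mem _ hJ)) (S.smul_mem _ hK)

end CubeAux

open CubeAux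

variable {H : Subgroup (GL (Fin 4 ⊕ Fin 4) F)}

/-- Three commuting algebras give the tensor cube, an orthogonal group or a normalised two-group. -/
theorem cube_cases [Fintype F] (hH : IsMaximalIn (Cfsg.spGL 4 F) H) (D : CubeData H)
    (h3 : ∀ R : Subgroup (GL (Fin 4 ⊕ Fin 4) F), R ≤ Cfsg.spGL 4 F → (∀ h ∈ H, ∀ x ∈ R, h * x * h⁻¹ ∈ R) →
      ActsAbsolutelyIrreducibly (matrixSet R) →
      (∀ x ∈ R, ∀ y ∈ R, x * y * x⁻¹ * y⁻¹ ∈ scalars (Fin 4 ⊕ Fin 4) F) →
      (∀ x ∈ R, x * x ∈ scalars (Fin 4 ⊕ Fin 4) F) → Cases H) : Cases H := by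
  classical
  obtain ⟨v, hv0, hv⟩ := D.exists_vector
  set L := D.frame hv0 hv with hL
  have hLx : ∀ x, L x = ∑ a, x a • D.vec v a := D.frame_apply hv0 hv
  have hc := D.scale_ne hv0 hv
  have hLf : ∀ x y, ff (L x) (L y) =
      D.scale v * ∑ a, ∑ b, x a * (∏ i, (jm : M2) (a i) (b i)) * y b := fun x y => by
    rw [hLx, hLx, D.form_sum]
  -- the coordinates
  let e : II ≃ KK := Fintype.equivOfCardEq (by simp)
  let T' : VV ≃ₗ[F] VV := (LinearEquiv.funCongrLeft F F e.symm).trans L
  let P : GG := ⟨LinearMap.toMatrix' T'.toLinearMap, LinearMap.toMatrix' T'.symm.toLinearMap,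
    by rw [← LinearMap.toMatrix'_comp]; simp, by rw [← LinearMap.toMatrix'_comp]; simp⟩
  have hP : ∀ x : KK → F, (P : MM) *ᵥ (x ∘ e) = L x := by
    intro x
    show LinearMap.toMatrix' T'.toLinearMap *ᵥ (x ∘ e) = L x
    rw [← Matrix.toLin'_apply, Matrix.toLin'_toMatrix']
    show L (LinearEquiv.funCongrLeft F F e.symm (x ∘ e)) = L x
    congr 1
    funext p
    simp [LinearEquiv.funCongrLeft]
  by_cases hodd : Odd (Fintype.card F)
  swap
  · -- characteristic two
    have h2 : (2 : F) = 0 := by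
      have h := FiniteField.even_card_iff_char_two (F := F)
      have hc2 : ringChar F = 2 := h.mpr (Nat.even_iff.mp (Nat.not_odd_iff_even.mp hodd))
      haveI : CharP F 2 := hc2 ▸ ringChar.charP F
      exact_mod_cast CharP.cast_eq_zero F 2
    haveI : CharP F 2 := CharTwo.of_one_ne_zero_of_two_eq_zero one_ne_zero h2
    let Q : VV → F := fun y => qf (D.scale v) (L.symm y)
    have hpol : ∀ y z, QuadraticMap.polar Q y z = ff y z := by
      intro y z
      obtain ⟨x, rfl⟩ := L.surjective y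
      obtain ⟨x', rfl⟩ := L.surjective z
      rw [hLf]
      simp only [QuadraticMap.polar, Q, map_add, L.symm_apply_apply, qf, Pi.add_apply, sum_KK, Fin.prod_univ_three,
        jm]
      simp [CharTwo.neg_eq]
      ring
    have hsmul : ∀ (c : F) (y : VV), Q (c • y) = c ^ 2 * Q y := by
      intro c y
      simp only [Q, map_smul, qf, Pi.smul_apply, smul_eq_mul]
      ring
    have hfun : QuadraticMap.polar Q = ff := by funext y z; exact hpol y z
    have hQ : IsNondegenerateQuadraticForm Q :=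
      ⟨hsmul, hfun.symm ▸ SympTwoPrime.sp_bilinear, hfun.symm ▸ SympTwoPrime.sp_symplectic.nondegenerate⟩
    have hvecQ : ∀ (c : F) (E : Fin 3 → M2) (k : KK),
        Q (∑ b : KK, (c * ∏ j, E j (b j) (k j)) • D.vec v b) = 0 := by
      intro c E k
      rw [← hLx (fun b => c * ∏ j, E j (b j) (k j))]
      simp only [Q, L.symm_apply_apply, qf, Fin.prod_univ_three, Matrix.cons_val_zero, Matrix.cons_val_one,
        Matrix.cons_val]
      linear_combination (2 * D.scale v * c ^ 2 * (E 0 0 (k 0) * E 1 0 (k 1) * E 2 0 (k 2)) *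
        (E 0 1 (k 0) * E 1 1 (k 1) * E 2 1 (k 2))) * h2
    have hle : H ≤ quadSimilarityGroup Q := by
      intro h hh
      refine ⟨1, fun y => ?_⟩
      rw [Units.val_one, one_mul]
      have hp := MaxSub.mem_spGL_iff.1 (hH.1.le hh)
      let S : Submodule F VV :=
        { carrier := {y | Q ((h : MM) *ᵥ y) = Q y}
          add_mem' := fun {y z} hy hz => by
            have e1 := hpol ((h : MM) *ᵥ y) ((h : MM) *ᵥ z)
            have e2 := hpol y z
            have e3 := hp y z
            rw [MaxSub.stdAlt_apply, MaxSub.stdAlt_apply] at e3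
            simp only [QuadraticMap.polar, ← Matrix.mulVec_add] at e1 e2
            have e4 : Q ((h : MM) *ᵥ y) = Q y := hy
            have e5 : Q ((h : MM) *ᵥ z) = Q z := hz
            show Q ((h : MM) *ᵥ (y + z)) = Q (y + z)
            linear_combination e1 - e2 + e3 + e4 + e5
          zero_mem' := by show Q _ = Q 0; rw [Matrix.mulVec_zero]
          smul_mem' := fun c y hy => by
            show Q _ = Q _
            rw [Matrix.mulVec_smul, hsmul, hsmul, show Q ((h : MM) *ᵥ y) = Q y from hy] }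
      suffices hmem : ∀ a, D.vec v a ∈ S by
        obtain ⟨x, rfl⟩ := L.surjective y
        show L x ∈ S
        rw [hLx]
        exact S.sum_mem fun a _ => S.smul_mem _ (hmem a)
      intro a
      obtain ⟨σ, E, c, hact⟩ := D.act hv0 hv hh
      show Q _ = Q _
      rw [hact a, hvecQ (c : F) (fun j => (E j : M2)) (fun j => a (σ.symm j))]
      have := hvecQ 1 (fun _ => (1 : M2)) a
      rw [Finset.sum_eq_single a (fun b _ hb => by
        obtain ⟨i, hi⟩ := Function.ne_iff.1 hb
        rw [Finset.prod_eq_zero (Finset.mem_univ i) (by simp [hi]), mul_zero, zero_smul])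
        (fun hn => absurd (Finset.mem_univ a) hn)] at this
      simpa using this.symm
    have hcase : CaseQuad H := ⟨hodd, Q, hQ, hpol, SympTwoPrime.eq_inf_of_le hH hle
      (SympTwoPrime.not_le_quadSimilarityGroup (by norm_num) hQ hpol)⟩
    unfold Cases
    tauto
  by_cases h5 : 5 ≤ Fintype.card F
  · -- the tensor cube
    have hstr : IsTensorPowerFormStructure id ff (fun u w : Fin 2 → F => u 0 * w 1 - u 1 * w 0) e P :=
      ⟨D.scale v, hc, fun x y => by rw [hP, hP, hLf, jm_form]; rfl⟩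
    have hle : H ≤ tensorWreathSubgroup 2 3 e P := by
      intro h hh
      obtain ⟨σ, E, c, hact⟩ := D.act hv0 hv hh
      obtain ⟨C, hC⟩ : ∃ C : GL (Fin 2) F, (C : M2) = (c : F) • (1 : M2) :=
        ⟨Units.map (Matrix.scalar (Fin 2) : F →+* M2).toMonoidHom c, by simp [Matrix.smul_one_eq_diagonal]⟩
      obtain ⟨W, hW, hWv⟩ := exists_wreath (Function.update E 0 (C * E 0)) σ
      refine ⟨glReindex e.symm W, ⟨W, hW, rfl⟩, ?_⟩
      show P * glReindex e.symm W * P⁻¹ = h
      rw [mul_inv_eq_iff_eq_mul]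
      refine Units.ext (Matrix.toLin'.injective (LinearMap.ext fun y => ?_))
      rw [Matrix.toLin'_apply, Matrix.toLin'_apply, Units.val_mul, Units.val_mul, ← Matrix.mulVec_mulVec,
        ← Matrix.mulVec_mulVec]
      obtain ⟨x, rfl⟩ : ∃ x : KK → F, y = x ∘ e := ⟨y ∘ e.symm, by simp [Function.comp_assoc]⟩
      rw [reindex_mulVec, hP, hP, hLx, hLx, Matrix.mulVec_sum]
      simp only [Matrix.mulVec_smul, hact, Finset.smul_sum, smul_smul]
      rw [Finset.sum_comm]
      refine Finset.sum_congr rfl fun b _ => ?_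
      rw [← Finset.sum_smul]
      congr 1
      show ∑ a, (W : Matrix KK KK F) b a * x a = _
      refine Finset.sum_congr rfl fun a _ => ?_
      rw [hWv, Fin.prod_univ_three, Fin.prod_univ_three]
      simp [hC]
      ring
    have hproper : ¬ Cfsg.spGL 4 F ≤ tensorWreathSubgroup 2 3 e P := by
      intro hsp
      set o : KK := fun _ => 0 with ho
      set l : KK := fun _ => 1 with hl
      set x0 : KK → F := Pi.single o 1 with hx0
      set x1 : KK → F := Pi.single l 1 with hx1
      have hB : (AA).B (L x0) (L x1) = D.scale v := by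
        rw [MaxSub.stdAlt_apply, hLf]
        simp [hx0, hx1, Pi.single_apply, Fin.prod_univ_three, jm, ho, hl, ite_mul]
      set g := (AA).trans (L x1) ((AA).B (L x0) (L x1))⁻¹ with hg
      have hgv : (g : MM) *ᵥ L x0 = L x0 + L x1 := by
        rw [hg, MaxSub.AltForm.trans_mulVec, inv_mul_cancel₀ (by rw [hB]; exact hc), one_smul]
      obtain ⟨_, ⟨s, hs, rfl⟩, hs'⟩ := hsp (SympTwoPrime.trans_mem_sp (L x1) ((AA).B (L x0) (L x1))⁻¹)
      have hs2 : P * glReindex e.symm s * P⁻¹ = g := hs'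
      have hpure : Pure x0 := ⟨fun _ => Pi.single 0 1, fun a => by
        by_cases ha : a = o
        · subst ha; simp [hx0, ho]
        · obtain ⟨i, hi⟩ := Function.ne_iff.1 ha
          rw [hx0, Pi.single_apply, if_neg ha]
          refine (Finset.prod_eq_zero (Finset.mem_univ i) ?_).symm
          exact Pi.single_eq_of_ne hi 1⟩
      obtain ⟨u, hu⟩ := pure_mem hs hpure
      have hval : (s : Matrix KK KK F) *ᵥ x0 = x0 + x1 := by
        apply L.injective
        rw [map_add, ← hgv, ← hP, ← hP, ← reindex_mulVec e, Matrix.mulVec_mulVec, Matrix.mulVec_mulVec, ← hs2]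
        simp only [← Units.val_mul]
        rw [inv_mul_cancel_right]
      rw [hval] at hu
      have hu1 := hu o
      have hu2 := hu l
      have hu3 := hu ![1, 0, 0]
      have hol : o ≠ l := fun hh => by simpa [ho, hl] using congrFun hh 0
      have ho3 : (![1, 0, 0] : KK) ≠ o := fun hh => by simpa [ho] using congrFun hh 0
      have hl3 : (![1, 0, 0] : KK) ≠ l := fun hh => by simpa [hl] using congrFun hh 1
      simp only [hx0, hx1, Pi.add_apply, Pi.single_eq_same, Pi.single_eq_of_ne hol, Pi.single_eq_of_ne hol.symm,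
        Pi.single_eq_of_ne ho3, Pi.single_eq_of_ne hl3, add_zero, zero_add, Fin.prod_univ_three,
        Matrix.cons_val_zero, Matrix.cons_val_one, Matrix.cons_val] at hu1 hu2 hu3
      simp only [ho, hl] at hu1 hu2
      rcases mul_eq_zero.mp hu3.symm with h | h
      · rcases mul_eq_zero.mp h with h' | h'
        · simp [h'] at hu2
        · simp [h'] at hu1
      · simp [h] at hu1
    have hcase : CaseCube H := ⟨hodd, h5, e, P, _, det_symplectic, hstr,
      SympTwoPrime.eq_inf_of_le hH hle hproper⟩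
    unfold Cases
    tauto
  -- three elements
  have hcard : Fintype.card F = 3 := by
    have h1 : 1 < Fintype.card F := Fintype.one_lt_card
    obtain ⟨k, hk⟩ := hodd
    omega
  have hmulT : ∀ {X Y : Fin 3 → M2} {x y : GG}, (x : MM) = D.T X → (y : MM) = D.T Y →
      ((x * y : GG) : MM) = D.T (fun i => X i * Y i) := fun hx hy => by
    rw [Units.val_mul, hx, hy, D.T_mul]
  have hinvT : ∀ {X : Fin 3 → M2} {x : GG}, (∀ i, Quat (X i)) → (x : MM) = D.T X →
      ((x⁻¹ : GG) : MM) = D.T (fun i => (X i).adjugate) := by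
    intro X x hX hx
    refine Units.inv_eq_of_mul_eq_one_right ?_
    rw [hx, D.T_mul]
    simp [Matrix.mul_adjugate, (hX _).1, D.T_one]
  let R : Subgroup GG :=
    { carrier := {g | ∃ X : Fin 3 → M2, (∀ i, Quat (X i)) ∧ (g : MM) = D.T X}
      one_mem' := ⟨fun _ => 1, fun _ => quat_one, by rw [D.T_one, Units.val_one]⟩
      mul_mem' := by
        rintro x y ⟨X, hX, hx⟩ ⟨Y, hY, hy⟩
        exact ⟨_, fun i => quat_mul hcard (hX i) (hY i), hmulT hx hy⟩
      inv_mem' := by
        rintro x ⟨X, hX, hx⟩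
        exact ⟨_, fun i => quat_adj (hX i), hinvT hX hx⟩ }
  have hscalar : ∀ (X : Fin 3 → M2) (x : GG), (x : MM) = D.T X → (∀ i, ∃ a : F, X i = a • (1 : M2)) →
      x ∈ scalars II F := by
    intro X x hx ha
    choose a ha using ha
    rw [funext ha, D.T_smul, D.T_one] at hx
    have hne : (∏ i, a i) ≠ 0 := fun h0 => by
      rw [h0, zero_smul] at hx
      exact x.isUnit.ne_zero hx
    exact (mem_scalars_iff x).mpr ⟨Units.mk0 _ hne, hx⟩
  refine h3 R ?_ ?_ ?_ ?_ ?_
  · rintro x ⟨X, hX, hx⟩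
    refine MaxSub.mem_spGL_iff.2 fun y z => ?_
    rw [MaxSub.stdAlt_apply, MaxSub.stdAlt_apply, hx, D.T_adjoint, Matrix.mulVec_mulVec, D.T_mul]
    simp [Matrix.adjugate_mul, (hX _).1, D.T_one]
  · rintro h hh x ⟨X, hX, hx⟩
    obtain ⟨σ, E, hE⟩ := D.conj_T hh
    exact ⟨_, fun j => quat_conj (E j) (hX (σ.symm j)), by rw [Units.val_mul, Units.val_mul, hx, hE]⟩
  · have hphi : ∀ (S : Submodule F MM), (∀ g ∈ R, (g : MM) ∈ S) → ∀ i Y, D.φ i Y ∈ S := by
      intro S hS i
      have := quat_span hcard (S.comap (D.φ i).toLinearMap) fun X hX => by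
        have hq : ∀ j, Quat ((Pi.mulSingle i X : Fin 3 → M2) j) := by
          intro j
          by_cases hji : j = i
          · subst hji; rwa [Pi.mulSingle_eq_same]
          · rw [Pi.mulSingle_eq_of_ne hji]; exact quat_one
        let g : GG := ⟨D.T (Pi.mulSingle i X), D.T (fun j => ((Pi.mulSingle i X : Fin 3 → M2) j).adjugate),
          by rw [D.T_mul]; simp [Matrix.mul_adjugate, (hq _).1, D.T_one],
          by rw [D.T_mul]; simp [Matrix.adjugate_mul, (hq _).1, D.T_one]⟩
        have := hS g ⟨_, hq, rfl⟩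
        show D.φ i X ∈ S
        rwa [← D.T_single i X]
      intro Y
      exact (this.ge (Submodule.mem_top : Y ∈ ⊤) : _)
    refine ⟨fun U hU => ?_, fun M hM => ?_⟩
    · let S : Submodule F MM :=
        { carrier := {A | ∀ u ∈ U, A *ᵥ u ∈ U}
          add_mem' := fun {A B} hA hB u hu => by rw [Matrix.add_mulVec]; exact U.add_mem (hA u hu) (hB u hu)
          zero_mem' := fun u _ => by rw [Matrix.zero_mulVec]; exact U.zero_mem
          smul_mem' := fun c A hA u hu => by rw [Matrix.smul_mulVec]; exact U.smul_mem c (hA u hu) }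
      have hS := hphi S fun g hg u hu => hU (g : MM) ⟨g, hg, rfl⟩ ⟨u, hu, Matrix.toLin'_apply _ _⟩
      have hT : ∀ X : Fin 3 → M2, ∀ u ∈ U, D.T X *ᵥ u ∈ U := fun X u hu => by
        rw [CubeData.T, ← Matrix.mulVec_mulVec, ← Matrix.mulVec_mulVec]
        exact hS _ _ _ (hS _ _ _ (hS _ _ _ hu))
      refine (em (U = ⊥)).imp id fun h0 => ?_
      obtain ⟨y, hy, hy0⟩ := (Submodule.ne_bot_iff U).mp h0
      obtain ⟨x, hxy⟩ := D.exists_coord hv0 hv y
      obtain ⟨b, hb⟩ : ∃ b, x b ≠ 0 := by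
        by_contra hn
        push Not at hn
        exact hy0 (by simp [hxy, hn])
      have hvU : v ∈ U := by
        have h1 := hT (fun i => Matrix.single 0 (b i) (1 : F)) y hy
        simp only [hxy, Matrix.mulVec_sum, Matrix.mulVec_smul] at h1
        simp only [D.unit_vec (fun _ => 0) b] at h1
        rw [Finset.sum_eq_single b (fun a _ ha => by rw [if_neg (Ne.symm ha), smul_zero])
          (fun hn => absurd (Finset.mem_univ b) hn), if_pos rfl, D.vec_zero hv] at h1
        simpa [smul_smul, inv_mul_cancel₀ hb] using U.smul_mem (x b)⁻¹ h1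
      refine eq_top_iff.mpr fun y' _ => ?_
      obtain ⟨x', rfl⟩ := D.exists_coord hv0 hv y'
      exact U.sum_mem fun a _ => U.smul_mem _ (hT _ v hvU)
    · let S : Submodule F MM :=
        { carrier := {A | M * A = A * M}
          add_mem' := fun {A B} hA hB => by
            show M * (A + B) = (A + B) * M
            rw [mul_add, add_mul, show M * A = A * M from hA, show M * B = B * M from hB]
          zero_mem' := by show M * 0 = 0 * M; simp
          smul_mem' := fun c A hA => by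
            show M * (c • A) = (c • A) * M
            rw [mul_smul_comm, smul_mul_assoc, show M * A = A * M from hA] }
      have hS := hphi S fun g hg => hM _ ⟨g, hg, rfl⟩
      have hT : ∀ X : Fin 3 → M2, M * D.T X = D.T X * M := fun X => by
        have e0 : M * D.φ 0 (X 0) = D.φ 0 (X 0) * M := hS 0 (X 0)
        have e1 : M * D.φ 1 (X 1) = D.φ 1 (X 1) * M := hS 1 (X 1)
        have e2 : M * D.φ 2 (X 2) = D.φ 2 (X 2) * M := hS 2 (X 2)
        rw [CubeData.T, ← mul_assoc, ← mul_assoc, e0, mul_assoc (D.φ 0 (X 0)), e1, ← mul_assoc,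
          mul_assoc _ M, e2, ← mul_assoc]
      obtain ⟨t, ht⟩ := D.corner_line hv0 hv (M *ᵥ v)
      have hMv : M *ᵥ v = t • v := by
        conv_lhs => rw [← hv, CubeData.corner]
        rw [Matrix.mulVec_mulVec, hT, ← Matrix.mulVec_mulVec]
        exact ht
      refine ⟨t, Matrix.toLin'.injective (LinearMap.ext fun y => ?_)⟩
      obtain ⟨x, rfl⟩ := D.exists_coord hv0 hv y
      simp only [Matrix.toLin'_apply, Matrix.smul_mulVec, Matrix.one_mulVec, Matrix.mulVec_sum,
        Matrix.mulVec_smul, Finset.smul_sum]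
      refine Finset.sum_congr rfl fun a _ => ?_
      rw [CubeData.vec, Matrix.mulVec_mulVec, hT, ← Matrix.mulVec_mulVec, hMv, Matrix.mulVec_smul, smul_comm]
  · rintro x ⟨X, hX, hx⟩ y ⟨Y, hY, hy⟩
    refine hscalar _ _ (hmulT (hmulT (hmulT hx hy) (hinvT hX hx)) (hinvT hY hy)) fun i => ?_
    have key : ∀ Z : M2, Quat Z → ∃ a : F, Z.adjugate = a • Z := by
      intro Z hZ
      obtain ⟨hd, hz | ⟨a, ha⟩⟩ := hZ
      · refine ⟨-1, ?_⟩
        ext i j
        fin_cases i <;> fin_cases j <;> simp [Matrix.adjugate_fin_two] <;> linear_combination hz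
      · refine ⟨1, ?_⟩
        rw [one_smul, ha]
        ext i j
        fin_cases i <;> fin_cases j <;> simp [Matrix.adjugate_fin_two]
    obtain ⟨a, ha⟩ := key _ (hX i)
    obtain ⟨b, hb⟩ := key _ (hY i)
    obtain ⟨s, hs⟩ := quat_sq (quat_mul hcard (hX i) (hY i))
    refine ⟨a * b * s, ?_⟩
    show X i * Y i * (X i).adjugate * (Y i).adjugate = _
    simp only [ha, hb, mul_smul_comm, smul_mul_assoc, smul_smul]
    rw [mul_assoc (X i * Y i), hs, smul_smul]
    congr 1
    ring
  · rintro x ⟨X, hX, hx⟩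
    exact hscalar _ _ (hmulT hx hx) fun i => quat_sq (hX i)

end Cfsg.Agent.Lib.SympEight
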