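import Cfsg.Agent.Lib.SympEight.Defs
import Cfsg.Agent.Lib.TwoPrimeDim.Centre
import Cfsg.Agent.Lib.TwoPrimeDim.Socle

/-!
Absolutely irreducible symplectic groups in dimension eight whose commutators and squares are scalar: pairs of
anticommuting elements and idempotents cut out by commuting involutions.
-/

set_option autoImplicit false
set_option linter.unusedSectionVars false

namespace Cfsg.Agent.Lib.SympEight

open Matrix Module Cfsg.Geo
open scoped MatrixGroups Matrix

variable {F : Type*} [Field F] [Finite F]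

local notation "II" => (Fin 4 ⊕ Fin 4)
local notation "MM" => Matrix (Fin 4 ⊕ Fin 4) (Fin 4 ⊕ Fin 4) F
local notation "VV" => (Fin 4 ⊕ Fin 4 → F)
local notation "GG" => Matrix.GeneralLinearGroup (Fin 4 ⊕ Fin 4) F
local notation "SP" => Cfsg.spGL 4 F
local notation "ZZ" => Cfsg.Geo.scalars (Fin 4 ⊕ Fin 4) F
local notation "BB" => (Cfsg.Agent.Lib.MaxSub.stdAlt 4 F)

/-- An absolutely irreducible symplectic group, abelian of exponent two modulo scalars. -/
structure Ext (R : Subgroup GG) : Prop where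
  le : R ≤ SP
  absIrred : ActsAbsolutelyIrreducibly (matrixSet R)
  comm : ∀ x ∈ R, ∀ y ∈ R, x * y * x⁻¹ * y⁻¹ ∈ ZZ
  sq : ∀ x ∈ R, x * x ∈ ZZ

theorem unit_ne_zero (g : GG) : (g : MM) ≠ 0 := g.ne_zero

theorem scalar_sq {g : GG} (hg : g ∈ SP) {c : F} (hc : (g : MM) = c • (1 : MM)) : c = 1 ∨ c = -1 := by
  have hv : (Pi.single (Sum.inl 0) 1 : VV) ≠ 0 := by simp
  have hx : ∃ x, (BB).B x (Pi.single (Sum.inl 0) 1) ≠ 0 := by
    by_contra h
    push Not at h
    exact hv ((BB).nondeg _ h)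
  obtain ⟨x, hx⟩ := hx
  have h := Cfsg.Agent.Lib.MaxSub.mem_spGL_iff.mp hg x (Pi.single (Sum.inl 0) 1)
  simp only [hc, Matrix.smul_mulVec, Matrix.one_mulVec, map_smul, LinearMap.smul_apply, smul_eq_mul] at h
  have h1 : (c * c - 1) * (BB).B x (Pi.single (Sum.inl 0) 1) = 0 := by linear_combination h
  exact mul_self_eq_one_iff.mp (sub_eq_zero.mp ((mul_eq_zero.mp h1).resolve_right hx))

theorem not_scalar_one {M : MM} {c : F} (h : ∀ X : MM, X * M = M * X → False) (hc : M = c • (1 : MM)) : False :=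
  h 1 (by rw [hc]; simp)

variable {R : Subgroup (Matrix.GeneralLinearGroup (Fin 4 ⊕ Fin 4) F)}

namespace Ext

theorem sq_mat (hR : Ext R) {x : GG} (hx : x ∈ R) : (x : MM) * x = 1 ∨ (x : MM) * x = -1 := by
  obtain ⟨c, hc⟩ := (mem_scalars_iff _).mp (hR.sq x hx)
  rcases scalar_sq (hR.le (R.mul_mem hx hx)) hc with h | h
  · left; rw [← Units.val_mul, hc, h, one_smul]
  · right; rw [← Units.val_mul, hc, h, neg_one_smul]

theorem comm_mat (hR : Ext R) {x y : GG} (hx : x ∈ R) (hy : y ∈ R) :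
    (y : MM) * x = (x : MM) * y ∨ (y : MM) * x = -((x : MM) * y) := by
  obtain ⟨c, hc⟩ := (mem_scalars_iff _).mp (hR.comm y hy x hx)
  have hmem : y * x * y⁻¹ * x⁻¹ ∈ R := R.mul_mem (R.mul_mem (R.mul_mem hy hx) (R.inv_mem hy)) (R.inv_mem hx)
  have h0 : y * x = (y * x * y⁻¹ * x⁻¹) * (x * y) := by group
  have h1 := congrArg Units.val h0
  rw [Units.val_mul, Units.val_mul (y * x * y⁻¹ * x⁻¹), hc, Units.val_mul, Matrix.smul_mul, Matrix.one_mul] at h1
  rcases scalar_sq (hR.le hmem) hc with h | h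
  · left; rw [h1, h, one_smul]
  · right; rw [h1, h, neg_one_smul]

theorem scalar_of_commute (hR : Ext R) {M : MM} (h : ∀ g ∈ R, M * (g : MM) = (g : MM) * M) :
    ∃ c : F, M = c • (1 : MM) :=
  hR.absIrred.2 M (by rintro _ ⟨g, hg, rfl⟩; exact h g hg)

theorem exists_anti (hR : Ext R) {x : GG} (hx : x ∈ R) (hns : ∀ c : F, (x : MM) ≠ c • (1 : MM)) :
    ∃ y ∈ R, (y : MM) * x = -((x : MM) * y) := by
  by_contra hc
  push Not at hc
  obtain ⟨c, h⟩ := hR.scalar_of_commute (M := (x : MM)) fun g hg =>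
    ((hR.comm_mat hx hg).resolve_right (hc g hg)).symm
  exact hns c h

theorem two_ne_zero (hR : Ext R) : (2 : F) ≠ 0 := by
  intro h2
  have hneg : ∀ a : MM, -a = a := fun a => by
    rw [← neg_one_smul F a, show (-1 : F) = 1 by linear_combination -h2, one_smul]
  have hall : ∀ x ∈ R, ∃ c : F, (x : MM) = c • (1 : MM) := fun x hx => hR.scalar_of_commute fun y hy => by
    rcases hR.comm_mat hx hy with h | h
    · exact h.symm
    · rw [hneg] at h; exact h.symm
  obtain ⟨c, hc⟩ := hR.scalar_of_commute (M := Matrix.single (Sum.inl 0) (Sum.inl 0) (1 : F)) fun g hg => by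
    obtain ⟨d, hd⟩ := hall g hg
    rw [hd]; simp
  have h0 := congrFun₂ hc (Sum.inl 1) (Sum.inl 1)
  have h1 := congrFun₂ hc (Sum.inl 0) (Sum.inl 0)
  simp at h0 h1
  rw [← h0] at h1
  exact one_ne_zero h1

theorem ne_neg (hR : Ext R) (g : GG) : (g : MM) ≠ -(g : MM) := fun h => by
  have h2 : (2 : F) • (g : MM) = 0 := by rw [two_smul]; conv_lhs => arg 2; rw [h]
                                         exact add_neg_cancel _
  exact unit_ne_zero g ((smul_eq_zero.mp h2).resolve_left hR.two_ne_zero)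

theorem nonscalar_of_anti (hR : Ext R) {x y : GG} (h : (y : MM) * x = -((x : MM) * y)) (c : F) :
    (x : MM) ≠ c • (1 : MM) := by
  intro hx
  refine hR.ne_neg (x * y) ?_
  rw [Units.val_mul, ← h, hx]
  simp

end Ext

/-- A list of anticommuting pairs commuting with each other. -/
inductive Pairs (R : Subgroup (Matrix.GeneralLinearGroup (Fin 4 ⊕ Fin 4) F)) : List (GG × GG) → Prop
  | nil : Pairs R []
  | cons {x y : GG} {s : List (GG × GG)} : x ∈ R → y ∈ R → (y : MM) * x = -((x : MM) * y) →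
      (∀ p ∈ s, Commute (x : MM) (p.1 : MM) ∧ Commute (x : MM) (p.2 : MM) ∧ Commute (y : MM) (p.1 : MM) ∧
        Commute (y : MM) (p.2 : MM)) → Pairs R s → Pairs R ((x, y) :: s)

/-- The products of the elements of a list of pairs. -/
def mons : List (GG × GG) → List GG
  | [] => [1]
  | (x, y) :: s => (mons s).flatMap fun w => [w, x * w, y * w, (x * y) * w]

theorem length_mons : ∀ s : List (GG × GG), (mons s).length = 4 ^ s.length
  | [] => rfl
  | (x, y) :: s => by simp [mons, List.length_flatMap, length_mons s, pow_succ]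

theorem mons_mem : ∀ {s : List (GG × GG)}, Pairs R s → ∀ w ∈ mons s, w ∈ R
  | _, .nil => fun w hw => by simp [mons] at hw; exact hw ▸ R.one_mem
  | _, .cons (x := x) (y := y) hx hy _ _ hs => fun w hw => by
    simp only [mons, List.mem_flatMap, List.mem_cons, List.not_mem_nil, or_false] at hw
    obtain ⟨v, hv, rfl | rfl | rfl | rfl⟩ := hw
    · exact mons_mem hs _ hv
    · exact R.mul_mem hx (mons_mem hs _ hv)
    · exact R.mul_mem hy (mons_mem hs _ hv)
    · exact R.mul_mem (R.mul_mem hx hy) (mons_mem hs _ hv)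

theorem mons_comm {X : MM} : ∀ {s : List (GG × GG)},
    (∀ p ∈ s, Commute X (p.1 : MM) ∧ Commute X (p.2 : MM)) → ∀ w ∈ mons s, Commute X (w : MM)
  | [], _, w, hw => by simp [mons] at hw; subst hw; exact Commute.one_right X
  | (x, y) :: s, h, w, hw => by
    simp only [mons, List.mem_flatMap, List.mem_cons, List.not_mem_nil, or_false] at hw
    obtain ⟨v, hv, hw⟩ := hw
    have hvc := mons_comm (fun p hp => h p (List.mem_cons_of_mem _ hp)) v hv
    obtain ⟨h1, h2⟩ := h (x, y) (List.mem_cons_self ..)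
    rcases hw with rfl | rfl | rfl | rfl
    · exact hvc
    · rw [Units.val_mul]; exact h1.mul_right hvc
    · rw [Units.val_mul]; exact h2.mul_right hvc
    · rw [Units.val_mul, Units.val_mul]; exact (h1.mul_right h2).mul_right hvc

theorem adjust (hR : Ext R) : ∀ {s : List (GG × GG)}, Pairs R s → ∀ g ∈ R,
    ∃ g' ∈ R, ∃ w ∈ mons s, ∃ c : F, (g : MM) = c • ((g' : MM) * (w : MM)) ∧
      ∀ p ∈ s, Commute (g' : MM) (p.1 : MM) ∧ Commute (g' : MM) (p.2 : MM)
  | _, .nil => fun g hg => ⟨g, hg, 1, by simp [mons], 1, by simp, by simp⟩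
  | _, .cons (x := x) (y := y) (s := s) hx hy hanti hcomm hs => fun g hg => by
    obtain ⟨g', hg', w, hw, c, hgw, hg'c⟩ := adjust hR hs g hg
    have hanti' : (x : MM) * y = -((y : MM) * x) := by rw [hanti, neg_neg]
    -- multiply by a word in the new pair
    obtain ⟨u, huR, humem, huc, hux, huy⟩ : ∃ u, u ∈ R ∧ (u = 1 ∨ u = x ∨ u = y ∨ u = x * y) ∧
        (∀ p ∈ s, Commute (u : MM) (p.1 : MM) ∧ Commute (u : MM) (p.2 : MM)) ∧
        Commute ((g' * u : GG) : MM) (x : MM) ∧ Commute ((g' * u : GG) : MM) (y : MM) := by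
      rcases hR.comm_mat hg' hx with h1 | h1 <;> rcases hR.comm_mat hg' hy with h2 | h2
      · refine ⟨1, R.one_mem, Or.inl rfl, fun p hp => ⟨Commute.one_left _, Commute.one_left _⟩, ?_, ?_⟩
        · rw [mul_one]; exact h1.symm
        · rw [mul_one]; exact h2.symm
      · refine ⟨x, hx, Or.inr (Or.inl rfl), fun p hp => ⟨(hcomm p hp).1, (hcomm p hp).2.1⟩, ?_, ?_⟩ <;>
          simp only [Commute, SemiconjBy, Units.val_mul, ← mul_assoc]
        · rw [h1]
        · rw [mul_assoc (g' : MM), hanti', h2]; simp [mul_assoc]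
      · refine ⟨y, hy, Or.inr (Or.inr (Or.inl rfl)), fun p hp => ⟨(hcomm p hp).2.2.1, (hcomm p hp).2.2.2⟩, ?_, ?_⟩ <;>
          simp only [Commute, SemiconjBy, Units.val_mul, ← mul_assoc]
        · rw [mul_assoc (g' : MM), hanti, h1]; simp [mul_assoc]
        · rw [h2]
      · refine ⟨x * y, R.mul_mem hx hy, Or.inr (Or.inr (Or.inr rfl)), fun p hp => ?_, ?_, ?_⟩
        · rw [Units.val_mul]
          exact ⟨((hcomm p hp).1).mul_left (hcomm p hp).2.2.1, ((hcomm p hp).2.1).mul_left (hcomm p hp).2.2.2⟩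
        all_goals simp only [Commute, SemiconjBy, Units.val_mul, ← mul_assoc]
        · rw [mul_assoc ((g' : MM) * x), hanti, h1]; simp [mul_assoc]
        · rw [h2]
          simp only [neg_mul, mul_assoc]
          rw [← mul_assoc (x : MM) (y : MM) (y : MM), ← mul_assoc (y : MM) (x : MM) (y : MM), hanti', neg_mul,
            mul_neg]
    refine ⟨g' * u, R.mul_mem hg' huR, u * w, ?_, ?_⟩
    · simp only [mons, List.mem_flatMap, List.mem_cons, List.not_mem_nil, or_false]
      refine ⟨w, hw, ?_⟩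
      rcases humem with rfl | rfl | rfl | rfl
      · left; rw [one_mul]
      all_goals simp
    obtain ⟨d, hd0, hd⟩ : ∃ d : F, d ≠ 0 ∧ (u : MM) * u = d • (1 : MM) := by
      rcases hR.sq_mat huR with h | h
      · exact ⟨1, one_ne_zero, by rw [h, one_smul]⟩
      · exact ⟨-1, neg_ne_zero.mpr one_ne_zero, by rw [h, neg_one_smul]⟩
    refine ⟨c * d⁻¹, ?_, fun p hp => ?_⟩
    · rw [hgw, Units.val_mul, Units.val_mul, mul_assoc, ← mul_assoc (u : MM), hd, Matrix.smul_mul, Matrix.one_mul,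
        Matrix.mul_smul, smul_smul, mul_assoc, inv_mul_cancel₀ hd0, mul_one]
    · rcases List.mem_cons.mp hp with rfl | hp
      · exact ⟨hux, huy⟩
      · rw [Units.val_mul]
        exact ⟨(hg'c p hp).1.mul_left (huc p hp).1, (hg'c p hp).2.mul_left (huc p hp).2⟩

/-- Halving an idempotent by an involution moved by a unit. -/
theorem halve {E h : MM} {w : GG} (hE : E * E = E) (hh : h * h = h) (hEh : Commute E h)
    (hwE : Commute (w : MM) E) (hwh : (w : MM) * h = (1 - h) * (w : MM)) :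
    finrank F (Cfsg.Agent.Lib.TwoPrimeDim.img E) = 2 * finrank F (Cfsg.Agent.Lib.TwoPrimeDim.img (E * h)) ∧
      Matrix.trace E = 2 * Matrix.trace (E * h) ∧ E * h * (E * h) = E * h ∧
      ∀ S : Submodule F VV, Cfsg.Agent.Lib.TwoPrimeDim.img (E * h) ≤ S →
        (∀ v ∈ S, (w : MM) *ᵥ v ∈ S) → Cfsg.Agent.Lib.TwoPrimeDim.img E ≤ S := by
  have hconj : (w : MM) * (E * h) * ((w⁻¹ : GG) : MM) = E * (1 - h) := by
    rw [← mul_assoc, hwE.eq, mul_assoc E, hwh, mul_assoc E, mul_assoc (1 - h), Units.mul_inv, mul_one]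
  have hidem : E * h * (E * h) = E * h := by
    rw [mul_assoc, ← mul_assoc h E h, ← hEh.eq, mul_assoc E h h, hh, ← mul_assoc, hE]
  have hidem' : ∀ x ∈ Cfsg.Agent.Lib.TwoPrimeDim.img (E * h) ⊓ Cfsg.Agent.Lib.TwoPrimeDim.img (E * (1 - h)),
      x = 0 := by
    rintro x ⟨h1, h2⟩
    rw [SetLike.mem_coe, Cfsg.Agent.Lib.TwoPrimeDim.mem_img_idem hidem] at h1
    obtain ⟨u, rfl⟩ := h2
    rw [← h1, Matrix.toLin'_apply, Matrix.mulVec_mulVec,
      show E * h * (E * (1 - h)) = 0 by
        rw [mul_assoc, ← mul_assoc h E, ← hEh.eq, mul_assoc E h, mul_sub, mul_one, hh, sub_self, mul_zero, mul_zero],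
      Matrix.zero_mulVec]
  have hsup : Cfsg.Agent.Lib.TwoPrimeDim.img E =
      Cfsg.Agent.Lib.TwoPrimeDim.img (E * h) ⊔ Cfsg.Agent.Lib.TwoPrimeDim.img (E * (1 - h)) := by
    refine le_antisymm ?_ (sup_le ?_ ?_)
    · rintro _ ⟨u, rfl⟩
      exact Submodule.mem_sup.mpr ⟨_, ⟨u, rfl⟩, _, ⟨u, rfl⟩, by
        simp only [Matrix.toLin'_apply, ← Matrix.add_mulVec, ← mul_add, add_sub_cancel, mul_one]⟩
    all_goals
      rintro _ ⟨u, rfl⟩
      exact ⟨_ *ᵥ u, by rw [Matrix.toLin'_apply, Matrix.toLin'_apply, Matrix.mulVec_mulVec]⟩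
  have hinj : Function.Injective (Matrix.toLin' (w : MM)) := fun a b hab =>
    Matrix.mulVec_injective_iff_isUnit.mpr w.isUnit (by simpa using hab)
  refine ⟨?_, ?_, hidem, fun S hS hw => ?_⟩
  · have h1 := Submodule.finrank_sup_add_finrank_inf_eq (Cfsg.Agent.Lib.TwoPrimeDim.img (E * h))
      (Cfsg.Agent.Lib.TwoPrimeDim.img (E * (1 - h)))
    rw [← hsup, (Submodule.eq_bot_iff _).mpr hidem', finrank_bot, add_zero] at h1
    rw [h1, ← hconj, ← Cfsg.Agent.Lib.TwoPrimeDim.map_img_conj,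
      (Submodule.equivMapOfInjective _ hinj _).finrank_eq.symm, two_mul]
  · have h1 : Matrix.trace (E * (1 - h)) = Matrix.trace (E * h) := by
      rw [← hconj, mul_assoc, Matrix.trace_mul_comm, mul_assoc, Units.inv_mul, mul_one]
    rw [mul_sub, mul_one, Matrix.trace_sub] at h1
    linear_combination h1
  · rw [hsup]
    refine sup_le hS ?_
    rw [← hconj, ← Cfsg.Agent.Lib.TwoPrimeDim.map_img_conj]
    rintro _ ⟨v, hv, rfl⟩
    rw [Matrix.toLin'_apply]
    exact hw v (hS hv)

/-- An involution and an element anticommuting with it. -/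
structure Invol (u : MM) (w : GG) : Prop where
  sq : u * u = 1
  anti : (w : MM) * u = -(u * (w : MM))

/-- The idempotent of the fixed space of an involution. -/
def proj (u : MM) : MM := (2 : F)⁻¹ • (1 + u)

theorem Invol.proj_idem {u : MM} {w : GG} (h : Invol u w) (h2 : (2 : F) ≠ 0) : proj u * proj u = proj u := by
  simp only [proj, Matrix.smul_mul, Matrix.mul_smul, smul_smul, mul_add, add_mul, one_mul, mul_one, h.sq]
  match_scalars <;> field_simp <;> ring

theorem Invol.proj_conj {u : MM} {w : GG} (h : Invol u w) (h2 : (2 : F) ≠ 0) :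
    (w : MM) * proj u = (1 - proj u) * (w : MM) := by
  simp only [proj, Matrix.mul_smul, Matrix.smul_mul, mul_add, sub_mul, add_mul, one_mul, mul_one, h.anti]
  match_scalars <;> field_simp <;> ring

theorem commute_proj {X u : MM} (h : Commute X u) : Commute X (proj u) :=
  ((Commute.one_right X).add_right h).smul_right _

/-- Three commuting involutions with their movers cut out a line. -/
structure Three (u : Fin 3 → MM) (w : Fin 3 → GG) : Prop where
  invol : ∀ i, Invol (u i) (w i)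
  commU : ∀ i j, Commute (u i) (u j)
  commW : ∀ i j, i ≠ j → Commute (w i : MM) (u j)

theorem Three.rank_one {u : Fin 3 → MM} {w : Fin 3 → GG} (h : Three u w) (h2 : (2 : F) ≠ 0) :
    finrank F (Cfsg.Agent.Lib.TwoPrimeDim.img (proj (u 0) * proj (u 1) * proj (u 2))) = 1 ∧
      Matrix.trace (proj (u 0) * proj (u 1) * proj (u 2)) = 1 ∧
      proj (u 0) * proj (u 1) * proj (u 2) * (proj (u 0) * proj (u 1) * proj (u 2)) =
        proj (u 0) * proj (u 1) * proj (u 2) ∧
      ∀ S : Submodule F VV, Cfsg.Agent.Lib.TwoPrimeDim.img (proj (u 0) * proj (u 1) * proj (u 2)) ≤ S →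
        (∀ i, ∀ v ∈ S, (w i : MM) *ᵥ v ∈ S) → S = ⊤ := by
  have hi := fun i => (h.invol i).proj_idem h2
  have hc := fun i => (h.invol i).proj_conj h2
  have hpp : ∀ i j, Commute (proj (u i)) (proj (u j)) := fun i j =>
    commute_proj (commute_proj (h.commU j i)).symm
  have hwp : ∀ i j, i ≠ j → Commute (w i : MM) (proj (u j)) := fun i j hij => commute_proj (h.commW i j hij)
  obtain ⟨r1, t1, i1, s1⟩ := halve (w := w 0) (mul_one (1 : MM)) (hi 0) (Commute.one_left _) (Commute.one_right _) (hc 0)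
  rw [one_mul] at r1 t1 i1 s1
  obtain ⟨r2, t2, i2, s2⟩ := halve (w := w 1) i1 (hi 1) (hpp 0 1) (hwp 1 0 (by decide)) (hc 1)
  obtain ⟨r3, t3, i3, s3⟩ := halve (w := w 2) i2 (hi 2) ((hpp 0 2).mul_left (hpp 1 2))
    ((hwp 2 0 (by decide)).mul_right (hwp 2 1 (by decide))) (hc 2)
  have hr : finrank F (Cfsg.Agent.Lib.TwoPrimeDim.img (1 : MM)) = 8 := by
    rw [show Cfsg.Agent.Lib.TwoPrimeDim.img (1 : MM) = ⊤ from Submodule.eq_top_iff'.mpr fun v => ⟨v, by simp⟩,
      finrank_top, Module.finrank_fintype_fun_eq_card]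
    rfl
  refine ⟨by omega, ?_, i3, fun S hS hw => ?_⟩
  · have ht : Matrix.trace (1 : MM) = 8 := by simp [Matrix.trace_one]
    have h8 : (8 : F) ≠ 0 := by
      rw [show (8 : F) = 2 * 2 * 2 by norm_num]
      exact mul_ne_zero (mul_ne_zero h2 h2) h2
    rw [ht, t2, t3] at t1
    exact mul_left_cancel₀ h8 (by linear_combination -t1)
  · refine top_le_iff.mp (le_trans ?_ (s1 S (s2 S (s3 S hS (hw 2)) (hw 1)) (hw 0)))
    exact fun v _ => ⟨v, by simp⟩

end Cfsg.Agent.Lib.SympEight
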