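import Cfsg.Agent.Lib.SympTwelve.Geom
import Cfsg.Agent.Lib.SympTwoPrime.Forms
import Cfsg.Agent.Lib.SympEight.Core
import Cfsg.Agent.Lib.SympEight.TypeBase
import Cfsg.Agent.Lib.TwoPrimeDim.Homogeneous

/-!
helper12: the maximal subgroups of the symplectic group in dimension eight, given the tensor, cube and symplectic
type steps.
-/

set_option autoImplicit false
set_option linter.unusedSectionVars false

namespace Cfsg.Agent.Lib.SympEight

open Matrix Module Cfsg.Geo
open Cfsg.Agent.Lib.MaxSub Cfsg.Agent.Lib.SympTwoPrime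
open Cfsg.Agent.Lib.SympTwelve (NdBlocks adj adj_spec adj_adj planes_two pair_even blocks_split quad_of_field exists_sub
  even_of_nondegenerate)
open scoped MatrixGroups Matrix

variable {F : Type*} [Field F] [Fintype F]

local notation "II" => (Fin 4 ⊕ Fin 4)
local notation "MM" => Matrix (Fin 4 ⊕ Fin 4) (Fin 4 ⊕ Fin 4) F
local notation "VV" => (Fin 4 ⊕ Fin 4 → F)
local notation "GG" => Matrix.GeneralLinearGroup (Fin 4 ⊕ Fin 4) F
local notation "SP" => Cfsg.spGL 4 F
local notation "ff" => Cfsg.sympForm 4 F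
local notation "ZZ" => Cfsg.Geo.scalars (Fin 4 ⊕ Fin 4) F

theorem card_eight : Fintype.card II = 8 := by simp

theorem char_two_of_not_odd (hq : ¬ Odd (Fintype.card F)) : (2 : F) = 0 := by
  have hc := FiniteField.even_card_iff_char_two.mpr (Nat.even_iff.mp (Nat.not_odd_iff_even.mp hq))
  haveI := ringChar.of_eq hc
  exact CharTwo.two_eq_zero

theorem quad_case (hq : ¬ Odd (Fintype.card F)) {H : Subgroup GG} (hH : IsMaximalIn SP H) {Q : VV → F}
    (hQ : IsNondegenerateQuadraticForm Q) (hpol : ∀ u v : VV, QuadraticMap.polar Q u v = ff u v)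
    (hle : H ≤ quadSimilarityGroup Q) : Cases H :=
  Or.inr (Or.inr (Or.inr (Or.inr (Or.inr (Or.inr (Or.inr (Or.inr (Or.inr (Or.inr (Or.inr (Or.inl
    ⟨hq, Q, hQ, hpol, eq_inf_of_le hH hle (not_le_quadSimilarityGroup (by norm_num) hQ hpol)⟩)))))))))))

theorem reducible_cases {H : Subgroup GG} (hH : IsMaximalIn SP H) {W : Submodule F VV}
    (h0 : W ≠ ⊥) (h1 : W ≠ ⊤) (hW : ∀ g ∈ H, ∀ w ∈ W, (g : MM) *ᵥ w ∈ W) : Cases H := by
  rcases SympTwelve.reducible (by norm_num) hH h0 h1 hW with h | h | h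
  · exact Or.inl h
  · exact Or.inr (Or.inl h)
  · exact Or.inr (Or.inr (Or.inr (Or.inl h)))

theorem nd_cases {H : Subgroup GG} (hH : IsMaximalIn SP H) {s v : ℕ} {e : Fin s → MM} (hsv : s * v = 8)
    (hB : NdBlocks H v e) : Cases H := by
  obtain ⟨hD, hle⟩ := hB.decomp
  have heq := eq_inf_of_le hH hle (not_le_decompositionStabilizer (by norm_num) hD.decomp)
  have hev : Even v := hD.decomp.finrank_eq ⟨0, by have := hB.two_le; omega⟩ ▸
    even_of_nondegenerate _ (hD.nondegenerate _)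
  have hs2 := hB.two_le
  have hv4 : v ≤ 4 := by
    have := Nat.mul_le_mul_right v hs2
    omega
  obtain ⟨c, rfl⟩ := hev
  have hc : c = 1 ∨ c = 2 := by
    have := hB.pos
    omega
  rcases hc with rfl | rfl
  · obtain rfl : s = 4 := by omega
    by_cases h3 : 3 ≤ Fintype.card F
    · exact Or.inr (Or.inr (Or.inl ⟨h3, _, hD, heq⟩))
    · have hq : Fintype.card F = 2 := by
        have := Fintype.one_lt_card (α := F)
        omega
      obtain ⟨Q, hQ, hpol, hQH⟩ := planes_two hH.1.le hq hB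
      exact quad_case (by rw [hq]; decide) hH hQ hpol hQH
  · obtain rfl : s = 2 := by omega
    exact Or.inr (Or.inr (Or.inr (Or.inl ⟨_, hD, heq⟩)))

/-- A pair of complementary totally singular halves exchanged by `H`. -/
theorem pair_cases {H : Subgroup GG} (hH : IsMaximalIn SP H) {e₀ : MM} (hid : e₀ * e₀ = e₀)
    (hadj : adj e₀ = 1 - e₀) (hr0 : Module.finrank F (TwoPrimeDim.img e₀) = 4)
    (hr1 : Module.finrank F (TwoPrimeDim.img (1 - e₀)) = 4)
    (hperm : ∀ g ∈ H, (g : MM) * e₀ * ((g⁻¹ : GG) : MM) = e₀ ∨ (g : MM) * e₀ * ((g⁻¹ : GG) : MM) = 1 - e₀) :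
    Cases H := by
  by_cases hq : Odd (Fintype.card F)
  · let D : Fin 2 → Submodule F VV := ![TwoPrimeDim.img e₀, TwoPrimeDim.img (1 - e₀)]
    have hid1 : (1 - e₀) * (1 - e₀) = 1 - e₀ := by
      rw [sub_mul, one_mul, mul_sub, mul_one, hid, sub_self, sub_zero]
    have hz : e₀ * (1 - e₀) = 0 := by rw [mul_sub, mul_one, hid, sub_self]
    have hdisj : Disjoint (TwoPrimeDim.img e₀) (TwoPrimeDim.img (1 - e₀)) := by
      rw [Submodule.disjoint_def]
      intro x hx hx'
      rw [← (TwoPrimeDim.mem_img_idem hid).mp hx, ← (TwoPrimeDim.mem_img_idem hid1).mp hx', Matrix.mulVec_mulVec,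
        hz, Matrix.zero_mulVec]
    have hdec : IsMDecomposition 4 D := by
      refine ⟨le_rfl, by norm_num, fun i => ?_, ?_, ?_⟩
      · fin_cases i
        · exact hr0
        · exact hr1
      · intro i
        fin_cases i
        · exact hdisj.mono_right
            (iSup₂_le fun j hj => by fin_cases j <;> first | exact absurd rfl hj | exact le_rfl)
        · exact hdisj.symm.mono_right
            (iSup₂_le fun j hj => by fin_cases j <;> first | exact absurd rfl hj | exact le_rfl)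
      · refine top_unique fun v _ => ?_
        rw [show v = e₀ *ᵥ v + (1 - e₀) *ᵥ v by rw [← Matrix.add_mulVec, add_sub_cancel, Matrix.one_mulVec]]
        exact add_mem (Submodule.mem_iSup_of_mem 0 ⟨v, rfl⟩) (Submodule.mem_iSup_of_mem 1 ⟨v, rfl⟩)
    have hts : ∀ (X : MM), X * X = X → adj X = 1 - X → IsTotallySingularFor ff (TwoPrimeDim.img X) := by
      intro X hX hXa u hu v hv
      rw [← (TwoPrimeDim.mem_img_idem hX).mp hu, adj_spec, hXa, ← (TwoPrimeDim.mem_img_idem hX).mp hv,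
        Matrix.mulVec_mulVec, sub_mul, one_mul, hX, sub_self, Matrix.zero_mulVec]
      simp [Cfsg.sympForm]
    have hadj1 : adj (1 - e₀) = 1 - (1 - e₀) := by
      rw [sub_sub_cancel]
      exact (congrArg adj hadj).symm.trans (adj_adj e₀)
    refine Or.inr (Or.inr (Or.inr (Or.inr (Or.inl ⟨hq, D, hdec, fun i => ?_, eq_inf_of_le hH (fun g hg => ?_)
      (not_le_decompositionStabilizer (by norm_num) hdec)⟩))))
    · fin_cases i
      · exact hts _ hid hadj
      · exact hts _ hid1 hadj1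
    · have h2 : (g : MM) * (1 - e₀) * ((g⁻¹ : GG) : MM) = 1 - (g : MM) * e₀ * ((g⁻¹ : GG) : MM) := by
        simp [mul_sub, sub_mul]
      rcases hperm g hg with h | h
      · refine ⟨Equiv.refl _, fun i => ?_⟩
        fin_cases i <;> simp [D, TwoPrimeDim.map_img_conj, h, h2, -Matrix.coe_units_inv]
      · refine ⟨Equiv.swap 0 1, fun i => ?_⟩
        fin_cases i <;> simp [D, TwoPrimeDim.map_img_conj, h, h2, -Matrix.coe_units_inv]
  · obtain ⟨Q, hQ, hpol, hQH⟩ := pair_even hH.1.le (char_two_of_not_odd hq) hadj hperm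
    exact quad_case hq hH hQ hpol hQH

theorem blocks_cases {H N : Subgroup GG} (hH : IsMaximalIn SP H) (hN : N ≤ SP) {t w : ℕ} {e : Fin t → MM}
    (hB : TwoPrimeDim.Blocks H N w e) : Cases H := by
  rcases blocks_split hH.1.le hN hB with ⟨s, v, e', hsv, hnd⟩ | ⟨e₀, hid, hadj, hr0, hr1, hperm⟩
  · exact nd_cases hH hsv hnd
  · exact pair_cases hH hid hadj hr0 hr1 hperm

theorem field_two {H : Subgroup GG} (hH : IsMaximalIn SP H) (K : Subalgebra F MM) (hK : IsFieldSubalgebra 2 K)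
    (hadj : IsAdjointClosedFor ff K) (hnorm : ∀ h ∈ H, h ∈ subalgebraNormalizer K) : Cases H := by
  have heq := eq_inf_of_le hH hnorm (not_le_subalgebraNormalizer (by norm_num) le_rfl hK)
  by_cases hsa : IsSelfAdjointFor ff K
  · exact Or.inr (Or.inr (Or.inr (Or.inr (Or.inr (Or.inl
      ⟨K, hK, hsa, alt_of_selfAdjoint (by norm_num) hK hsa, heq⟩)))))
  by_cases hq : Odd (Fintype.card F)
  · exact Or.inr (Or.inr (Or.inr (Or.inr (Or.inr (Or.inr (Or.inl
      ⟨hq, K, hK, hadj, hsa, heq⟩))))))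
  obtain ⟨Q, hQ, hpol, hle⟩ := quad_of_field (by norm_num) hH.1.le hK hadj hsa hnorm (char_two_of_not_odd hq)
  exact quad_case hq hH hQ hpol hle

theorem field_cases {H : Subgroup GG} (hH : IsMaximalIn SP H) (K : Subalgebra F MM) {r : ℕ}
    (hK : IsFieldSubalgebra r K) (h1 : 1 < r) (hr : r ∣ 8) (hadj : IsAdjointClosedFor ff K)
    (hnorm : ∀ h ∈ H, h ∈ subalgebraNormalizer K) : Cases H := by
  have h2 : 2 ∣ r := by
    have := Nat.le_of_dvd (by norm_num) hr
    interval_cases r <;> omega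
  obtain ⟨L, hL, ha, hn⟩ := exists_sub (by norm_num) h2 (by omega) hK hadj
  exact field_two hH L hL ha fun h hh => hn h (hnorm h hh)

/-- What is needed about homogeneous normal subgroups with two tensor factors. -/
def TensorStep (H : Subgroup GG) : Prop :=
  ∀ (N : Subgroup GG), N ≤ H → (∀ g ∈ H, ∀ x ∈ N, g * x * g⁻¹ ∈ N) →
    ∀ (d k : ℕ) (A : N → Matrix (Fin d) (Fin d) F) (φ : Fin k → (Fin d → F) →ₗ[F] VV),
      (∀ U : Submodule F (Fin d → F), (∀ n, ∀ u ∈ U, A n *ᵥ u ∈ U) → U = ⊥ ∨ U = ⊤) →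
      (∀ X : Matrix (Fin d) (Fin d) F, (∀ n, X * A n = A n * X) → ∃ c : F, X = c • 1) →
      (∀ j (n : N) x, ((n : GG) : MM) *ᵥ φ j x = φ j (A n *ᵥ x)) →
      Function.Bijective (Cfsg.Agent.Lib.MaxTensor.assemble φ) → d * k = 8 → 1 < d → 1 < k →
      Cases H ∨ Nonempty (CubeData H)

theorem scalar_or_absIrred {H N : Subgroup GG} (hH : IsMaximalIn SP H) (hT : TensorStep H) (hcube : ∀ D : CubeData H, Cases H)
    (hirr : ActsIrreducibly (matrixSet H)) (hcases : ¬ Cases H) (hN : N ≤ H)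
    (hNG : ∀ g ∈ H, ∀ x ∈ N, g * x * g⁻¹ ∈ N) : N ≤ ZZ ∨ ActsAbsolutelyIrreducibly (matrixSet N) := by
  classical
  rcases TwoPrimeDim.centre_cases hirr hNG with ⟨r, hr, hK⟩ | ⟨t, w, e, hB⟩
  swap
  · exact absurd (blocks_cases hH (hN.trans hH.1.le) hB) hcases
  rw [card_eight] at hr
  rcases Nat.lt_or_ge 1 r with h1 | h1
  · exact absurd (field_cases hH _ hK h1 hr (fun k hk => ⟨SympTwelve.adj k, SympTwelve.adj_mem_centre (hN.trans hH.1.le) hk, SympTwelve.adj_spec k⟩)
      fun h hh => TwoPrimeDim.centre_normalized hNG hh) hcases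
  have hr1 : r = 1 := by
    rcases Nat.eq_zero_or_pos r with h | h
    · rw [h, Nat.zero_dvd] at hr
      omega
    · omega
  have hc : ∀ M ∈ TwoPrimeDim.centre N, ∃ c : F, M = c • (1 : MM) := by
    intro M hM
    obtain ⟨c, hcM⟩ := (finrank_eq_one_iff_of_nonzero'
      (⟨1, (TwoPrimeDim.centre N).one_mem⟩ : Subalgebra.toSubmodule (TwoPrimeDim.centre N))
      (fun h => zero_ne_one (α := MM) (congrArg Subtype.val h).symm)).mp (hK.finrank_eq.trans hr1) ⟨M, hM⟩
    exact ⟨c, (congrArg Subtype.val hcM).symm⟩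
  obtain ⟨d, k, A, φ, hdk, hd, hk, hAirr, hAscal, hφ, hbij⟩ := TwoPrimeDim.homogeneous hirr hNG hc
  rw [card_eight] at hdk
  rcases eq_or_lt_of_le (Nat.one_le_iff_ne_zero.mpr hd.ne') with hd1 | hd1
  · left
    subst hd1
    intro x hx
    set a := A ⟨x, hx⟩ 0 0
    refine SLTwoPrime.mem_scalars_of_val (c := a) (TwoPrimeDim.eq_of_mulVec fun v => ?_)
    obtain ⟨u, rfl⟩ := hbij.2 v
    have hA1 : ∀ y : Fin 1 → F, A ⟨x, hx⟩ *ᵥ y = a • y := fun y => by
      funext i
      obtain rfl : i = 0 := Subsingleton.elim _ _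
      simp [Matrix.mulVec, dotProduct, a]
    simp only [MaxTensor.assemble, LinearMap.coe_mk, AddHom.coe_mk, Matrix.mulVec_sum,
      Matrix.smul_mulVec, Matrix.one_mulVec]
    exact Finset.sum_congr rfl fun j _ => by rw [hφ j ⟨x, hx⟩, hA1, map_smul]
  rcases eq_or_lt_of_le (Nat.one_le_iff_ne_zero.mpr hk.ne') with hk1 | hk1
  swap
  · exact absurd ((hT N hN hNG d k A φ hAirr hAscal hφ hbij hdk hd1 hk1).elim id fun ⟨D⟩ => hcube D) hcases
  right
  subst hk1
  have hval : ∀ u, MaxTensor.assemble φ u = φ 0 (u 0) := fun u => by simp [MaxTensor.assemble]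
  have h0 : Function.Bijective (φ 0) := by
    refine ⟨fun a b hab => ?_, fun v => ?_⟩
    · exact congrFun (hbij.1 (a₁ := fun _ => a) (a₂ := fun _ => b) (by rw [hval, hval, hab])) 0
    · obtain ⟨u, rfl⟩ := hbij.2 v
      exact ⟨u 0, (hval u).symm⟩
  let Φ := LinearEquiv.ofBijective (φ 0) h0
  refine ⟨(TwoPrimeDim.actsIrreducibly_iff N).mpr fun U hU => ?_, fun M hM => ?_⟩
  · rcases hAirr (U.comap (φ 0)) fun n u hu => by
        rw [Submodule.mem_comap] at hu ⊢
        rw [← hφ]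
        exact hU n n.2 _ hu with h | h
    · left
      rw [← Submodule.map_comap_eq_of_surjective h0.2 U, h, Submodule.map_bot]
    · right
      rw [← Submodule.map_comap_eq_of_surjective h0.2 U, h, Submodule.map_top, LinearMap.range_eq_top.mpr h0.2]
  · let X := LinearMap.toMatrix' (Φ.symm.toLinearMap ∘ₗ Matrix.toLin' M ∘ₗ Φ.toLinearMap)
    have hX : ∀ y, φ 0 (X *ᵥ y) = M *ᵥ φ 0 y := fun y => by
      rw [← Matrix.toLin'_apply X, Matrix.toLin'_toMatrix']
      simp only [LinearMap.comp_apply, LinearEquiv.coe_coe, Matrix.toLin'_apply]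
      exact Φ.apply_symm_apply _
    obtain ⟨c, hcX⟩ := hAscal X fun n => Matrix.ext_of_mulVec_single fun i => h0.1 (by
      rw [← Matrix.mulVec_mulVec, ← Matrix.mulVec_mulVec, hX, ← hφ, ← hφ, hX, Matrix.mulVec_mulVec,
        Matrix.mulVec_mulVec, hM _ ⟨n, n.2, rfl⟩])
    refine ⟨c, TwoPrimeDim.eq_of_mulVec fun v => ?_⟩
    obtain ⟨y, rfl⟩ := h0.2 v
    rw [← hX, hcX, Matrix.smul_mulVec, Matrix.one_mulVec, map_smul, Matrix.smul_mulVec, Matrix.one_mulVec]

/-- Commutators which are scalar make the squares scalar. -/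
theorem ext_of_class_two {N : Subgroup GG} (hN : N ≤ SP) (habs : ActsAbsolutelyIrreducibly (matrixSet N))
    (hcomm : ∀ x ∈ N, ∀ y ∈ N, x * y * x⁻¹ * y⁻¹ ∈ ZZ) : Ext N := by
  refine ⟨hN, habs, hcomm, fun x hx => ?_⟩
  obtain ⟨c, hc⟩ := habs.2 (((x * x : GG)) : MM) (by
    rintro _ ⟨y, hy, rfl⟩
    obtain ⟨d, hd⟩ := (mem_scalars_iff _).mp (hcomm x hx y hy)
    have hmem : x * y * x⁻¹ * y⁻¹ ∈ N := N.mul_mem (N.mul_mem (N.mul_mem hx hy) (N.inv_mem hx)) (N.inv_mem hy)
    have hxy : (x : MM) * (y : MM) = (d : F) • ((y : MM) * x) := by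
      have h := congrArg Units.val (show x * y = (x * y * x⁻¹ * y⁻¹) * (y * x) by group)
      rw [Units.val_mul, Units.val_mul (x * y * x⁻¹ * y⁻¹), hd, Units.val_mul, Matrix.smul_mul, Matrix.one_mul] at h
      exact h
    have hd2 : (d : F) * (d : F) = 1 := by
      rcases scalar_sq (hN hmem) hd with h | h <;> rw [h] <;> ring
    show ((x * x : GG) : MM) * (y : MM) = (y : MM) * ((x * x : GG) : MM)
    rw [Units.val_mul, mul_assoc, hxy, Matrix.mul_smul, ← mul_assoc, hxy, Matrix.smul_mul, smul_smul, hd2, one_smul,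
      mul_assoc])
  exact SLTwoPrime.mem_scalars_of_val hc

/-- The steps which the list of cases needs. -/
theorem maximal_cases_of {H : Subgroup GG} (hH : IsMaximalIn SP H) (hT : TensorStep H)
    (hCube : (∀ R : Subgroup GG, R ≤ SP → (∀ h ∈ H, ∀ x ∈ R, h * x * h⁻¹ ∈ R) →
      ActsAbsolutelyIrreducibly (matrixSet R) → (∀ x ∈ R, ∀ y ∈ R, x * y * x⁻¹ * y⁻¹ ∈ ZZ) →
      (∀ x ∈ R, x * x ∈ ZZ) → Cases H) → ∀ D : CubeData H, Cases H)
    (hType : ∀ R : Subgroup GG, H ≤ subgroupNormalizer R → Ext R → Cases H) : Cases H := by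
  classical
  by_contra hcases
  have hnz : ∀ R : Subgroup GG, (∀ h ∈ H, ∀ x ∈ R, h * x * h⁻¹ ∈ R) → H ≤ subgroupNormalizer R := by
    intro R hn g hg
    rw [Cfsg.Geo.subgroupNormalizer, Subgroup.mem_normalizer_iff]
    intro x
    refine ⟨fun hx => hn g hg x hx, fun hx => ?_⟩
    have h := hn g⁻¹ (inv_mem hg) _ hx
    simpa [mul_assoc] using h
  have hcube : ∀ D : CubeData H, Cases H :=
    hCube fun R hR hn ha hc hs => hType R (hnz R hn) ⟨hR, ha, hc, hs⟩
  have hirr : ActsIrreducibly (matrixSet H) := by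
    refine (TwoPrimeDim.actsIrreducibly_iff H).mpr fun W hW => ?_
    by_contra h
    rw [not_or] at h
    exact hcases (reducible_cases hH h.1 h.2 hW)
  have hns : ¬ H ≤ ZZ := by
    intro hle
    let v : VV := Pi.single (Sum.inl 0) 1
    have hv : v ≠ 0 := by simp [v]
    rcases (TwoPrimeDim.actsIrreducibly_iff H).mp hirr (F ∙ v) fun g hg w hw => by
        obtain ⟨c, hc⟩ := (mem_scalars_iff g).mp (hle hg)
        rw [hc, Matrix.smul_mulVec, Matrix.one_mulVec]
        exact Submodule.smul_mem _ _ hw with h | h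
    · rw [Submodule.span_singleton_eq_bot] at h
      exact hv h
    · have h1 := finrank_span_singleton (K := F) hv
      rw [h, finrank_top, Module.finrank_fintype_fun_eq_card, card_eight] at h1
      omega
  obtain ⟨P, hle, hnorm, hPsc, hmin⟩ := TwelveDim.exists_minimal hns
  have habs := (scalar_or_absIrred hH hT hcube hirr hcases hle hnorm).resolve_left hPsc
  by_cases hab : ∀ x ∈ P, ∀ y ∈ P, x * y * x⁻¹ * y⁻¹ ∈ ZZ
  · exact hcases (hType P (hnz P hnorm) (ext_of_class_two (hle.trans hH.1.le) habs hab))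
  rcases perfect_cases hH hle hnorm hPsc hmin (TwelveDim.adj_top habs) hab with hC | ⟨⟨D⟩⟩
  swap
  · exact hcases (hcube D)
  rcases SympTwoPrime.forms (m := 4) (by norm_num) hH hC.le hC.normal hC.perfect hC.simple hC.nonabelian
    hC.centralizer_scalar hC.absIrred with h | h | h
  · exact hcases (Or.inr (Or.inr (Or.inr (Or.inr (Or.inr (Or.inr (Or.inr (Or.inr (Or.inl h)))))))))
  · exact hcases (Or.inr (Or.inr (Or.inr (Or.inr (Or.inr (Or.inr (Or.inr (Or.inr (Or.inr (Or.inr (Or.inr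
      (Or.inl h))))))))))))
  · exact hcases (Or.inr (Or.inr (Or.inr (Or.inr (Or.inr (Or.inr (Or.inr (Or.inr (Or.inr (Or.inr (Or.inr (Or.inr
      h))))))))))))

end Cfsg.Agent.Lib.SympEight
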