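import Cfsg.Agent.Lib.SympEight.Defs
import Cfsg.Agent.Lib.SympTwoPrime.Tensor

/-!
The tensor step for the maximal subgroups of the symplectic group in dimension eight: a homogeneous normal subgroup
leads to a geometric case or to three commuting algebras of two by two matrices.
-/

set_option autoImplicit false
set_option linter.unusedSectionVars false

namespace Cfsg.Agent.Lib.SympEight

open Matrix Cfsg.Geo
open Cfsg.Agent.Lib
open Cfsg.Agent.Lib.MaxTensor
open Cfsg.Agent.Lib.SympTwoPrime (eq_inf_of_le exists_tensor_frame exists_kronecker tens kron_tens kron_mulVec_row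
  ext_dot sympPartner sympBilinear sympNondeg)
open scoped MatrixGroups Matrix Kronecker

variable {F : Type*} [Field F]

local notation "II" => (Fin 4 ⊕ Fin 4)
local notation "VV" => (Fin 4 ⊕ Fin 4 → F)
local notation "MM" => Matrix (Fin 4 ⊕ Fin 4) (Fin 4 ⊕ Fin 4) F
local notation "GG" => Matrix.GeneralLinearGroup (Fin 4 ⊕ Fin 4) F
local notation "M2" => Matrix (Fin 2) (Fin 2) F
local notation "ff" => Cfsg.sympForm 4 F
local notation "SP" => Cfsg.spGL 4 F
local notation "BB" => Cfsg.Agent.Lib.MaxSub.AltForm.B (Cfsg.Agent.Lib.MaxSub.stdAlt 4 F)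

/-- A tensor frame in which the form is the product of a form in two and a form in four dimensions. -/
structure Frame (H : Subgroup GG) where
  L : ((Fin 2 × Fin 4) → F) ≃ₗ[F] VV
  J : Matrix (Fin 2) (Fin 2) F
  G : Matrix (Fin 4) (Fin 4) F
  hJ : IsUnit J
  hG : IsUnit G
  ε : F
  hε : ε * ε = 1
  hJt : Jᵀ = ε • J
  hGt : Gᵀ = -(ε • G)
  form : ∀ x y, BB (L x) (L y) = ∑ r, ∑ s, J r s * ((fun j => x (r, j)) ⬝ᵥ G *ᵥ (fun j => y (s, j)))
  act : ∀ h ∈ H, ∃ (C : GL (Fin 2) F) (D : GL (Fin 4) F), ∀ x, (h : MM) *ᵥ L x =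
    L (((C : Matrix (Fin 2) (Fin 2) F) ⊗ₖ (D : Matrix (Fin 4) (Fin 4) F)) *ᵥ x)

theorem exists_one {n : ℕ} [NeZero n] {X : Matrix (Fin n) (Fin n) F} (hX : IsUnit X) :
    ∃ t t', t ⬝ᵥ X *ᵥ t' = 1 := by
  obtain ⟨U, rfl⟩ := hX
  exact ⟨Pi.single 0 1, (↑U⁻¹ : Matrix (Fin n) (Fin n) F) *ᵥ Pi.single 0 1, by
    rw [Matrix.mulVec_mulVec, Units.mul_inv, Matrix.one_mulVec]; simp⟩

/-- The isotropic hyperplane of a symmetric non-alternating matrix in characteristic two. -/
theorem exists_iso_sub [Fintype F] {n : ℕ} (hn : 1 < n) (h2 : (2 : F) = 0) {X : Matrix (Fin n) (Fin n) F}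
    (hsym : Xᵀ = X) (hne : ∃ x, x ⬝ᵥ X *ᵥ x ≠ 0) :
    ∃ W : Submodule F (Fin n → F), W ≠ ⊥ ∧ W ≠ ⊤ ∧ ∀ x, x ∈ W ↔ x ⬝ᵥ X *ᵥ x = 0 := by
  classical
  let q : (Fin n → F) → F := fun x => x ⬝ᵥ X *ᵥ x
  have hcomm : ∀ x y : Fin n → F, x ⬝ᵥ X *ᵥ y = y ⬝ᵥ X *ᵥ x := fun x y => by
    rw [Matrix.dotProduct_mulVec, dotProduct_comm, ← Matrix.mulVec_transpose, hsym]
  have hadd : ∀ x y, q (x + y) = q x + q y := fun x y => by
    simp only [q, Matrix.mulVec_add, add_dotProduct, dotProduct_add]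
    rw [hcomm y x]
    linear_combination (x ⬝ᵥ X *ᵥ y) * h2
  have hsmul : ∀ (c : F) x, q (c • x) = c * c * q x := fun c x => by
    simp only [q, Matrix.mulVec_smul, smul_dotProduct, dotProduct_smul, smul_eq_mul]; ring
  let W : Submodule F (Fin n → F) :=
    { carrier := {v | q v = 0}
      add_mem' := fun {a b} (ha : q a = 0) (hb : q b = 0) => show q (a + b) = 0 by rw [hadd, ha, hb, add_zero]
      zero_mem' := show q 0 = 0 by simp [q]
      smul_mem' := fun a v (hv : q v = 0) => show q (a • v) = 0 by rw [hsmul, hv, mul_zero] }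
  refine ⟨W, fun hW => ?_, fun hW => ?_, fun x => Iff.rfl⟩
  · have hinj : Function.Injective q := fun a b hab => by
      have hmem : a - b ∈ W := by
        show q (a - b) = 0
        have := hadd (a - b) b
        rw [sub_add_cancel, hab] at this
        linear_combination -this
      rw [hW, Submodule.mem_bot, sub_eq_zero] at hmem
      exact hmem
    have hcard := Fintype.card_le_of_injective q hinj
    rw [Fintype.card_fun, Fintype.card_fin] at hcard
    have h1 : 1 < Fintype.card F := Fintype.one_lt_card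
    have : Fintype.card F ^ 1 < Fintype.card F ^ n := Nat.pow_lt_pow_right h1 hn
    rw [pow_one] at this
    omega
  · obtain ⟨x, hx⟩ := hne
    exact hx (show x ∈ W from hW ▸ Submodule.mem_top)

theorem odd_card [Fintype F] (h2 : (2 : F) ≠ 0) : Odd (Fintype.card F) := by
  rw [Nat.odd_iff]
  exact FiniteField.odd_card_of_char_ne_two fun h => h2 (by
    haveI := ringChar.of_eq h
    exact CharTwo.two_eq_zero)

theorem not_odd_card [Fintype F] (h2 : (2 : F) = 0) : ¬ Odd (Fintype.card F) := by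
  rintro ⟨j, hj⟩
  have h := FiniteField.cast_card_eq_zero F
  rw [hj] at h
  push_cast at h
  exact one_ne_zero (α := F) (by linear_combination h - (j : F) * h2)

namespace Frame

variable {H : Subgroup (Matrix.GeneralLinearGroup (Fin 4 ⊕ Fin 4) F)} (T : Frame H)

include T

theorem form_tens (t t' : Fin 4 → F) (u u' : Fin 2 → F) :
    BB (T.L (tens t u)) (T.L (tens t' u')) = (u ⬝ᵥ T.J *ᵥ u') * (t ⬝ᵥ T.G *ᵥ t') := by
  rw [T.form]
  have e : ∀ (t : Fin 4 → F) (u : Fin 2 → F) r, (fun j => tens t u (r, j)) = u r • t := fun _ _ _ => rfl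
  simp only [e, Matrix.mulVec_smul, smul_dotProduct, dotProduct_smul, smul_eq_mul]
  generalize t ⬝ᵥ T.G *ᵥ t' = z
  simp only [dotProduct, Matrix.mulVec, Fin.sum_univ_two]
  ring

/-- Both factors act by similarities. -/
theorem act_sim (hH : H ≤ SP) {h : GG} (hh : h ∈ H) :
    ∃ (C : GL (Fin 2) F) (D : GL (Fin 4) F) (c : F), c ≠ 0 ∧
      (∀ x, (h : MM) *ᵥ T.L x = T.L (((C : M2) ⊗ₖ (D : Matrix (Fin 4) (Fin 4) F)) *ᵥ x)) ∧
      (∀ u u', ((C : M2) *ᵥ u) ⬝ᵥ T.J *ᵥ ((C : M2) *ᵥ u') = c * (u ⬝ᵥ T.J *ᵥ u')) ∧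
      ∀ t t', c * (((D : Matrix (Fin 4) (Fin 4) F) *ᵥ t) ⬝ᵥ T.G *ᵥ ((D : Matrix (Fin 4) (Fin 4) F) *ᵥ t')) =
        t ⬝ᵥ T.G *ᵥ t' := by
  obtain ⟨C, D, hCD⟩ := T.act h hh
  have key : ∀ u u' t t', (((C : M2) *ᵥ u) ⬝ᵥ T.J *ᵥ ((C : M2) *ᵥ u')) *
      (((D : Matrix (Fin 4) (Fin 4) F) *ᵥ t) ⬝ᵥ T.G *ᵥ ((D : Matrix (Fin 4) (Fin 4) F) *ᵥ t')) =
      (u ⬝ᵥ T.J *ᵥ u') * (t ⬝ᵥ T.G *ᵥ t') := fun u u' t t' => by
    have hp := MaxSub.mem_spGL_iff.1 (hH hh) (T.L (tens t u)) (T.L (tens t' u'))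
    rwa [hCD, hCD, kron_tens, kron_tens, T.form_tens, T.form_tens] at hp
  obtain ⟨t₀, t₀', ht⟩ := exists_one T.hG
  obtain ⟨u₀, u₀', hu⟩ := exists_one T.hJ
  set k := ((D : Matrix (Fin 4) (Fin 4) F) *ᵥ t₀) ⬝ᵥ T.G *ᵥ ((D : Matrix (Fin 4) (Fin 4) F) *ᵥ t₀') with hk
  have h0 := key u₀ u₀' t₀ t₀'
  rw [← hk, ht, hu, mul_one] at h0
  have hk0 : k ≠ 0 := fun h => by rw [h, mul_zero] at h0; exact zero_ne_one h0
  refine ⟨C, D, k⁻¹, inv_ne_zero hk0, hCD, fun u u' => ?_, fun t t' => ?_⟩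
  · have h1 := key u u' t₀ t₀'
    rw [← hk, ht, mul_one] at h1
    rw [← h1, mul_comm _ k, inv_mul_cancel_left₀ hk0]
  · have h1 := key u₀ u₀' t t'
    rw [eq_inv_of_mul_eq_one_left h0, hu, one_mul] at h1
    exact h1

/-- An irreducible group leaves no tensor subspace invariant. -/
theorem false_of_invariant (hirrH : ActsIrreducibly (matrixSet H)) (hH : H ≤ SP)
    (S : Submodule F (Fin 2 × Fin 4 → F)) (h0 : S ≠ ⊥) (h1 : S ≠ ⊤)
    (hS : ∀ (C : GL (Fin 2) F) (D : GL (Fin 4) F) (c : F), c ≠ 0 →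
      (∀ u u', ((C : M2) *ᵥ u) ⬝ᵥ T.J *ᵥ ((C : M2) *ᵥ u') = c * (u ⬝ᵥ T.J *ᵥ u')) →
      (∀ t t', c * (((D : Matrix (Fin 4) (Fin 4) F) *ᵥ t) ⬝ᵥ T.G *ᵥ ((D : Matrix (Fin 4) (Fin 4) F) *ᵥ t')) =
        t ⬝ᵥ T.G *ᵥ t') →
      ∀ x ∈ S, ((C : M2) ⊗ₖ (D : Matrix (Fin 4) (Fin 4) F)) *ᵥ x ∈ S) : False := by
  rcases hirrH (S.map T.L.toLinearMap) (by
    rintro _ ⟨h, hh, rfl⟩ _ ⟨_, ⟨x, hx, rfl⟩, rfl⟩
    obtain ⟨C, D, c, hc, hCD, hC, hD⟩ := T.act_sim hH hh
    exact ⟨_, hS C D c hc hC hD x hx, by rw [Matrix.toLin'_apply]; exact (hCD x).symm⟩) with h | h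
  · exact h0 (Submodule.map_eq_bot_iff.1 h)
  · apply h1
    rw [eq_top_iff]
    intro x _
    have hx : T.L x ∈ S.map T.L.toLinearMap := h ▸ Submodule.mem_top
    obtain ⟨y, hy, hyx⟩ := hx
    exact T.L.injective hyx ▸ hy

/-- A subspace of the left factor stable under similarities is trivial. -/
theorem false_of_left (hirrH : ActsIrreducibly (matrixSet H)) (hH : H ≤ SP) {W : Submodule F (Fin 2 → F)}
    (h0 : W ≠ ⊥) (h1 : W ≠ ⊤)
    (hW : ∀ (C : M2) (c : F), c ≠ 0 → (∀ u u', (C *ᵥ u) ⬝ᵥ T.J *ᵥ (C *ᵥ u') = c * (u ⬝ᵥ T.J *ᵥ u')) →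
      ∀ u ∈ W, C *ᵥ u ∈ W) : False := by
  classical
  obtain ⟨w, hw, hw0⟩ := (Submodule.ne_bot_iff _).1 h0
  let S : Submodule F (Fin 2 × Fin 4 → F) :=
    ⨅ j : Fin 4, W.comap (LinearMap.pi fun r => LinearMap.proj (r, j))
  have hmem : ∀ x, x ∈ S ↔ ∀ j, (fun r => x (r, j)) ∈ W := fun x => by simp [S]; rfl
  refine T.false_of_invariant hirrH hH S (fun h => hw0 ?_) (fun h => h1 (eq_top_iff.2 fun u _ => ?_)) ?_
  · let t0 : Fin 4 → F := Pi.single 0 1
    have : tens t0 w ∈ S := (hmem _).2 fun j => by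
      rw [show (fun r => tens t0 w (r, j)) = t0 j • w from funext fun r => mul_comm _ _]
      exact W.smul_mem _ hw
    rw [h, Submodule.mem_bot] at this
    funext r
    simpa [tens, t0] using congrFun this (r, 0)
  · exact (hmem (fun p => u p.1)).1 (h ▸ Submodule.mem_top) 0
  · intro C D c hc hC _ x hx
    rw [hmem] at hx ⊢
    intro j
    have e : (fun r => (((C : M2) ⊗ₖ (D : Matrix (Fin 4) (Fin 4) F)) *ᵥ x) (r, j)) =
        ∑ l, (D : Matrix (Fin 4) (Fin 4) F) j l • ((C : M2) *ᵥ fun r => x (r, l)) := by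
      funext r
      simp only [Matrix.mulVec, dotProduct, Fintype.sum_prod_type, Matrix.kroneckerMap_apply, Finset.sum_apply,
        Pi.smul_apply, smul_eq_mul, Finset.mul_sum]
      rw [Finset.sum_comm]
      exact Finset.sum_congr rfl fun _ _ => Finset.sum_congr rfl fun _ _ => by ring
    rw [e]
    exact Submodule.sum_mem _ fun l _ => W.smul_mem _ (hW _ c hc hC _ (hx l))

/-- A subspace of the right factor stable under similarities is trivial. -/
theorem false_of_right (hirrH : ActsIrreducibly (matrixSet H)) (hH : H ≤ SP) {W : Submodule F (Fin 4 → F)}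
    (h0 : W ≠ ⊥) (h1 : W ≠ ⊤)
    (hW : ∀ (D : Matrix (Fin 4) (Fin 4) F) (c : F), c ≠ 0 →
      (∀ t t', c * ((D *ᵥ t) ⬝ᵥ T.G *ᵥ (D *ᵥ t')) = t ⬝ᵥ T.G *ᵥ t') → ∀ t ∈ W, D *ᵥ t ∈ W) : False := by
  classical
  obtain ⟨w, hw, hw0⟩ := (Submodule.ne_bot_iff _).1 h0
  let S : Submodule F (Fin 2 × Fin 4 → F) :=
    ⨅ r : Fin 2, W.comap (LinearMap.pi fun j => LinearMap.proj (r, j))
  have hmem : ∀ x, x ∈ S ↔ ∀ r, (fun j => x (r, j)) ∈ W := fun x => by simp [S]; rfl
  refine T.false_of_invariant hirrH hH S (fun h => hw0 ?_) (fun h => h1 (eq_top_iff.2 fun u _ => ?_)) ?_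
  · let e0 : Fin 2 → F := Pi.single 0 1
    have : tens w e0 ∈ S := (hmem _).2 fun r => W.smul_mem (e0 r) hw
    rw [h, Submodule.mem_bot] at this
    funext j
    simpa [tens, e0] using congrFun this (0, j)
  · exact (hmem (fun p => u p.2)).1 (h ▸ Submodule.mem_top) 0
  · intro C D c hc _ hD x hx
    rw [hmem] at hx ⊢
    intro r
    rw [kron_mulVec_row]
    exact W.add_mem (W.smul_mem _ (hW _ c hc hD _ (hx 0))) (W.smul_mem _ (hW _ c hc hD _ (hx 1)))

/-- In characteristic two the sign is one. -/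
theorem eps_one (h2 : (2 : F) = 0) : T.ε = 1 := by
  have h : (T.ε - 1) * (T.ε - 1) = 0 := by linear_combination T.hε + (1 - T.ε) * h2
  exact sub_eq_zero.1 (mul_self_eq_zero.1 h)

/-- Characteristic two. -/
theorem case_two [Fintype F] (hirrH : ActsIrreducibly (matrixSet H)) (hH : IsMaximalIn SP H) (h2 : (2 : F) = 0) :
    Cases H := by
  classical
  have hJs : T.Jᵀ = T.J := by rw [T.hJt, T.eps_one h2, one_smul]
  have hneg : ∀ x : F, -x = x := fun x => by linear_combination (-x) * h2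
  have hGs : T.Gᵀ = T.G := by
    rw [T.hGt, T.eps_one h2, one_smul]
    ext i j
    exact hneg _
  by_cases hJa : ∀ u, u ⬝ᵥ T.J *ᵥ u = 0
  swap
  · push Not at hJa
    obtain ⟨W, h0, h1, hW⟩ := exists_iso_sub one_lt_two h2 hJs hJa
    exact (T.false_of_left hirrH hH.1.le h0 h1 fun C c hc hC u hu => by
      rw [hW] at hu ⊢
      rw [hC, hu, mul_zero]).elim
  by_cases hGa : ∀ t, t ⬝ᵥ T.G *ᵥ t = 0
  swap
  · push Not at hGa
    obtain ⟨W, h0, h1, hW⟩ := exists_iso_sub (by norm_num) h2 hGs hGa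
    exact (T.false_of_right hirrH hH.1.le h0 h1 fun D c hc hD t ht => by
      rw [hW] at ht ⊢
      exact (mul_eq_zero.1 ((hD t t).trans ht)).resolve_left hc).elim
  have j00 : T.J 0 0 = 0 := by simpa [Matrix.mulVec_single_one] using hJa (Pi.single 0 1)
  have j11 : T.J 1 1 = 0 := by simpa [Matrix.mulVec_single_one] using hJa (Pi.single 1 1)
  have j10 : T.J 1 0 = T.J 0 1 := congrFun (congrFun hJs 0) 1
  have hGc : ∀ s t : Fin 4 → F, s ⬝ᵥ T.G *ᵥ t = t ⬝ᵥ T.G *ᵥ s := fun s t => by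
    rw [Matrix.dotProduct_mulVec, dotProduct_comm, ← Matrix.mulVec_transpose, hGs]
  let Q : VV → F := fun v =>
    T.J 0 1 * ((fun j => T.L.symm v (0, j)) ⬝ᵥ T.G *ᵥ (fun j => T.L.symm v (1, j)))
  have hpol : ∀ u v : VV, QuadraticMap.polar Q u v = ff u v := by
    intro u v
    obtain ⟨x, rfl⟩ := T.L.surjective u
    obtain ⟨y, rfl⟩ := T.L.surjective v
    rw [← MaxSub.stdAlt_apply, T.form]
    simp only [QuadraticMap.polar, Q, map_add, LinearEquiv.symm_apply_apply, Pi.add_apply, Fin.sum_univ_two,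
      j00, j11, j10]
    rw [show (fun j => x (0, j) + y (0, j)) = (fun j => x (0, j)) + fun j => y (0, j) from rfl,
      show (fun j => x (1, j) + y (1, j)) = (fun j => x (1, j)) + fun j => y (1, j) from rfl,
      Matrix.mulVec_add, add_dotProduct, dotProduct_add, dotProduct_add, hGc (fun j => y (0, j)) fun j => x (1, j)]
    ring
  have hpe : QuadraticMap.polar Q = ff := funext fun u => funext fun v => hpol u v
  have hQ : IsNondegenerateQuadraticForm Q := by
    refine ⟨fun c v => ?_, by rw [hpe]; exact sympBilinear, by rw [hpe]; exact sympNondeg⟩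
    simp only [Q, map_smul, Pi.smul_apply, smul_eq_mul]
    rw [show (fun j => c * T.L.symm v (0, j)) = c • fun j => T.L.symm v (0, j) from rfl,
      show (fun j => c * T.L.symm v (1, j)) = c • fun j => T.L.symm v (1, j) from rfl,
      Matrix.mulVec_smul, smul_dotProduct, dotProduct_smul, smul_eq_mul, smul_eq_mul]
    ring
  have hpure : ∀ t u, Q (T.L (tens t u)) = 0 := fun t u => by
    simp only [Q, LinearEquiv.symm_apply_apply]
    rw [show (fun j => tens t u (0, j)) = u 0 • t from rfl, show (fun j => tens t u (1, j)) = u 1 • t from rfl,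
      Matrix.mulVec_smul, smul_dotProduct, dotProduct_smul, hGa, smul_zero, smul_zero, mul_zero]
  have hadd : ∀ u v, Q (u + v) = Q u + Q v + ff u v := fun u v => by
    rw [← hpol]; unfold QuadraticMap.polar; ring
  have hle : H ≤ quadSimilarityGroup Q := by
    intro h hh
    refine ⟨1, fun v => ?_⟩
    rw [Units.val_one, one_mul]
    obtain ⟨C, D, hCD⟩ := T.act h hh
    obtain ⟨x, rfl⟩ := T.L.surjective v
    have hx : x = tens (fun j => x (0, j)) ![1, 0] + tens (fun j => x (1, j)) ![0, 1] := by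
      funext p
      obtain ⟨r, j⟩ := p
      fin_cases r <;> simp [tens]
    rw [hx, map_add, Matrix.mulVec_add, hadd, hadd, hCD, hCD, kron_tens, kron_tens, hpure, hpure, hpure, hpure]
    congr 1
    have hp := MaxSub.mem_spGL_iff.1 (hH.1.le hh) (T.L (tens (fun j => x (0, j)) ![1, 0]))
      (T.L (tens (fun j => x (1, j)) ![0, 1]))
    rw [hCD, hCD, kron_tens, kron_tens, MaxSub.stdAlt_apply, MaxSub.stdAlt_apply] at hp
    exact hp
  exact Or.inr (Or.inr (Or.inr (Or.inr (Or.inr (Or.inr (Or.inr (Or.inr (Or.inr (Or.inr (Or.inr (Or.inl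
    ⟨not_odd_card h2, Q, hQ, hpol,
      eq_inf_of_le hH hle (SympTwoPrime.not_le_quadSimilarityGroup (by norm_num) hQ hpol)⟩)))))))))))

end Frame

/-- A skew-adjoint square root of a scalar normalised up to sign. -/
theorem skew_operator_cases [Fintype F] {H : Subgroup GG} (hH : IsMaximalIn SP H) (h2 : (2 : F) ≠ 0) {Ω : MM}
    {t : F} (ht : t ≠ 0) (hsq : Ω * Ω = t • (1 : MM))
    (hskew : ∀ u v, BB (Ω *ᵥ u) v = - BB u (Ω *ᵥ v))
    (hconj : ∀ h ∈ H, (h : MM) * Ω = Ω * (h : MM) ∨ (h : MM) * Ω = -(Ω * (h : MM))) : Cases H := by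
  classical
  have hq := odd_card h2
  have hΩ2 : ∀ v, Ω *ᵥ (Ω *ᵥ v) = t • v := fun v => by
    rw [Matrix.mulVec_mulVec, hsq, Matrix.smul_mulVec, Matrix.one_mulVec]
  by_cases hs : ∃ s : F, s * s = t
  · obtain ⟨s, hs⟩ := hs
    have hs0 : s ≠ 0 := fun h => ht (by rw [← hs, h, mul_zero])
    let E : F → Submodule F VV := fun σ => LinearMap.ker (Matrix.toLin' Ω - σ • LinearMap.id)
    have hE : ∀ σ v, v ∈ E σ ↔ Ω *ᵥ v = σ • v := fun σ v => by
      simp [E, LinearMap.mem_ker, sub_eq_zero]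
    have hts : ∀ σ, σ ≠ 0 → ∀ u ∈ E σ, ∀ v ∈ E σ, BB u v = 0 := fun σ hσ u hu v hv => by
      have h := hskew u v
      rw [(hE σ u).1 hu, (hE σ v).1 hv, map_smul, map_smul, LinearMap.smul_apply, smul_eq_mul] at h
      have : (2 * σ) * BB u v = 0 := by linear_combination h
      exact (mul_eq_zero.1 this).resolve_left (mul_ne_zero h2 hσ)
    have hdis : Disjoint (E s) (E (-s)) := by
      rw [disjoint_iff, eq_bot_iff]
      intro v hv
      have h1 := ((hE s v).1 hv.1).symm.trans ((hE (-s) v).1 hv.2)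
      rw [neg_smul, eq_neg_iff_add_eq_zero, ← add_smul] at h1
      rw [Submodule.mem_bot]
      exact (smul_eq_zero.1 h1).resolve_left (by rw [← two_mul]; exact mul_ne_zero h2 hs0)
    have hsplit : ∀ v : VV, ∃ a ∈ E s, ∃ b ∈ E (-s), a + b = v := by
      intro v
      refine ⟨(2 * s)⁻¹ • (s • v + Ω *ᵥ v), ?_, (2 * s)⁻¹ • (s • v - Ω *ᵥ v), ?_, ?_⟩
      · rw [hE, Matrix.mulVec_smul, Matrix.mulVec_add, Matrix.mulVec_smul, hΩ2, smul_comm s (2 * s)⁻¹,
          smul_add s, smul_smul s s v, hs, add_comm]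
      · rw [hE, Matrix.mulVec_smul, Matrix.mulVec_sub, Matrix.mulVec_smul, hΩ2, smul_comm (-s) (2 * s)⁻¹,
          smul_sub, smul_sub, smul_smul (-s) s v, neg_mul, hs, neg_smul, neg_smul]
        module
      · rw [← smul_add, show s • v + Ω *ᵥ v + (s • v - Ω *ᵥ v) = (2 * s) • v by module, smul_smul,
          inv_mul_cancel₀ (mul_ne_zero h2 hs0), one_smul]
    have htop : E s ⊔ E (-s) = ⊤ := eq_top_iff.2 fun v _ => by
      obtain ⟨a, ha, b, hb, rfl⟩ := hsplit v
      exact Submodule.add_mem_sup ha hb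
    have hle' : ∀ σ, σ ≠ 0 → E σ ⊔ E (-σ) = ⊤ → Module.finrank F (E σ) ≤ Module.finrank F (E (-σ)) := by
      intro σ hσ htopσ
      let f : E σ →ₗ[F] Module.Dual F (E (-σ)) := (BB).compl₁₂ (E σ).subtype (E (-σ)).subtype
      have hf : Function.Injective f := by
        rw [injective_iff_map_eq_zero]
        intro a ha
        apply Subtype.ext
        refine (MaxSub.stdAlt 4 F).nondeg _ fun y => ?_
        obtain ⟨p, hp, r, hr, rfl⟩ := Submodule.mem_sup.1 (htopσ ▸ Submodule.mem_top : y ∈ E σ ⊔ E (-σ))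
        have h1 : BB (a : VV) p = 0 := hts σ hσ _ a.2 p hp
        have h3 : BB (a : VV) r = 0 := LinearMap.congr_fun ha ⟨r, hr⟩
        rw [(MaxSub.stdAlt 4 F).skew, map_add, h1, h3, add_zero, neg_zero]
      have := LinearMap.finrank_le_finrank_of_injective hf
      rwa [Subspace.dual_finrank_eq] at this
    have hsum : Module.finrank F (E s) + Module.finrank F (E (-s)) = 8 := by
      rw [Submodule.finrank_add_eq_of_isCompl ⟨hdis, codisjoint_iff.2 htop⟩]
      simp
    have hl1 := hle' s hs0 htop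
    have hl2 : Module.finrank F (E (-s)) ≤ Module.finrank F (E s) := by
      have := hle' (-s) (neg_ne_zero.2 hs0) (by rw [neg_neg, sup_comm, htop])
      rwa [neg_neg] at this
    let sg : Fin 2 → F := ![s, -s]
    let D : Fin 2 → Submodule F VV := fun i => E (sg i)
    have hfr : ∀ i, Module.finrank F (D i) = 4 := fun i => by
      fin_cases i
      · show Module.finrank F (E s) = 4; omega
      · show Module.finrank F (E (-s)) = 4; omega
    have hdec : IsMDecomposition 4 D := by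
      refine ⟨le_rfl, by norm_num, hfr, fun i => ?_, eq_top_iff.2 (htop.ge.trans (sup_le ?_ ?_))⟩
      · fin_cases i
        · refine hdis.mono_right (iSup₂_le fun j hj => ?_)
          fin_cases j
          · exact absurd rfl hj
          · exact le_rfl
        · refine hdis.symm.mono_right (iSup₂_le fun j hj => ?_)
          fin_cases j
          · exact le_rfl
          · exact absurd rfl hj
      · exact le_iSup D 0
      · exact le_iSup D 1
    refine Or.inr (Or.inr (Or.inr (Or.inr (Or.inl ⟨hq, D, hdec, fun i u hu v hv => ?_,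
      eq_inf_of_le hH (fun h hh => ?_) (SympTwoPrime.not_le_decompositionStabilizer (by norm_num) hdec)⟩))))
    · rw [← MaxSub.stdAlt_apply]
      exact hts _ (by fin_cases i <;> simp [sg, hs0]) u hu v hv
    · have hinj : Function.Injective (Matrix.toLin' (h : MM)) := fun x y hxy => by
        have := congrArg (fun z => ((h⁻¹ : GG) : MM) *ᵥ z) hxy
        simpa [Matrix.toLin'_apply, Matrix.mulVec_mulVec] using this
      have key : ∀ (i j : Fin 2), (∀ v, Ω *ᵥ v = sg i • v → Ω *ᵥ ((h : MM) *ᵥ v) = sg j • ((h : MM) *ᵥ v)) →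
          (D i).map (Matrix.toLin' (h : MM)) = D j := fun i j hij => by
        refine Submodule.eq_of_le_of_finrank_eq ?_ ?_
        · rintro _ ⟨v, hv, rfl⟩
          rw [Matrix.toLin'_apply]
          exact (hE _ _).2 (hij v ((hE _ _).1 hv))
        · rw [← (Submodule.equivMapOfInjective _ hinj (D i)).finrank_eq, hfr, hfr]
      rcases hconj h hh with hc | hc
      · refine ⟨1, fun i => key i _ fun v hv => ?_⟩
        rw [Matrix.mulVec_mulVec, ← hc, ← Matrix.mulVec_mulVec, hv, Matrix.mulVec_smul]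
        rfl
      · refine ⟨Equiv.swap 0 1, fun i => key i _ fun v hv => ?_⟩
        rw [Matrix.mulVec_mulVec, show Ω * (h : MM) = -((h : MM) * Ω) by rw [hc, neg_neg], Matrix.neg_mulVec,
          ← Matrix.mulVec_mulVec, hv, Matrix.mulVec_smul, ← neg_smul]
        congr 1
        fin_cases i <;> simp [sg]
  · push Not at hs
    have hmul : ∀ a b c d : F, (a • (1 : MM) + b • Ω) * (c • (1 : MM) + d • Ω) =
        (a * c + b * d * t) • (1 : MM) + (a * d + b * c) • Ω := fun a b c d => by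
      simp only [add_mul, mul_add, Matrix.smul_mul, Matrix.mul_smul, one_mul, mul_one, hsq, smul_smul]
      module
    let K : Subalgebra F MM :=
      { carrier := {X | ∃ a b : F, X = a • (1 : MM) + b • Ω}
        mul_mem' := by rintro _ _ ⟨a, b, rfl⟩ ⟨c, d, rfl⟩; exact ⟨_, _, hmul a b c d⟩
        add_mem' := by rintro _ _ ⟨a, b, rfl⟩ ⟨c, d, rfl⟩; exact ⟨a + c, b + d, by module⟩
        algebraMap_mem' := fun r => ⟨r, 0, by rw [zero_smul, add_zero, Algebra.algebraMap_eq_smul_one]⟩ }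
    have hΩne : ∀ a : F, Ω ≠ a • (1 : MM) := fun a ha => by
      have h1 : (a * a) • (1 : MM) = t • (1 : MM) := by
        rw [← hsq, ha, Matrix.smul_mul, Matrix.mul_smul, one_mul, smul_smul]
      exact hs a (smul_left_injective F one_ne_zero h1)
    have hK : IsFieldSubalgebra 2 K := by
      refine ⟨?_, ?_, ?_⟩
      · rintro _ ⟨a, b, rfl⟩ _ ⟨c, d, rfl⟩
        rw [hmul, hmul]
        congr 2 <;> ring
      · rintro _ ⟨a, b, rfl⟩ hne
        have hN : a * a - b * b * t ≠ 0 := by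
          intro h0
          by_cases hb : b = 0
          · subst hb
            have : a = 0 := by simpa using h0
            exact hne (by rw [this, zero_smul, zero_smul, add_zero])
          · exact hs (a / b) (by field_simp; linear_combination h0)
        refine ⟨_, ⟨a / (a * a - b * b * t), -b / (a * a - b * b * t), rfl⟩, ?_⟩
        rw [hmul]
        have h1 : a * (a / (a * a - b * b * t)) + b * (-b / (a * a - b * b * t)) * t = 1 := by
          rw [show a * (a / (a * a - b * b * t)) + b * (-b / (a * a - b * b * t)) * t =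
            (a * a - b * b * t) / (a * a - b * b * t) by ring, div_self hN]
        have h3 : a * (-b / (a * a - b * b * t)) + b * (a / (a * a - b * b * t)) = 0 := by ring
        rw [h1, h3, one_smul, zero_smul, add_zero]
      · have hli : LinearIndependent F ![(1 : MM), Ω] := by
          rw [LinearIndependent.pair_iff' one_ne_zero]
          exact fun a h => hΩne a h.symm
        have hspan : Submodule.span F (Set.range ![(1 : MM), Ω]) = Subalgebra.toSubmodule K := by
          ext X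
          rw [Submodule.mem_span_range_iff_exists_fun]
          constructor
          · rintro ⟨f, rfl⟩
            exact ⟨f 0, f 1, by simp [Fin.sum_univ_two]⟩
          · rintro ⟨a, b, rfl⟩
            exact ⟨![a, b], by simp [Fin.sum_univ_two]⟩
        rw [← Subalgebra.finrank_toSubmodule, ← hspan, finrank_span_eq_card hli, Fintype.card_fin]
    have hΩK : Ω ∈ K := ⟨0, 1, by rw [zero_smul, one_smul, zero_add]⟩
    have hadj : IsAdjointClosedFor ff K := by
      rintro _ ⟨a, b, rfl⟩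
      refine ⟨a • 1 + (-b) • Ω, ⟨_, _, rfl⟩, fun u v => ?_⟩
      simp only [← MaxSub.stdAlt_apply, Matrix.add_mulVec, Matrix.smul_mulVec, Matrix.one_mulVec, map_add,
        map_smul, LinearMap.add_apply, LinearMap.smul_apply, smul_eq_mul, hskew]
      ring
    have hnsa : ¬ IsSelfAdjointFor ff K := fun hsa => by
      have hz : ∀ u, Ω *ᵥ u = 0 := fun u => (MaxSub.stdAlt 4 F).nondeg _ fun v => by
        have h := hsa Ω hΩK u v
        rw [← MaxSub.stdAlt_apply, ← MaxSub.stdAlt_apply, hskew] at h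
        have h' : BB u (Ω *ᵥ v) = 0 :=
          (mul_eq_zero.1 (show (2 : F) * BB u (Ω *ᵥ v) = 0 by linear_combination -h)).resolve_left h2
        rw [(MaxSub.stdAlt 4 F).skew, hskew, h', neg_zero, neg_zero]
      have hz' : Ω = 0 := Matrix.ext_of_mulVec_single fun i => by rw [hz, Matrix.zero_mulVec]
      rw [hz', zero_mul] at hsq
      exact ht ((smul_eq_zero.1 hsq.symm).resolve_right one_ne_zero)
    refine Or.inr (Or.inr (Or.inr (Or.inr (Or.inr (Or.inr (Or.inl ⟨hq, K, hK, hadj, hnsa,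
      eq_inf_of_le hH (fun h hh => ?_) (SympTwoPrime.not_le_subalgebraNormalizer (by norm_num) le_rfl hK)⟩))))))
    have fwd : ∀ g ∈ H, ∀ k ∈ K, ((g : GG) : MM) * k * ((g⁻¹ : GG) : MM) ∈ K := by
      rintro g hg _ ⟨a, b, rfl⟩
      rcases hconj g hg with hc | hc
      · refine ⟨a, b, ?_⟩
        rw [mul_add, add_mul, Matrix.mul_smul, mul_one, Matrix.mul_smul, hc, Matrix.smul_mul, Matrix.smul_mul,
          mul_assoc, Units.mul_inv, mul_one]
      · refine ⟨a, -b, ?_⟩
        rw [mul_add, add_mul, Matrix.mul_smul, mul_one, Matrix.mul_smul, hc, Matrix.smul_mul, Matrix.smul_mul,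
          neg_mul, mul_assoc, Units.mul_inv, mul_one, smul_neg, neg_smul]
    intro k
    refine ⟨fwd h hh k, fun hk => ?_⟩
    have := fwd h⁻¹ (H.inv_mem hh) _ hk
    simpa [mul_assoc] using this

namespace Frame

variable {H : Subgroup (Matrix.GeneralLinearGroup (Fin 4 ⊕ Fin 4) F)} (T : Frame H)

include T

/-- Odd characteristic, symmetric left factor. -/
theorem case_sym [Fintype F] (hH : IsMaximalIn SP H) (h2 : (2 : F) ≠ 0) (hε : T.ε = 1) : Cases H := by
  classical
  have j10 : T.J 1 0 = T.J 0 1 := by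
    have h := congrFun (congrFun T.hJt 0) 1
    rw [hε] at h
    simpa using h
  let J0 : M2 := !![0, 1; -1, 0]
  let j : M2 := !![T.J 0 1, T.J 1 1; -T.J 0 0, -T.J 0 1]
  have hdetJ : T.J.det ≠ 0 := ((Matrix.isUnit_iff_isUnit_det _).1 T.hJ).ne_zero
  have hjsq : j * j = (-T.J.det) • (1 : M2) := by
    ext a b
    fin_cases a <;> fin_cases b <;>
      simp [j, Matrix.mul_apply, Fin.sum_univ_two, Matrix.det_fin_two, j10] <;> ring
  have hJj : T.J * j = T.J.det • J0 := by
    ext a b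
    fin_cases a <;> fin_cases b <;>
      simp [j, J0, Matrix.mul_apply, Fin.sum_univ_two, Matrix.det_fin_two, j10] <;> ring
  have hC0 : ∀ C : M2, Cᵀ * J0 * C = C.det • J0 := fun C => by
    ext a b
    fin_cases a <;> fin_cases b <;>
      simp [J0, Matrix.mul_apply, Fin.sum_univ_two, Matrix.det_fin_two] <;> ring
  let Ω : MM := LinearMap.toMatrix'
    (T.L.toLinearMap ∘ₗ Matrix.toLin' (j ⊗ₖ (1 : Matrix (Fin 4) (Fin 4) F)) ∘ₗ T.L.symm.toLinearMap)
  have hΩ : ∀ x, Ω *ᵥ T.L x = T.L ((j ⊗ₖ (1 : Matrix (Fin 4) (Fin 4) F)) *ᵥ x) := fun x => by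
    rw [← Matrix.toLin'_apply, Matrix.toLin'_toMatrix']
    simp
  refine skew_operator_cases hH h2 (neg_ne_zero.2 hdetJ) (Ω := Ω) ?_ ?_ ?_
  · refine Matrix.toLin'.injective (LinearMap.ext fun v => ?_)
    obtain ⟨x, rfl⟩ := T.L.surjective v
    rw [Matrix.toLin'_apply, Matrix.toLin'_apply, ← Matrix.mulVec_mulVec, hΩ, hΩ, Matrix.mulVec_mulVec,
      ← Matrix.mul_kronecker_mul, hjsq, one_mul, Matrix.smul_kronecker, Matrix.one_kronecker_one,
      Matrix.smul_mulVec, Matrix.one_mulVec, map_smul, Matrix.smul_mulVec, Matrix.one_mulVec]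
  · intro u v
    obtain ⟨x, rfl⟩ := T.L.surjective u
    obtain ⟨y, rfl⟩ := T.L.surjective v
    rw [hΩ, hΩ, T.form, T.form]
    simp only [kron_mulVec_row, Matrix.one_mulVec, Matrix.mulVec_add, Matrix.mulVec_smul, add_dotProduct,
      dotProduct_add, smul_dotProduct, dotProduct_smul, smul_eq_mul, Fin.sum_univ_two]
    simp [j, j10]
    ring
  · intro h hh
    obtain ⟨C, D, c, hc, hCD, hC, -⟩ := T.act_sim hH.1.le hh
    have hCm : (C : M2)ᵀ * T.J * (C : M2) = c • T.J := ext_dot fun u u' => by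
      rw [← Matrix.mulVec_mulVec, ← Matrix.mulVec_mulVec, Matrix.dotProduct_mulVec, Matrix.vecMul_transpose, hC,
        Matrix.smul_mulVec, dotProduct_smul, smul_eq_mul]
    have hCu : (C : M2).det ≠ 0 := ((Matrix.isUnit_iff_isUnit_det _).1 C.isUnit).ne_zero
    have hunit : IsUnit ((C : M2)ᵀ * T.J) := ((Matrix.isUnit_transpose _).2 C.isUnit).mul T.hJ
    have hswap : (C : M2).det • ((C : M2) * j) = c • (j * (C : M2)) := by
      refine hunit.mul_left_cancel ?_
      have l : (C : M2)ᵀ * T.J * ((C : M2) * j) = c • (T.J.det • J0) := by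
        rw [← mul_assoc, hCm, Matrix.smul_mul, hJj]
      have r : (C : M2)ᵀ * T.J * (j * (C : M2)) = T.J.det • ((C : M2).det • J0) := by
        rw [show (C : M2)ᵀ * T.J * (j * (C : M2)) = (C : M2)ᵀ * (T.J * j) * (C : M2) by simp only [mul_assoc], hJj,
          Matrix.mul_smul, Matrix.smul_mul, hC0]
      rw [Matrix.mul_smul, Matrix.mul_smul, l, r, smul_smul, smul_smul, smul_smul, smul_smul]
      congr 1
      ring
    have hdd : (C : M2).det * (C : M2).det = c * c := by
      have h := congrArg Matrix.det hCm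
      rw [Matrix.det_mul, Matrix.det_mul, Matrix.det_transpose, Matrix.det_smul, Fintype.card_fin] at h
      exact mul_right_cancel₀ hdetJ (by linear_combination h)
    have key : ∀ (δ : F), (C : M2) * j = δ • (j * (C : M2)) → (h : MM) * Ω = δ • (Ω * (h : MM)) := fun δ hδ => by
      refine Matrix.toLin'.injective (LinearMap.ext fun v => ?_)
      obtain ⟨x, rfl⟩ := T.L.surjective v
      rw [Matrix.toLin'_apply, Matrix.toLin'_apply, ← Matrix.mulVec_mulVec, hΩ, hCD, Matrix.smul_mulVec,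
        ← Matrix.mulVec_mulVec, hCD, hΩ, Matrix.mulVec_mulVec, Matrix.mulVec_mulVec, ← Matrix.mul_kronecker_mul,
        ← Matrix.mul_kronecker_mul, hδ, one_mul, mul_one, Matrix.smul_kronecker, Matrix.smul_mulVec, map_smul]
    rcases mul_eq_zero.1 (show ((C : M2).det - c) * ((C : M2).det + c) = 0 by linear_combination hdd) with hd | hd
    · left
      rw [sub_eq_zero.1 hd] at hswap
      have h1 : (C : M2) * j = (1 : F) • (j * (C : M2)) := by rw [one_smul]; exact smul_right_injective _ hc hswap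
      simpa using key 1 h1
    · right
      rw [eq_neg_of_add_eq_zero_left hd, neg_smul] at hswap
      have h1 : (C : M2) * j = (-1 : F) • (j * (C : M2)) := by
        rw [neg_one_smul]
        exact smul_right_injective _ hc (show c • _ = c • _ by rw [smul_neg, ← hswap, neg_neg])
      simpa using key (-1) h1

end Frame

/-- The polar form of the determinant. -/
def pol (X Y : M2) : F := X 0 0 * Y 1 1 + X 1 1 * Y 0 0 - X 0 1 * Y 1 0 - X 1 0 * Y 0 1

theorem pol_mul_left (A X Y : M2) : pol (A * X) (A * Y) = A.det * pol X Y := by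
  simp only [pol, Matrix.mul_apply, Fin.sum_univ_two, Matrix.det_fin_two]; ring

theorem pol_mul_right (A X Y : M2) : pol (X * A) (Y * A) = A.det * pol X Y := by
  simp only [pol, Matrix.mul_apply, Fin.sum_univ_two, Matrix.det_fin_two]; ring

theorem anticomm_of_trace {X Y : M2} (hX : X 0 0 + X 1 1 = 0) (hY : Y 0 0 + Y 1 1 = 0) :
    X * Y + Y * X = (-pol X Y) • (1 : M2) := by
  have hx : X 1 1 = -X 0 0 := by linear_combination hX
  have hy : Y 1 1 = -Y 0 0 := by linear_combination hY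
  ext a b
  fin_cases a <;> fin_cases b <;> simp [pol, Matrix.mul_apply, Fin.sum_univ_two, hx, hy] <;> ring

/-- Similarities of the determinant form on two by two matrices. -/
theorem det_similarity (h2 : (2 : F) ≠ 0) (D : M2 →ₗ[F] M2) {c : F} (hc : c ≠ 0)
    (hD : ∀ X Y, c * pol (D X) (D Y) = pol X Y) :
    ∃ p q : GL (Fin 2) F, (∀ X, D X = (p : M2) * X * (q : M2)) ∨ (∀ X, D X = (p : M2) * Xᵀ * (q : M2)) := by
  classical
  set P : M2 := D 1 with hP
  have hP1 : c * P.det = 1 := by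
    have h := hD 1 1
    rw [← hP] at h
    simp [pol] at h
    refine mul_left_cancel₀ h2 ?_
    rw [Matrix.det_fin_two]
    linear_combination h
  obtain ⟨U, hU⟩ : ∃ U : GL (Fin 2) F, (U : M2) = P :=
    ⟨_, ((Matrix.isUnit_iff_isUnit_det P).2 (isUnit_iff_ne_zero.2 fun h => by
      rw [h, mul_zero] at hP1; exact zero_ne_one hP1)).unit_spec⟩
  let d : M2 →ₗ[F] M2 :=
    { toFun := fun X => ((U⁻¹ : GL (Fin 2) F) : M2) * D X
      map_add' := fun X Y => by rw [map_add, mul_add]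
      map_smul' := fun r X => by rw [map_smul, Matrix.mul_smul]; rfl }
  have hDd : ∀ X, D X = (U : M2) * d X := fun X => (Units.mul_inv_cancel_left U (D X)).symm
  have hd1 : d 1 = 1 := by
    show ((U⁻¹ : GL (Fin 2) F) : M2) * D 1 = 1
    rw [← hP, ← hU, Units.inv_mul]
  have hdp : ∀ X Y, pol (d X) (d Y) = pol X Y := fun X Y => by
    have h := hD X Y
    rw [hDd, hDd, pol_mul_left, hU, ← mul_assoc, hP1, one_mul] at h
    exact h
  let E12 : M2 := !![0, 1; 0, 0]
  let E21 : M2 := !![0, 0; 1, 0]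
  set e := d E12 with he
  set n := d E21 with hn
  have tr0 : ∀ X, pol 1 X = 0 → (d X) 0 0 + (d X) 1 1 = 0 := fun X hX => by
    have h := hdp 1 X
    rw [hd1, hX] at h
    simp [pol] at h
    linear_combination h
  have hte := tr0 E12 (by simp [pol, E12])
  have htn := tr0 E21 (by simp [pol, E21])
  have hnil : ∀ X : M2, X 0 0 + X 1 1 = 0 → pol X X = 0 → X * X = 0 := fun X hX hXX => by
    have h := anticomm_of_trace hX hX
    rw [hXX, neg_zero, zero_smul, ← two_smul F] at h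
    exact (smul_eq_zero.1 h).resolve_left h2
  have hee : e * e = 0 := hnil e hte (by rw [he, hdp]; simp [pol, E12])
  have hnn : n * n = 0 := hnil n htn (by rw [hn, hdp]; simp [pol, E21])
  have hen : e * n + n * e = 1 := by
    rw [anticomm_of_trace hte htn, hdp]
    simp [pol, E12, E21]
  obtain ⟨w, hw⟩ : ∃ w, e *ᵥ w ≠ 0 := by
    by_contra hcon
    push Not at hcon
    have h0 : e = 0 := Matrix.ext_of_mulVec_single fun i => by rw [hcon, Matrix.zero_mulVec]
    rw [h0, zero_mul, mul_zero, add_zero] at hen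
    exact zero_ne_one hen
  set v := e *ᵥ w with hv
  have hev : e *ᵥ v = 0 := by rw [hv, Matrix.mulVec_mulVec, hee, Matrix.zero_mulVec]
  have henv : e *ᵥ (n *ᵥ v) = v := by
    have h := congrArg (· *ᵥ v) hen
    simp only [Matrix.add_mulVec, Matrix.one_mulVec, ← Matrix.mulVec_mulVec, hev, Matrix.mulVec_zero, add_zero] at h
    exact h
  have hnnv : n *ᵥ (n *ᵥ v) = 0 := by rw [Matrix.mulVec_mulVec, hnn, Matrix.zero_mulVec]
  let s : M2 := Matrix.of fun i k => ![v, n *ᵥ v] k i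
  have hsv : ∀ a : Fin 2 → F, s *ᵥ a = a 0 • v + a 1 • (n *ᵥ v) := fun a => by
    funext i
    fin_cases i <;> simp [s, Matrix.mulVec, dotProduct, Fin.sum_univ_two] <;> ring
  have hsu : IsUnit s := by
    rw [← Matrix.mulVec_injective_iff_isUnit]
    refine fun a b hab => sub_eq_zero.1 ?_
    have h0 : s *ᵥ (a - b) = 0 := by rw [Matrix.mulVec_sub]; exact sub_eq_zero.2 hab
    rw [hsv] at h0
    have h1 := congrArg (e *ᵥ ·) h0
    simp only [Matrix.mulVec_add, Matrix.mulVec_smul, hev, henv, smul_zero, zero_add, Matrix.mulVec_zero] at h1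
    have hb1 := (smul_eq_zero.1 h1).resolve_right hw
    rw [hb1, zero_smul, add_zero] at h0
    have ha1 := (smul_eq_zero.1 h0).resolve_right hw
    funext i
    fin_cases i
    · exact ha1
    · exact hb1
  obtain ⟨S, hS⟩ : ∃ S : GL (Fin 2) F, (S : M2) = s := ⟨hsu.unit, hsu.unit_spec⟩
  have hes : e * s = s * E12 := Matrix.ext_of_mulVec_single fun i => by
    rw [← Matrix.mulVec_mulVec, ← Matrix.mulVec_mulVec, hsv, hsv, Matrix.mulVec_add, Matrix.mulVec_smul,
      Matrix.mulVec_smul, hev, henv, smul_zero, zero_add]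
    fin_cases i <;> simp [E12, Matrix.mulVec, dotProduct, Fin.sum_univ_two]
  have hns : n * s = s * E21 := Matrix.ext_of_mulVec_single fun i => by
    rw [← Matrix.mulVec_mulVec, ← Matrix.mulVec_mulVec, hsv, hsv, Matrix.mulVec_add, Matrix.mulVec_smul,
      Matrix.mulVec_smul, hnnv, smul_zero, add_zero]
    fin_cases i <;> simp [E21, Matrix.mulVec, dotProduct, Fin.sum_univ_two]
  let f : M2 →ₗ[F] M2 :=
    { toFun := fun X => ((S⁻¹ : GL (Fin 2) F) : M2) * d X * (S : M2)
      map_add' := fun X Y => by rw [map_add, mul_add, add_mul]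
      map_smul' := fun r X => by rw [map_smul, Matrix.mul_smul, Matrix.smul_mul]; rfl }
  have hdf : ∀ X, d X = (S : M2) * f X * ((S⁻¹ : GL (Fin 2) F) : M2) := fun X => by
    show d X = (S : M2) * (((S⁻¹ : GL (Fin 2) F) : M2) * d X * (S : M2)) * ((S⁻¹ : GL (Fin 2) F) : M2)
    simp [mul_assoc]
  have hf1 : f 1 = 1 := by
    show ((S⁻¹ : GL (Fin 2) F) : M2) * d 1 * (S : M2) = 1
    rw [hd1, mul_one, Units.inv_mul]
  have hf12 : f E12 = E12 := by
    show ((S⁻¹ : GL (Fin 2) F) : M2) * e * (S : M2) = E12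
    rw [mul_assoc, hS, hes, ← hS, Units.inv_mul_cancel_left]
  have hf21 : f E21 = E21 := by
    show ((S⁻¹ : GL (Fin 2) F) : M2) * n * (S : M2) = E21
    rw [mul_assoc, hS, hns, ← hS, Units.inv_mul_cancel_left]
  have hfp : ∀ X Y, pol (f X) (f Y) = pol X Y := fun X Y => by
    show pol (((S⁻¹ : GL (Fin 2) F) : M2) * d X * (S : M2)) (((S⁻¹ : GL (Fin 2) F) : M2) * d Y * (S : M2)) = _
    rw [pol_mul_right, pol_mul_left, hdp, ← mul_assoc, ← Matrix.det_mul, Units.mul_inv, Matrix.det_one, one_mul]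
  let H0 : M2 := !![1, 0; 0, -1]
  set h := f H0 with hh
  have k1 := hfp H0 1
  have k12 := hfp H0 E12
  have k21 := hfp H0 E21
  have k00 := hfp H0 H0
  rw [hf1, ← hh] at k1
  rw [hf12, ← hh] at k12
  rw [hf21, ← hh] at k21
  rw [← hh] at k00
  simp [pol, H0, E12, E21] at k1 k12 k21 k00
  have h11 : h 1 1 = - h 0 0 := by linear_combination k1
  have h00 : (h 0 0 - 1) * (h 0 0 + 1) = 0 := by
    refine (mul_eq_zero.1 (show (2 : F) * ((h 0 0 - 1) * (h 0 0 + 1)) = 0 from ?_)).resolve_left h2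
    rw [h11, k12, k21] at k00
    linear_combination -k00
  have hexp : ∀ X : M2, f X = ((X 0 0 + X 1 1) / 2) • (1 : M2) + X 0 1 • E12 + X 1 0 • E21 +
      ((X 0 0 - X 1 1) / 2) • h := fun X => by
    have hX : X = ((X 0 0 + X 1 1) / 2) • (1 : M2) + X 0 1 • E12 + X 1 0 • E21 + ((X 0 0 - X 1 1) / 2) • H0 := by
      ext a b
      fin_cases a <;> fin_cases b <;> simp [H0, E12, E21] <;> field_simp <;> ring
    conv_lhs => rw [hX]
    simp only [map_add, map_smul, hf1, hf12, hf21, ← hh]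
  rcases mul_eq_zero.1 h00 with hc' | hc'
  · have e00 : h 0 0 = 1 := sub_eq_zero.1 hc'
    have hid : ∀ X, f X = X := fun X => by
      rw [hexp]
      ext a b
      fin_cases a <;> fin_cases b <;> simp [E12, E21, h11, e00, k12, k21] <;> (try field_simp) <;> ring
    exact ⟨U * S, S⁻¹, Or.inl fun X => by rw [hDd, hdf, hid, Units.val_mul]; simp [mul_assoc]⟩
  · have e00 : h 0 0 = -1 := eq_neg_of_add_eq_zero_left hc'
    let W : GL (Fin 2) F := Matrix.GeneralLinearGroup.mkOfDetNeZero !![0, 1; 1, 0]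
      (by simp [Matrix.det_fin_two])
    have htr : ∀ X, f X = (W : M2) * Xᵀ * (W : M2) := fun X => by
      rw [hexp]
      ext a b
      fin_cases a <;> fin_cases b <;>
        simp [W, E12, E21, h11, e00, k12, k21, Matrix.mul_apply, Fin.sum_univ_two, Matrix.vecMul, dotProduct] <;>
        (try field_simp) <;> ring
    refine ⟨U * S * W, W * S⁻¹, Or.inr fun X => ?_⟩
    rw [hDd, hdf, htr, Units.val_mul, Units.val_mul, Units.val_mul]
    simp [mul_assoc]

/-- A plus type symmetric form in four dimensions is the determinant form. -/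
theorem exists_det_frame (h2 : (2 : F) ≠ 0) {G : Matrix (Fin 4) (Fin 4) F} (hG : IsUnit G) (hsym : Gᵀ = G)
    (hplus : IsPlusTypeOn (fun v : Fin 4 → F => v ⬝ᵥ G *ᵥ v) ⊤) :
    ∃ Ψ : M2 ≃ₗ[F] (Fin 4 → F), ∀ X Y, Ψ X ⬝ᵥ G *ᵥ Ψ Y = pol X Y := by
  classical
  obtain ⟨U, -, hU, hfr⟩ := hplus
  have hUd : Module.finrank F U = 2 := by
    rw [finrank_top, Module.finrank_fintype_fun_eq_card, Fintype.card_fin] at hfr
    omega
  let bU := Module.finBasisOfFinrankEq F U hUd
  have hc : ∀ x y : Fin 4 → F, x ⬝ᵥ G *ᵥ y = y ⬝ᵥ G *ᵥ x := fun x y => by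
    rw [Matrix.dotProduct_mulVec, dotProduct_comm, ← Matrix.mulVec_transpose, hsym]
  have hUU : ∀ x ∈ U, ∀ y ∈ U, x ⬝ᵥ G *ᵥ y = 0 := fun x hx y hy => by
    have h := hU _ (U.add_mem hx hy)
    simp only [Matrix.mulVec_add, add_dotProduct, dotProduct_add] at h
    rw [show x ⬝ᵥ G *ᵥ x = 0 from hU x hx, show y ⬝ᵥ G *ᵥ y = 0 from hU y hy, hc y x] at h
    exact (mul_eq_zero.1 (show (2 : F) * (x ⬝ᵥ G *ᵥ y) = 0 by linear_combination h)).resolve_left h2
  have hdual : ∀ i : Fin 2, ∃ g : Fin 4 → F, ∀ k : Fin 2, (bU k : Fin 4 → F) ⬝ᵥ G *ᵥ g = if k = i then 1 else 0 := by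
    intro i
    obtain ⟨φ, hφ⟩ := LinearMap.exists_extend (bU.coord i)
    obtain ⟨V, hV⟩ := hG
    refine ⟨(↑V⁻¹ : Matrix (Fin 4) (Fin 4) F) *ᵥ fun l => φ (Pi.single l 1), fun k => ?_⟩
    rw [← hV, Matrix.mulVec_mulVec, Units.mul_inv, Matrix.one_mulVec]
    have : φ (bU k : Fin 4 → F) = (bU k : Fin 4 → F) ⬝ᵥ fun l => φ (Pi.single l 1) := by
      conv_lhs => rw [pi_eq_sum_univ' (bU k : Fin 4 → F)]
      rw [map_sum]
      simp [dotProduct]
    rw [← this]
    have h := LinearMap.congr_fun hφ (bU k)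
    simp only [LinearMap.comp_apply, Submodule.coe_subtype, Module.Basis.coord_apply, Module.Basis.repr_self,
      Finsupp.single_apply] at h
    exact h
  choose g hg using hdual
  set e1 : Fin 4 → F := (bU 0 : Fin 4 → F)
  set e2 : Fin 4 → F := (bU 1 : Fin 4 → F)
  set f1 : Fin 4 → F := g 0 - ((g 0 ⬝ᵥ G *ᵥ g 0) / 2) • e1 with hf1
  set f2 : Fin 4 → F := g 1 - ((g 1 ⬝ᵥ G *ᵥ g 1) / 2) • e2 - (f1 ⬝ᵥ G *ᵥ g 1) • e1 with hf2
  have m11 : e1 ⬝ᵥ G *ᵥ e1 = 0 := hUU _ (bU 0).2 _ (bU 0).2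
  have m12 : e1 ⬝ᵥ G *ᵥ e2 = 0 := hUU _ (bU 0).2 _ (bU 1).2
  have m21 : e2 ⬝ᵥ G *ᵥ e1 = 0 := hUU _ (bU 1).2 _ (bU 0).2
  have m22 : e2 ⬝ᵥ G *ᵥ e2 = 0 := hUU _ (bU 1).2 _ (bU 1).2
  have n11 : e1 ⬝ᵥ G *ᵥ g 0 = 1 := by simpa using hg 0 0
  have n21 : e2 ⬝ᵥ G *ᵥ g 0 = 0 := by simpa using hg 0 1
  have n12 : e1 ⬝ᵥ G *ᵥ g 1 = 0 := by simpa using hg 1 0
  have n22 : e2 ⬝ᵥ G *ᵥ g 1 = 1 := by simpa using hg 1 1
  have n11' : g 0 ⬝ᵥ G *ᵥ e1 = 1 := (hc _ _).trans n11
  have n21' : g 0 ⬝ᵥ G *ᵥ e2 = 0 := (hc _ _).trans n21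
  have n12' : g 1 ⬝ᵥ G *ᵥ e1 = 0 := (hc _ _).trans n12
  have n22' : g 1 ⬝ᵥ G *ᵥ e2 = 1 := (hc _ _).trans n22
  have a1 : e1 ⬝ᵥ G *ᵥ f1 = 1 := by
    simp [hf1, Matrix.mulVec_sub, Matrix.mulVec_smul, m11, n11]
  have a2 : e2 ⬝ᵥ G *ᵥ f1 = 0 := by
    simp [hf1, Matrix.mulVec_sub, Matrix.mulVec_smul, m21, n21]
  have a1' : f1 ⬝ᵥ G *ᵥ e1 = 1 := (hc _ _).trans a1
  have a2' : f1 ⬝ᵥ G *ᵥ e2 = 0 := (hc _ _).trans a2
  have b1 : e1 ⬝ᵥ G *ᵥ f2 = 0 := by
    simp [hf2, Matrix.mulVec_sub, Matrix.mulVec_smul, m11, m12, n12]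
  have b2 : e2 ⬝ᵥ G *ᵥ f2 = 1 := by
    simp [hf2, Matrix.mulVec_sub, Matrix.mulVec_smul, m21, m22, n22]
  have b1' : f2 ⬝ᵥ G *ᵥ e1 = 0 := (hc _ _).trans b1
  have b2' : f2 ⬝ᵥ G *ᵥ e2 = 1 := (hc _ _).trans b2
  have c11 : f1 ⬝ᵥ G *ᵥ f1 = 0 := by
    conv_lhs => rw [hf1]
    simp [Matrix.mulVec_sub, Matrix.mulVec_smul, m11, n11, n11']
    field_simp
    ring
  have c12 : f1 ⬝ᵥ G *ᵥ f2 = 0 := by
    simp [hf2, Matrix.mulVec_sub, Matrix.mulVec_smul, a1', a2']
  have c21 : f2 ⬝ᵥ G *ᵥ f1 = 0 := (hc _ _).trans c12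
  have c22 : f2 ⬝ᵥ G *ᵥ f2 = 0 := by
    conv_lhs => rw [hf2]
    simp [Matrix.mulVec_sub, Matrix.mulVec_smul, m11, m12, m21, m22, n12, n12', n22, n22']
    field_simp
    ring
  let Ψ : M2 →ₗ[F] (Fin 4 → F) :=
    { toFun := fun X => X 0 0 • e1 + X 0 1 • e2 - X 1 0 • f2 + X 1 1 • f1
      map_add' := fun X Y => by simp only [Matrix.add_apply, add_smul]; abel
      map_smul' := fun r X => by
        simp only [Matrix.smul_apply, smul_eq_mul, RingHom.id_apply, smul_add, smul_sub, smul_smul] }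
  have hΨ : ∀ X Y, Ψ X ⬝ᵥ G *ᵥ Ψ Y = pol X Y := fun X Y => by
    simp only [Ψ, LinearMap.coe_mk, AddHom.coe_mk, Matrix.mulVec_add, Matrix.mulVec_sub, Matrix.mulVec_smul,
      add_dotProduct, sub_dotProduct, dotProduct_add, dotProduct_sub, smul_dotProduct, dotProduct_smul, smul_eq_mul,
      m11, m12, m21, m22, a1, a2, a1', a2', b1, b2, b1', b2', c11, c12, c21, c22, pol]
    ring
  have hinj : Function.Injective Ψ := by
    rw [injective_iff_map_eq_zero]
    intro X hX
    have h : ∀ Y, pol X Y = 0 := fun Y => by rw [← hΨ, hX, zero_dotProduct]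
    have q1 := h !![1, 0; 0, 0]
    have q2 := h !![0, 1; 0, 0]
    have q3 := h !![0, 0; 1, 0]
    have q4 := h !![0, 0; 0, 1]
    simp [pol] at q1 q2 q3 q4
    ext a b
    fin_cases a <;> fin_cases b <;> assumption
  exact ⟨LinearEquiv.ofBijective Ψ ⟨hinj, (LinearMap.injective_iff_surjective_of_finrank_eq_finrank
    (by simp [Module.finrank_matrix])).1 hinj⟩, hΨ⟩

namespace Frame

variable {H : Subgroup (Matrix.GeneralLinearGroup (Fin 4 ⊕ Fin 4) F)} (T : Frame H)

include T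

/-- Odd characteristic, alternating left factor, minus type. -/
theorem case_minus [Fintype F] (hH : IsMaximalIn SP H) (h2 : (2 : F) ≠ 0) (hε : T.ε = -1)
    (hplus : ¬ IsPlusTypeOn (fun v : Fin 4 → F => v ⬝ᵥ T.G *ᵥ v) ⊤) : Cases H := by
  have hsym : T.Gᵀ = T.G := by rw [T.hGt, hε, neg_one_smul, neg_neg]
  have jd : ∀ i, T.J i i = 0 := fun i => by
    have h := congrFun (congrFun T.hJt i) i
    rw [hε] at h
    simp at h
    exact (mul_eq_zero.1 (show (2 : F) * T.J i i = 0 by linear_combination h)).resolve_left h2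
  have j10 : T.J 1 0 = - T.J 0 1 := by
    have h := congrFun (congrFun T.hJt 0) 1
    rw [hε] at h
    simpa using h
  have ha : T.J 0 1 ≠ 0 := fun h0 => ((Matrix.isUnit_iff_isUnit_det _).1 T.hJ).ne_zero (by
    rw [Matrix.det_fin_two, jd, jd, h0]; ring)
  obtain ⟨e, P, hP, hmem⟩ := exists_tensor_frame T.L
  let f₁ : (Fin 2 → F) → (Fin 2 → F) → F := fun u v => T.J 0 1 * (u 0 * v 1 - u 1 * v 0)
  let f₂ : (Fin 4 → F) → (Fin 4 → F) → F := fun v w => v ⬝ᵥ T.G *ᵥ w
  have g₁ : gramMatrix f₁ = T.J := by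
    ext i j
    fin_cases i <;> fin_cases j <;> simp [gramMatrix, f₁, jd, j10]
  have g₂ : gramMatrix f₂ = T.G := by
    ext i j
    simp [gramMatrix, f₂, Matrix.mulVec_single_one]
  have h₁ : IsSymplecticForm f₁ := by
    refine ⟨⟨?_, ?_, ?_, ?_⟩, fun v w => by simp only [f₁]; ring, fun v => by simp only [f₁]; ring, ?_⟩
    any_goals intro x y z; simp only [f₁, Pi.add_apply, Pi.smul_apply, smul_eq_mul]; ring
    intro v hv
    obtain ⟨i, hi⟩ := Function.ne_iff.1 hv
    fin_cases i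
    · exact ⟨⟨![0, 1], by simpa [f₁, ha] using hi⟩, ![0, 1], by simpa [f₁, ha] using hi⟩
    · exact ⟨⟨![1, 0], by simpa [f₁, ha] using hi⟩, ![1, 0], by simpa [f₁, ha] using hi⟩
  have hs : ∀ u v, f₂ u v = f₂ v u := fun u v => by
    show u ⬝ᵥ T.G *ᵥ v = v ⬝ᵥ T.G *ᵥ u
    rw [Matrix.dotProduct_mulVec, dotProduct_comm, ← Matrix.mulVec_transpose, hsym]
  have h₂ : IsSymmetricForm f₂ := by
    refine ⟨⟨fun x y v => ?_, fun c x v => ?_, fun v x y => ?_, fun c v x => ?_⟩, hs, fun v hv => ?_⟩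
    · simp only [f₂, add_dotProduct]
    · simp only [f₂, smul_dotProduct, smul_eq_mul]
    · simp only [f₂, Matrix.mulVec_add, dotProduct_add]
    · simp only [f₂, Matrix.mulVec_smul, dotProduct_smul, smul_eq_mul]
    have h : ∃ x, f₂ x v ≠ 0 := by
      by_contra hc
      simp only [not_exists, not_not] at hc
      apply hv
      have h0 : T.G *ᵥ v = 0 := dotProduct_eq_zero _ fun x => by rw [dotProduct_comm]; exact hc x
      exact Matrix.mulVec_injective_iff_isUnit.2 T.hG (by rw [h0, Matrix.mulVec_zero])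
    obtain ⟨x, hx⟩ := h
    exact ⟨⟨x, hx⟩, x, by rwa [hs]⟩
  have hstr : IsTensorFormStructure id ff f₁ f₂ e P := by
    refine ⟨1, one_ne_zero, fun x y => ?_⟩
    rw [hP, hP, ← MaxSub.stdAlt_apply, T.form, one_mul, g₁, g₂]
    simp only [formOfGram, dotProduct, Matrix.mulVec, Fintype.sum_prod_type, Matrix.kroneckerMap_apply, id_eq,
      Finset.mul_sum]
    refine Finset.sum_congr rfl fun r _ => ?_
    rw [Finset.sum_comm]
    exact Finset.sum_congr rfl fun j _ => Finset.sum_congr rfl fun s _ => Finset.sum_congr rfl fun l _ => by ring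
  refine Or.inr (Or.inr (Or.inr (Or.inr (Or.inr (Or.inr (Or.inr (Or.inl
    ⟨odd_card h2, e, P, f₁, f₂, h₁, h₂, hplus, hstr, eq_inf_of_le hH (fun h hh => ?_)
      (SympTwoPrime.not_le_tensorProductSubgroup le_rfl (by norm_num) e P)⟩)))))))
  obtain ⟨C, D, hCD⟩ := T.act h hh
  exact hmem h C D hCD

end Frame

/-- Left multiplication on the first factor. -/
def opZero : M2 →ₗ[F] (Fin 2 → M2) →ₗ[F] (Fin 2 → M2) :=
  LinearMap.mk₂ F (fun a X r => ∑ s, a r s • X s)
    (fun a b X => by funext r; simp [add_smul, Finset.sum_add_distrib])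
    (fun c a X => by funext r; simp [Finset.smul_sum, smul_smul])
    (fun a X Y => by funext r; simp [smul_add, Finset.sum_add_distrib])
    (fun c a X => by
      funext r
      simp only [Pi.smul_apply, Finset.smul_sum, smul_smul]
      exact Finset.sum_congr rfl fun s _ => by rw [mul_comm])

/-- Left multiplication on the second factor. -/
def opLeft : M2 →ₗ[F] (Fin 2 → M2) →ₗ[F] (Fin 2 → M2) :=
  LinearMap.mk₂ F (fun a X r => a * X r)
    (fun a b X => by funext r; simp [add_mul])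
    (fun c a X => by funext r; simp [Matrix.smul_mul])
    (fun a X Y => by funext r; simp [mul_add])
    (fun c a X => by funext r; simp [Matrix.mul_smul])

/-- Transposed right multiplication on the second factor. -/
def opRight : M2 →ₗ[F] (Fin 2 → M2) →ₗ[F] (Fin 2 → M2) :=
  LinearMap.mk₂ F (fun a X r => X r * aᵀ)
    (fun a b X => by funext r; simp [mul_add])
    (fun c a X => by funext r; simp [Matrix.mul_smul])
    (fun a X Y => by funext r; simp [add_mul])
    (fun c a X => by funext r; simp [Matrix.smul_mul])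

theorem opZero_apply (a : M2) (X : Fin 2 → M2) (r : Fin 2) : opZero a X r = a r 0 • X 0 + a r 1 • X 1 := by
  simp [opZero, Fin.sum_univ_two]

theorem opLeft_apply (a : M2) (X : Fin 2 → M2) (r : Fin 2) : opLeft a X r = a * X r := rfl

theorem opRight_apply (a : M2) (X : Fin 2 → M2) (r : Fin 2) : opRight a X r = X r * aᵀ := rfl

theorem opZero_mul (a b : M2) (X : Fin 2 → M2) : opZero (a * b) X = opZero a (opZero b X) := by
  funext r
  simp only [opZero_apply, Matrix.mul_apply, Fin.sum_univ_two]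
  module

theorem opZero_comm_map (D : M2 →ₗ[F] M2) (a : M2) (X : Fin 2 → M2) :
    (fun r => D (opZero a X r)) = opZero a fun r => D (X r) := by
  funext r
  simp only [opZero_apply, map_add, map_smul]

/-- A linear family of endomorphisms transported to matrices. -/
def transport (E : (Fin 2 → M2) ≃ₗ[F] VV) (op : M2 →ₗ[F] (Fin 2 → M2) →ₗ[F] (Fin 2 → M2)) : M2 →ₗ[F] MM where
  toFun a := LinearMap.toMatrix' (E.toLinearMap ∘ₗ op a ∘ₗ E.symm.toLinearMap)
  map_add' a b := by rw [map_add, LinearMap.add_comp, LinearMap.comp_add, map_add]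
  map_smul' c a := by rw [map_smul, LinearMap.smul_comp, LinearMap.comp_smul, map_smul]; rfl

theorem transport_apply (E : (Fin 2 → M2) ≃ₗ[F] VV) (op : M2 →ₗ[F] (Fin 2 → M2) →ₗ[F] (Fin 2 → M2)) (a : M2)
    (X : Fin 2 → M2) : transport E op a *ᵥ E X = E (op a X) := by
  have e : transport E op a = LinearMap.toMatrix' (E.toLinearMap ∘ₗ op a ∘ₗ E.symm.toLinearMap) := rfl
  rw [e, ← Matrix.toLin'_apply, Matrix.toLin'_toMatrix']
  simp

/-- The transported algebra homomorphism. -/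
def algOf (E : (Fin 2 → M2) ≃ₗ[F] VV) (op : M2 →ₗ[F] (Fin 2 → M2) →ₗ[F] (Fin 2 → M2))
    (h1 : ∀ X, op 1 X = X) (hm : ∀ a b X, op (a * b) X = op a (op b X)) : M2 →ₐ[F] MM :=
  AlgHom.ofLinearMap (transport E op)
    (Matrix.toLin'.injective (LinearMap.ext fun v => by
      obtain ⟨X, rfl⟩ := E.surjective v
      rw [Matrix.toLin'_apply, Matrix.toLin'_apply, transport_apply, h1, Matrix.one_mulVec]))
    (fun a b => Matrix.toLin'.injective (LinearMap.ext fun v => by
      obtain ⟨X, rfl⟩ := E.surjective v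
      rw [Matrix.toLin'_apply, Matrix.toLin'_apply, ← Matrix.mulVec_mulVec, transport_apply, transport_apply,
        transport_apply, hm]))

namespace Frame

variable {H : Subgroup (Matrix.GeneralLinearGroup (Fin 4 ⊕ Fin 4) F)} (T : Frame H)

include T

/-- Odd characteristic, alternating left factor, plus type: three commuting algebras. -/
theorem case_cube (hH : H ≤ SP) (h2 : (2 : F) ≠ 0) (hε : T.ε = -1)
    (hplus : IsPlusTypeOn (fun v : Fin 4 → F => v ⬝ᵥ T.G *ᵥ v) ⊤) : Nonempty (CubeData H) := by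
  classical
  have hsym : T.Gᵀ = T.G := by rw [T.hGt, hε, neg_one_smul, neg_neg]
  have jd : ∀ i, T.J i i = 0 := fun i => by
    have h := congrFun (congrFun T.hJt i) i
    rw [hε] at h
    simp at h
    exact (mul_eq_zero.1 (show (2 : F) * T.J i i = 0 by linear_combination h)).resolve_left h2
  have j10 : T.J 1 0 = - T.J 0 1 := by
    have h := congrFun (congrFun T.hJt 0) 1
    rw [hε] at h
    simpa using h
  obtain ⟨Ψ, hΨ⟩ := exists_det_frame h2 T.hG hsym hplus
  let sw : (Fin 2 → M2) ≃ₗ[F] (Fin 2 × Fin 4 → F) :=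
    { toFun := fun X p => Ψ (X p.1) p.2
      invFun := fun x r => Ψ.symm fun j => x (r, j)
      map_add' := fun X Y => by funext p; simp
      map_smul' := fun c X => by funext p; simp
      left_inv := fun X => by funext r; exact Ψ.symm_apply_apply (X r)
      right_inv := fun x => by
        funext p
        show Ψ (Ψ.symm fun j => x (p.1, j)) p.2 = x p
        rw [Ψ.apply_symm_apply] }
  let E : (Fin 2 → M2) ≃ₗ[F] VV := sw.trans T.L
  have hform : ∀ X Y, BB (E X) (E Y) = T.J 0 1 * (pol (X 0) (Y 1) - pol (X 1) (Y 0)) := fun X Y => by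
    show BB (T.L (sw X)) (T.L (sw Y)) = _
    rw [T.form]
    show ∑ r, ∑ s, T.J r s * (Ψ (X r) ⬝ᵥ T.G *ᵥ Ψ (Y s)) = _
    simp only [hΨ, Fin.sum_univ_two, jd, j10]
    ring
  let φ : Fin 3 → (M2 →ₐ[F] MM) := ![
    algOf E opZero (fun X => by funext r; fin_cases r <;> simp [opZero_apply]) opZero_mul,
    algOf E opLeft (fun X => by funext r; rw [opLeft_apply, one_mul])
      (fun a b X => by funext r; simp only [opLeft_apply, mul_assoc]),
    algOf E opRight (fun X => by funext r; rw [opRight_apply, Matrix.transpose_one, mul_one])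
      (fun a b X => by funext r; simp only [opRight_apply, Matrix.transpose_mul, mul_assoc])]
  have h0 : ∀ a X, φ 0 a *ᵥ E X = E (opZero a X) := fun a X => transport_apply E opZero a X
  have h1 : ∀ a X, φ 1 a *ᵥ E X = E (opLeft a X) := fun a X => transport_apply E opLeft a X
  have h3 : ∀ a X, φ 2 a *ᵥ E X = E (opRight a X) := fun a X => transport_apply E opRight a X
  have hext : ∀ {A B : MM}, (∀ X, A *ᵥ E X = B *ᵥ E X) → A = B := fun {A B} h =>
    Matrix.toLin'.injective (LinearMap.ext fun v => by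
      obtain ⟨X, rfl⟩ := E.surjective v
      rw [Matrix.toLin'_apply, Matrix.toLin'_apply, h])
  have c01 : ∀ a b, φ 0 a * φ 1 b = φ 1 b * φ 0 a := fun a b => hext fun X => by
    rw [← Matrix.mulVec_mulVec, ← Matrix.mulVec_mulVec, h1, h0, h0, h1]
    congr 1
    funext r
    simp only [opZero_apply, opLeft_apply, mul_add, Matrix.mul_smul]
  have c02 : ∀ a b, φ 0 a * φ 2 b = φ 2 b * φ 0 a := fun a b => hext fun X => by
    rw [← Matrix.mulVec_mulVec, ← Matrix.mulVec_mulVec, h3, h0, h0, h3]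
    congr 1
    funext r
    simp only [opZero_apply, opRight_apply, add_mul, Matrix.smul_mul]
  have c12 : ∀ a b, φ 1 a * φ 2 b = φ 2 b * φ 1 a := fun a b => hext fun X => by
    rw [← Matrix.mulVec_mulVec, ← Matrix.mulVec_mulVec, h3, h1, h1, h3]
    congr 1
    funext r
    simp only [opLeft_apply, opRight_apply, mul_assoc]
  refine ⟨⟨φ, fun i j hij a b => ?_, fun h hh => ?_, fun i a u v => ?_⟩⟩
  · fin_cases i <;> fin_cases j
    · exact absurd rfl hij
    · exact c01 a b
    · exact c02 a b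
    · exact (c01 b a).symm
    · exact absurd rfl hij
    · exact c12 a b
    · exact (c02 b a).symm
    · exact (c12 b a).symm
    · exact absurd rfl hij
  · obtain ⟨C, D, c, hc, hCD, -, hD⟩ := T.act_sim hH hh
    let D' : M2 →ₗ[F] M2 :=
      Ψ.symm.toLinearMap ∘ₗ Matrix.toLin' (D : Matrix (Fin 4) (Fin 4) F) ∘ₗ Ψ.toLinearMap
    have hD' : ∀ X, Ψ (D' X) = (D : Matrix (Fin 4) (Fin 4) F) *ᵥ Ψ X := fun X => by simp [D']
    obtain ⟨p, q, hpq⟩ := det_similarity h2 D' hc fun X Y => by rw [← hΨ, ← hΨ, hD', hD', hD]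
    have hact : ∀ X, (h : MM) *ᵥ E X = E (opZero (C : M2) fun s => D' (X s)) := fun X => by
      show (h : MM) *ᵥ T.L (sw X) = T.L (sw _)
      rw [hCD]
      congr 1
      funext ⟨r, j⟩
      have e := congrFun (kron_mulVec_row (C : M2) (D : Matrix (Fin 4) (Fin 4) F) (sw X) r) j
      refine e.trans ?_
      show _ = Ψ (opZero (C : M2) (fun s => D' (X s)) r) j
      rw [opZero_apply, map_add, map_smul, map_smul, hD', hD']
      rfl
    have hin : ∀ (i : Fin 3) a b, (∀ X, (h : MM) *ᵥ (φ i a *ᵥ E X) = φ i b *ᵥ ((h : MM) *ᵥ E X)) →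
        (h : MM) * φ i a * ((h⁻¹ : GG) : MM) = φ i b := fun i a b hX => by
      have e : (h : MM) * φ i a = φ i b * (h : MM) := hext fun X => by
        rw [← Matrix.mulVec_mulVec, ← Matrix.mulVec_mulVec, hX]
      rw [e, mul_assoc, Units.mul_inv, mul_one]
    have hgen : ∀ (i k : Fin 3) a b, (∀ X, (h : MM) *ᵥ (φ i a *ᵥ E X) = φ k b *ᵥ ((h : MM) *ᵥ E X)) →
        (h : MM) * φ i a * ((h⁻¹ : GG) : MM) ∈ (φ k).range := fun i k a b hX => by
      refine ⟨b, ?_⟩
      have e : (h : MM) * φ i a = φ k b * (h : MM) := hext fun X => by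
        rw [← Matrix.mulVec_mulVec, ← Matrix.mulVec_mulVec, hX]
      show φ k b = _
      rw [e, mul_assoc, Units.mul_inv, mul_one]
    have m0 : ∀ a, (h : MM) * φ 0 a * ((h⁻¹ : GG) : MM) ∈ (φ 0).range := fun a => by
      refine hgen 0 0 a ((C : M2) * a * ((C⁻¹ : GL (Fin 2) F) : M2)) fun X => ?_
      rw [h0, hact, hact, h0, opZero_comm_map, ← opZero_mul, ← opZero_mul]
      simp [mul_assoc]
    rcases hpq with hp | hp
    · refine ⟨1, fun i a => ?_⟩
      fin_cases i
      · exact m0 a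
      · refine hgen 1 1 a ((p : M2) * a * ((p⁻¹ : GL (Fin 2) F) : M2)) fun X => ?_
        rw [h1, hact, hact, h1]
        congr 1
        funext r
        simp only [opZero_apply, opLeft_apply, hp, mul_add, Matrix.mul_smul]
        simp [mul_assoc]
      · refine hgen 2 2 a (((q⁻¹ : GL (Fin 2) F) : M2) * aᵀ * (q : M2))ᵀ fun X => ?_
        rw [h3, hact, hact, h3]
        congr 1
        funext r
        simp only [opZero_apply, opRight_apply, hp, add_mul, Matrix.smul_mul, Matrix.transpose_transpose]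
        simp [mul_assoc]
    · refine ⟨Equiv.swap 1 2, fun i a => ?_⟩
      fin_cases i
      · exact m0 a
      · refine hgen 1 2 a (((q⁻¹ : GL (Fin 2) F) : M2) * aᵀ * (q : M2))ᵀ fun X => ?_
        rw [h1, hact, hact, h3]
        congr 1
        funext r
        simp only [opZero_apply, opLeft_apply, opRight_apply, hp, add_mul, Matrix.smul_mul,
          Matrix.transpose_transpose, Matrix.transpose_mul]
        simp [mul_assoc]
      · refine hgen 2 1 a ((p : M2) * a * ((p⁻¹ : GL (Fin 2) F) : M2)) fun X => ?_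
        rw [h3, hact, hact, h1]
        congr 1
        funext r
        simp only [opZero_apply, opLeft_apply, opRight_apply, hp, mul_add, Matrix.mul_smul,
          Matrix.transpose_transpose, Matrix.transpose_mul]
        simp [mul_assoc]
  · obtain ⟨X, rfl⟩ := E.surjective u
    obtain ⟨Y, rfl⟩ := E.surjective v
    rw [← MaxSub.stdAlt_apply, ← MaxSub.stdAlt_apply]
    fin_cases i
    · show BB (φ 0 a *ᵥ E X) (E Y) = BB (E X) (φ 0 a.adjugate *ᵥ E Y)
      rw [h0, h0, hform, hform]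
      simp only [opZero_apply, Matrix.adjugate_fin_two, pol, Matrix.add_apply, Matrix.smul_apply, smul_eq_mul,
        Matrix.of_apply, Matrix.cons_val', Matrix.cons_val_zero, Matrix.cons_val_one, Matrix.empty_val',
        Matrix.cons_val_fin_one]
      ring
    · show BB (φ 1 a *ᵥ E X) (E Y) = BB (E X) (φ 1 a.adjugate *ᵥ E Y)
      rw [h1, h1, hform, hform]
      simp only [opLeft_apply, Matrix.adjugate_fin_two, pol, Matrix.mul_apply, Fin.sum_univ_two,
        Matrix.of_apply, Matrix.cons_val', Matrix.cons_val_zero, Matrix.cons_val_one, Matrix.empty_val',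
        Matrix.cons_val_fin_one]
      ring
    · show BB (φ 2 a *ᵥ E X) (E Y) = BB (E X) (φ 2 a.adjugate *ᵥ E Y)
      rw [h3, h3, hform, hform]
      simp only [opRight_apply, Matrix.adjugate_fin_two, pol, Matrix.mul_apply, Matrix.transpose_apply,
        Fin.sum_univ_two, Matrix.of_apply, Matrix.cons_val', Matrix.cons_val_zero, Matrix.cons_val_one,
        Matrix.empty_val', Matrix.cons_val_fin_one]
      ring

end Frame

/-- A homogeneous normal subgroup with scalar endomorphisms gives a frame. -/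
theorem exists_frame [Fintype F] {H N : Subgroup GG} (hHsp : H ≤ SP)
    (hNle : N ≤ H) (hNG : ∀ h ∈ H, ∀ x ∈ N, h * x * h⁻¹ ∈ N) {d k : ℕ} (hdk : d * k = 8) (hd : 1 < d) (hk : 1 < k)
    (A : N → Matrix (Fin d) (Fin d) F)
    (hirr : ∀ U : Submodule F (Fin d → F), (∀ n, ∀ u ∈ U, A n *ᵥ u ∈ U) → U = ⊥ ∨ U = ⊤)
    (hscal : ∀ M : Matrix (Fin d) (Fin d) F, (∀ n, M * A n = A n * M) → ∃ c : F, M = c • 1)
    (φ : Fin k → (Fin d → F) →ₗ[F] VV)
    (hequiv : ∀ j (n : N) x, ((n : GG) : MM) *ᵥ φ j x = φ j (A n *ᵥ x))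
    (hbij : Function.Bijective (assemble φ)) : Nonempty (Frame H) := by
  classical
  set B := (MaxSub.stdAlt 4 F).B with hB
  have hφinj : ∀ j, Function.Injective (φ j) := fun j x y hxy => by
    have h := hbij.1 (a₁ := Pi.single j x) (a₂ := Pi.single j y) (by
      have e : ∀ v, assemble φ (Pi.single j v) = φ j v := fun v => by
        show ∑ l, φ l (Pi.single (M := fun _ => Fin d → F) j v l) = φ j v
        rw [Finset.sum_eq_single j (fun l _ hl => by rw [Pi.single_eq_of_ne hl, map_zero])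
          (fun hn => absurd (Finset.mem_univ _) hn), Pi.single_eq_same]
      rw [e, e, hxy])
    simpa using congrFun h j
  have hAu : ∀ n : N, IsUnit (A n) := fun n => by
    rw [← Matrix.mulVec_injective_iff_isUnit]
    intro x y hxy
    apply hφinj ⟨0, by omega⟩
    apply Matrix.mulVec_injective_iff_isUnit.2 (n : GG).isUnit
    show ((n : GG) : MM) *ᵥ _ = ((n : GG) : MM) *ᵥ _
    rw [hequiv, hequiv]
    exact congrArg _ hxy
  set M : Fin k → Fin k → Matrix (Fin d) (Fin d) F := fun i j =>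
    LinearMap.BilinForm.toMatrix' (B.compl₁₂ (φ i) (φ j)) with hMdef
  have hM : ∀ i j x y, B (φ i x) (φ j y) = x ⬝ᵥ M i j *ᵥ y := fun i j x y => by
    rw [← Matrix.toBilin'_apply', hMdef, Matrix.toBilin'_toMatrix']
    rfl
  have hinv : ∀ i j n, (A n)ᵀ * M i j * A n = M i j := fun i j n => ext_dot fun x y => by
    rw [← hM, ← Matrix.mulVec_mulVec, ← Matrix.mulVec_mulVec, Matrix.dotProduct_mulVec, Matrix.vecMul_transpose,
      ← hM, ← hequiv, ← hequiv]
    exact MaxSub.mem_spGL_iff.1 (hHsp (hNle n.2)) _ _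
  have hflat : ∀ v w : Fin k → Fin d → F, B (assemble φ v) (assemble φ w) = ∑ i, ∑ j, v i ⬝ᵥ M i j *ᵥ w j := by
    intro v w
    show B (∑ i, φ i (v i)) (∑ j, φ j (w j)) = _
    rw [LinearMap.map_sum₂]
    refine Finset.sum_congr rfl fun i _ => ?_
    rw [map_sum]
    exact Finset.sum_congr rfl fun j _ => hM i j _ _
  obtain ⟨i₀, j₀, hne⟩ : ∃ i j, M i j ≠ 0 := by
    by_contra hcon
    push Not at hcon
    obtain ⟨x, hx⟩ := sympPartner (F := F) (m := 4) (v := Pi.single (Sum.inl (0 : Fin 4)) 1) (fun h => by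
      simpa using congrFun h (Sum.inl (0 : Fin 4)))
    obtain ⟨v, hv⟩ := hbij.2 x
    obtain ⟨w, hw⟩ := hbij.2 (Pi.single (Sum.inl (0 : Fin 4)) (1 : F))
    apply hx
    rw [← MaxSub.stdAlt_apply, ← hv, ← hw, ← hB, hflat]
    simp [hcon]
  set g := M i₀ j₀ with hg
  have hgu : IsUnit g := by
    rw [← Matrix.mulVec_injective_iff_isUnit]
    have hker : LinearMap.ker (Matrix.toLin' g) = ⊥ := by
      refine (hirr _ fun n u hu => ?_).resolve_right fun htop => hne ?_
      · rw [LinearMap.mem_ker, Matrix.toLin'_apply] at hu ⊢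
        refine Matrix.mulVec_injective_iff_isUnit.2 ((Matrix.isUnit_transpose _).2 (hAu n)) ?_
        rw [Matrix.mulVec_zero, Matrix.mulVec_mulVec, Matrix.mulVec_mulVec, hinv, hu]
      · refine Matrix.toLin'.injective ?_
        rw [map_zero]
        exact LinearMap.ker_eq_top.1 htop
    intro u w huw
    exact LinearMap.ker_eq_bot.1 hker (by rwa [Matrix.toLin'_apply, Matrix.toLin'_apply])
  obtain ⟨U, hU⟩ := hgu
  have hmult : ∀ X : Matrix (Fin d) (Fin d) F, (∀ n, (A n)ᵀ * X * A n = X) → ∃ c : F, X = c • g := by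
    intro X hX
    obtain ⟨c, hc⟩ := hscal ((↑U⁻¹ : Matrix (Fin d) (Fin d) F) * X) fun n => by
      set Mx := (↑U⁻¹ : Matrix (Fin d) (Fin d) F) * X with hMx
      have hgM : g * Mx = X := by rw [hMx, ← mul_assoc, ← hU, Units.mul_inv, one_mul]
      refine (hU ▸ U.isUnit).mul_left_cancel (((Matrix.isUnit_transpose _).2 (hAu n)).mul_left_cancel ?_)
      calc (A n)ᵀ * (g * (Mx * A n)) = (A n)ᵀ * (g * Mx) * A n := by simp only [mul_assoc]
        _ = X := by rw [hgM, hX n]
        _ = (A n)ᵀ * g * A n * Mx := by rw [hinv i₀ j₀ n, hgM]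
        _ = (A n)ᵀ * (g * (A n * Mx)) := by simp only [mul_assoc]
    refine ⟨c, ?_⟩
    have h := congrArg (fun Y => (U : Matrix (Fin d) (Fin d) F) * Y) hc
    simp only [← mul_assoc, Units.mul_inv, one_mul, Matrix.mul_smul, mul_one] at h
    rw [h, hU]
  choose β hβ using fun i j => hmult _ (hinv i j)
  set Bm : Matrix (Fin k) (Fin k) F := Matrix.of β with hBm
  have hval : ∀ v w : Fin k → Fin d → F,
      B (assemble φ v) (assemble φ w) = ∑ i, ∑ j, Bm i j * (v i ⬝ᵥ g *ᵥ w j) := fun v w => by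
    rw [hflat]
    refine Finset.sum_congr rfl fun i _ => Finset.sum_congr rfl fun j _ => ?_
    rw [hβ, Matrix.smul_mulVec, dotProduct_smul, smul_eq_mul]; rfl
  have hBu : IsUnit Bm := by
    rw [← Matrix.mulVec_injective_iff_isUnit]
    intro v w hvw
    by_contra hne'
    set z := v - w
    have hz : z ≠ 0 := sub_ne_zero.2 hne'
    have hzB : Bm *ᵥ z = 0 := by rw [Matrix.mulVec_sub]; exact sub_eq_zero.2 hvw
    obtain ⟨i, hi⟩ := Function.ne_iff.1 hz
    let x : Fin d → F := Pi.single ⟨0, by omega⟩ 1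
    have hx : assemble φ (fun j => z j • x) ≠ 0 := fun h => hi (by
      have h' := congrFun (congrFun ((injective_iff_map_eq_zero (assemble φ)).1 hbij.1 _ h) i) ⟨0, by omega⟩
      simpa [x] using h')
    obtain ⟨y, hy⟩ := sympPartner hx
    obtain ⟨u, rfl⟩ := hbij.2 y
    apply hy
    rw [← MaxSub.stdAlt_apply, ← hB, hval]
    refine Finset.sum_eq_zero fun i' _ => ?_
    have : ∀ j, Bm i' j * (u i' ⬝ᵥ g *ᵥ (z j • x)) = Bm i' j * z j * (u i' ⬝ᵥ g *ᵥ x) := fun j => by
      rw [Matrix.mulVec_smul, dotProduct_smul, smul_eq_mul]; ring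
    rw [Finset.sum_congr rfl fun j _ => this j, ← Finset.sum_mul]
    show (Bm *ᵥ z) i' * _ = 0
    rw [hzB, Pi.zero_apply, zero_mul]
  obtain ⟨ε, hε⟩ := hmult gᵀ fun n => by
    rw [← Matrix.transpose_transpose (A n), ← Matrix.transpose_mul, ← Matrix.transpose_mul, Matrix.transpose_transpose,
      ← mul_assoc, hinv]
  haveI : Nonempty (Fin d) := ⟨⟨0, by omega⟩⟩
  obtain ⟨a, b, hab⟩ : ∃ a b, g a b ≠ 0 := PrimeDim.FormDescent.exists_ne_entry (by rw [← hU]; exact U.isUnit)
  have hεε : ε * ε = 1 := by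
    have h1 := congrFun (congrFun hε b) a
    have h2 := congrFun (congrFun hε a) b
    simp only [Matrix.transpose_apply, Matrix.smul_apply, smul_eq_mul] at h1 h2
    exact mul_right_cancel₀ hab (by linear_combination -h1 - ε * h2)
  have hswap : ∀ x y : Fin d → F, y ⬝ᵥ g *ᵥ x = ε * (x ⬝ᵥ g *ᵥ y) := fun x y => by
    rw [Matrix.dotProduct_mulVec, dotProduct_comm, ← Matrix.mulVec_transpose, hε, Matrix.smul_mulVec, dotProduct_smul,
      smul_eq_mul]
  have hskew : ∀ i j, Bm j i * ε = - Bm i j := fun i j => by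
    have h := (MaxSub.stdAlt 4 F).skew (φ i (Pi.single a 1)) (φ j (Pi.single b 1))
    rw [← hB, hM, hM, hβ, hβ, Matrix.smul_mulVec, Matrix.smul_mulVec, dotProduct_smul, dotProduct_smul,
      hswap (Pi.single a 1) (Pi.single b 1)] at h
    simp only [Matrix.mulVec_single_one, single_dotProduct, one_mul, smul_eq_mul] at h
    change β i j * g a b = _ at h
    show β j i * ε = - β i j
    exact mul_right_cancel₀ hab (by simp only [Matrix.col_apply] at h ⊢; linear_combination h)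
  have hdiag : ∀ i x, Bm i i * (x ⬝ᵥ g *ᵥ x) = 0 := fun i x => by
    have h := (MaxSub.stdAlt 4 F).alt (φ i x)
    rw [← hB, hM, hβ, Matrix.smul_mulVec, dotProduct_smul, smul_eq_mul] at h
    exact h
  have hkron : ∀ h ∈ H, ∃ (C : GL (Fin d) F) (D : GL (Fin k) F), ∀ v : Fin k → Fin d → F,
      (h : MM) *ᵥ assemble φ v =
        assemble φ fun a => ∑ b, (D : Matrix (Fin k) (Fin k) F) a b • ((C : Matrix (Fin d) (Fin d) F) *ᵥ v b) :=
    fun h hh => exists_kronecker (by omega) (by omega) A hirr hscal φ hequiv hbij h fun x hx => hNG h hh x hx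
  have hBsk : Bmᵀ = -(ε • Bm) := by
    ext i j
    simp only [Matrix.transpose_apply, Matrix.neg_apply, Matrix.smul_apply, smul_eq_mul]
    linear_combination ε * hskew i j - Bm j i * hεε
  have hcases : (d = 2 ∧ k = 4) ∨ (d = 4 ∧ k = 2) := by
    have h4 : d ≤ 4 := by
      by_contra hcon
      have : 5 * 2 ≤ d * k := Nat.mul_le_mul (by omega) (by omega)
      omega
    interval_cases d <;> omega
  rcases hcases with ⟨rfl, rfl⟩ | ⟨rfl, rfl⟩
  · let sw : ((Fin 2 × Fin 4) → F) ≃ₗ[F] (Fin 4 → Fin 2 → F) :=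
      { toFun := fun x j i => x (i, j)
        invFun := fun v p => v p.2 p.1
        map_add' := fun _ _ => rfl
        map_smul' := fun _ _ => rfl
        left_inv := fun _ => rfl
        right_inv := fun _ => rfl }
    refine ⟨⟨sw.trans (LinearEquiv.ofBijective _ hbij), g, Bm, hU ▸ U.isUnit, hBu, ε, hεε, hε, hBsk,
      fun x y => ?_, fun h hh => ?_⟩⟩
    · show B (assemble φ fun j i => x (i, j)) (assemble φ fun j i => y (i, j)) = _
      rw [hval]
      simp only [dotProduct, Matrix.mulVec, Fin.sum_univ_two, Fin.sum_univ_four]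
      ring
    · obtain ⟨C, D, hCD⟩ := hkron h hh
      refine ⟨C, D, fun x => ?_⟩
      show (h : MM) *ᵥ assemble φ (fun j i => x (i, j)) = _
      rw [hCD]
      show _ = assemble φ _
      congr 1
      funext j i
      show _ = (((C : Matrix (Fin 2) (Fin 2) F) ⊗ₖ (D : Matrix (Fin 4) (Fin 4) F)) *ᵥ x) (i, j)
      simp only [Finset.sum_apply, Pi.smul_apply, smul_eq_mul, Matrix.mulVec, dotProduct, Finset.mul_sum]
      rw [Fintype.sum_prod_type, Finset.sum_comm]
      exact Finset.sum_congr rfl fun s _ => Finset.sum_congr rfl fun l _ => by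
        rw [Matrix.kroneckerMap_apply]; ring
  · let sw : ((Fin 2 × Fin 4) → F) ≃ₗ[F] (Fin 2 → Fin 4 → F) :=
      { toFun := fun x r j => x (r, j)
        invFun := fun v p => v p.1 p.2
        map_add' := fun _ _ => rfl
        map_smul' := fun _ _ => rfl
        left_inv := fun _ => rfl
        right_inv := fun _ => rfl }
    refine ⟨⟨sw.trans (LinearEquiv.ofBijective _ hbij), Bm, g, hBu, hU ▸ U.isUnit, -ε,
      by linear_combination hεε, by rw [hBsk, neg_smul], by rw [hε, neg_smul, neg_neg],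
      fun x y => ?_, fun h hh => ?_⟩⟩
    · show B (assemble φ fun r j => x (r, j)) (assemble φ fun r j => y (r, j)) = _
      rw [hval]
    · obtain ⟨C, D, hCD⟩ := hkron h hh
      refine ⟨D, C, fun x => ?_⟩
      show (h : MM) *ᵥ assemble φ (fun r j => x (r, j)) = _
      rw [hCD]
      show _ = assemble φ _
      congr 1
      funext r j
      show _ = (((D : Matrix (Fin 2) (Fin 2) F) ⊗ₖ (C : Matrix (Fin 4) (Fin 4) F)) *ᵥ x) (r, j)
      simp only [Finset.sum_apply, Pi.smul_apply, smul_eq_mul, Matrix.mulVec, dotProduct, Finset.mul_sum]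
      rw [Fintype.sum_prod_type]
      exact Finset.sum_congr rfl fun s _ => Finset.sum_congr rfl fun l _ => by
        rw [Matrix.kroneckerMap_apply]; ring

/-- The tensor step in dimension eight. -/
theorem tensor_cases [Fintype F] {H N : Subgroup GG} (hH : IsMaximalIn SP H)
    (hirrH : ActsIrreducibly (matrixSet H)) (hNle : N ≤ H) (hNG : ∀ h ∈ H, ∀ x ∈ N, h * x * h⁻¹ ∈ N)
    {d k : ℕ} (hdk : d * k = 8) (hd : 1 < d) (hk : 1 < k)
    (A : N → Matrix (Fin d) (Fin d) F)
    (hirr : ∀ U : Submodule F (Fin d → F), (∀ n, ∀ u ∈ U, A n *ᵥ u ∈ U) → U = ⊥ ∨ U = ⊤)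
    (hscal : ∀ M : Matrix (Fin d) (Fin d) F, (∀ n, M * A n = A n * M) → ∃ c : F, M = c • 1)
    (φ : Fin k → (Fin d → F) →ₗ[F] VV)
    (hequiv : ∀ j (n : N) x, ((n : GG) : MM) *ᵥ φ j x = φ j (A n *ᵥ x))
    (hbij : Function.Bijective (assemble φ)) : Cases H ∨ Nonempty (CubeData H) := by
  obtain ⟨T⟩ := exists_frame hH.1.le hNle hNG hdk hd hk A hirr hscal φ hequiv hbij
  by_cases h2 : (2 : F) = 0
  · exact Or.inl (T.case_two hirrH hH h2)
  rcases mul_eq_zero.1 (show (T.ε - 1) * (T.ε + 1) = 0 by linear_combination T.hε) with h | h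
  · exact Or.inl (T.case_sym hH h2 (sub_eq_zero.1 h))
  · by_cases hplus : IsPlusTypeOn (fun v : Fin 4 → F => v ⬝ᵥ T.G *ᵥ v) ⊤
    · exact Or.inr (T.case_cube hH.1.le h2 (eq_neg_of_add_eq_zero_left h) hplus)
    · exact Or.inl (T.case_minus hH h2 (eq_neg_of_add_eq_zero_left h) hplus)

end Cfsg.Agent.Lib.SympEight
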