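import Cfsg.Agent.Lib.SympEight.Main
import Cfsg.Agent.Lib.SympEight.Tensor

/-!
The tensor step in the shape used by the assembly.
-/

set_option autoImplicit false

namespace Cfsg.Agent.Lib.SympEight

open Cfsg.Geo

variable {F : Type*} [Field F] [Fintype F]

/-- The tensor step for every maximal subgroup. -/
theorem tensorStep {H : Subgroup (Matrix.GeneralLinearGroup (Fin 4 ⊕ Fin 4) F)}
    (hH : IsMaximalIn (Cfsg.spGL 4 F) H) : TensorStep H := by
  intro N hN hNG d k A φ hirr hscal hequiv hbij hdk hd hk
  by_cases hirrH : ActsIrreducibly (matrixSet H)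
  · exact tensor_cases hH hirrH hN hNG hdk hd hk A hirr hscal φ hequiv hbij
  · left
    rw [Cfsg.Agent.Lib.TwoPrimeDim.actsIrreducibly_iff] at hirrH
    push Not at hirrH
    obtain ⟨W, hW, h0, h1⟩ := hirrH
    exact reducible_cases hH h0 h1 hW

end Cfsg.Agent.Lib.SympEight
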