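import Cfsg.Agent.Lib.SympEight.TypeBase
import Cfsg.Agent.Lib.SympTwoPrime.Proper
import Cfsg.Agent.Lib.PrimeDim.FormDescent

/-!
The normaliser of a group of symplectic type in dimension eight, or a subfield group.
-/

set_option autoImplicit false
set_option linter.unusedSectionVars false

namespace Cfsg.Agent.Lib.SympEight

open Matrix Module Cfsg.Geo
open scoped MatrixGroups Matrix

variable {F : Type*} [Field F] [Fintype F]

local notation "II" => (Fin 4 ⊕ Fin 4)
local notation "MM" => Matrix (Fin 4 ⊕ Fin 4) (Fin 4 ⊕ Fin 4) F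
local notation "VV" => (Fin 4 ⊕ Fin 4 → F)
local notation "GG" => Matrix.GeneralLinearGroup (Fin 4 ⊕ Fin 4) F
local notation "SP" => Cfsg.spGL 4 F
local notation "ZZ" => Cfsg.Geo.scalars (Fin 4 ⊕ Fin 4) F
local notation "BB" => (Cfsg.Agent.Lib.MaxSub.stdAlt 4 F)

variable {R : Subgroup (Matrix.GeneralLinearGroup (Fin 4 ⊕ Fin 4) F)}

theorem Ext.span_top (hR : Ext R) : Submodule.span F (matrixSet R) = ⊤ := by
  have h := Cfsg.Agent.Lib.TwoPrimeDim.top_of_absIrred hR.absIrred
  have hc : (Submonoid.closure (matrixSet R) : Set MM) ⊆ matrixSet R := by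
    intro y hy
    induction hy using Submonoid.closure_induction with
    | mem y hy => exact hy
    | one => exact ⟨1, R.one_mem, rfl⟩
    | mul a b _ _ ha hb =>
      obtain ⟨x, hx, rfl⟩ := ha
      obtain ⟨z, hz, rfl⟩ := hb
      exact ⟨x * z, R.mul_mem hx hz, rfl⟩
  rw [eq_top_iff, ← Algebra.top_toSubmodule, ← h]
  show Subalgebra.toSubmodule (Algebra.adjoin F (matrixSet R)) ≤ _
  rw [Algebra.adjoin_eq_span]
  exact Submodule.span_mono hc

theorem Ext.exists_next (hR : Ext R) {s : List (GG × GG)} (hs : Pairs R s) (hlen : s.length ≤ 2) :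
    ∃ x y, Pairs R ((x, y) :: s) := by
  by_cases hC : ∃ a ∈ R, (∀ p ∈ s, Commute (a : MM) (p.1 : MM) ∧ Commute (a : MM) (p.2 : MM)) ∧
      ∀ c : F, (a : MM) ≠ c • (1 : MM)
  · obtain ⟨a, ha, hac, hans⟩ := hC
    obtain ⟨b, hb, hab⟩ := hR.exists_anti ha hans
    obtain ⟨b', hb', w, hw, c, hbw, hb'c⟩ := adjust hR hs b hb
    refine ⟨a, b', .cons ha hb' ?_ (fun p hp => ⟨(hac p hp).1, (hac p hp).2, (hb'c p hp).1, (hb'c p hp).2⟩) hs⟩
    have haw := mons_comm hac w hw
    have hc0 : c ≠ 0 := fun h => unit_ne_zero b (by rw [hbw, h, zero_smul])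
    rw [hbw, Matrix.smul_mul, Matrix.mul_smul, ← smul_neg] at hab
    have h1 := smul_right_injective MM hc0 hab
    rw [mul_assoc, ← haw.eq, ← mul_assoc, ← mul_assoc, ← neg_mul] at h1
    exact (Units.mul_left_inj w).mp h1
  · exfalso
    push Not at hC
    have hle : Submodule.span F (matrixSet R) ≤
        Submodule.span F (Set.range fun i : Fin (mons s).length => ((mons s).get i : MM)) := by
      rw [Submodule.span_le]
      rintro _ ⟨g, hg, rfl⟩
      obtain ⟨g', hg', w, hw, c, hgw, hg'c⟩ := adjust hR hs g hg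
      obtain ⟨d, hd⟩ := hC g' hg' hg'c
      obtain ⟨i, hi⟩ := List.get_of_mem hw
      show (g : MM) ∈ _
      rw [hgw, hd, Matrix.smul_mul, Matrix.one_mul]
      exact Submodule.smul_mem _ _ (Submodule.smul_mem _ _ (Submodule.subset_span ⟨i, congrArg Units.val hi⟩))
    rw [hR.span_top] at hle
    have h1 := Submodule.finrank_mono hle
    rw [finrank_top, Module.finrank_matrix, Module.finrank_self, mul_one] at h1
    have h2 := finrank_range_le_card (R := F) fun i : Fin (mons s).length => ((mons s).get i : MM)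
    rw [Set.finrank, Fintype.card_fin] at h2
    have h4 := length_mons s
    have h3 : 4 ^ s.length ≤ 4 ^ 2 := Nat.pow_le_pow_right (by norm_num) hlen
    simp only [Fintype.card_sum, Fintype.card_fin] at h1
    omega

theorem Ext.exists_three (hR : Ext R) :
    ∃ x₁ y₁ x₂ y₂ x₃ y₃, Pairs R [(x₁, y₁), (x₂, y₂), (x₃, y₃)] := by
  obtain ⟨x₃, y₃, h3⟩ := hR.exists_next .nil (by simp)
  obtain ⟨x₂, y₂, h2⟩ := hR.exists_next h3 (by simp)
  obtain ⟨x₁, y₁, h1⟩ := hR.exists_next h2 (by simp)
  exact ⟨x₁, y₁, x₂, y₂, x₃, y₃, h1⟩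

/-- The prime field. -/
abbrev F0 (F : Type*) [Field F] : Subfield F := ⊥

/-- The algebra spanned by `R` over the prime field. -/
abbrev rat (R : Subgroup GG) : Subalgebra (F0 F) MM := Algebra.adjoin (F0 F) (matrixSet R)

theorem exists_sq_sum : ∃ α β : F0 F, (α : F) * α + (β : F) * β = -1 := by
  obtain ⟨p, hp⟩ := CharP.exists F
  haveI := hp
  haveI := Fact.mk (CharP.char_is_prime F p)
  obtain ⟨a, b, hab⟩ := ZMod.sq_add_sq p (-1)
  have hmem : ∀ z : ZMod p, (ZMod.castHom dvd_rfl F) z ∈ F0 F := fun z => by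
    obtain ⟨k, rfl⟩ := ZMod.natCast_zmod_surjective z
    rw [map_natCast]
    exact natCast_mem _ k
  refine ⟨⟨_, hmem a⟩, ⟨_, hmem b⟩, ?_⟩
  simp only [← pow_two]
  rw [← map_pow, ← map_pow, ← map_add, hab, map_neg, map_one]

/-- The involution attached to a pair. -/
theorem Ext.exists_invol (hR : Ext R) {x y : GG} (hx : x ∈ R) (hy : y ∈ R)
    (hanti : (y : MM) * x = -((x : MM) * y)) :
    ∃ (u : MM) (w : GG), u ∈ rat R ∧ w ∈ R ∧ Invol u w ∧
      (∀ X : MM, Commute X (x : MM) → Commute X (y : MM) → Commute X u ∧ Commute X (w : MM)) := by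
  have hanti' : (x : MM) * y = -((y : MM) * x) := by rw [hanti, neg_neg]
  rcases hR.sq_mat hx with h1 | h1
  · exact ⟨x, y, Algebra.subset_adjoin (show (x : MM) ∈ matrixSet R from ⟨x, hx, rfl⟩), hy, ⟨h1, hanti⟩, fun X a b => ⟨a, b⟩⟩
  rcases hR.sq_mat hy with h2 | h2
  · exact ⟨y, x, Algebra.subset_adjoin (show (y : MM) ∈ matrixSet R from ⟨y, hy, rfl⟩), hx, ⟨h2, hanti'⟩, fun X a b => ⟨b, a⟩⟩
  obtain ⟨α, β, hab⟩ := exists_sq_sum (F := F)
  refine ⟨(α : F) • (x : MM) + (β : F) • (y : MM), x * y, ?_, R.mul_mem hx hy, ⟨?_, ?_⟩, fun X a b => ⟨?_, ?_⟩⟩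
  · exact Subalgebra.add_mem _ (Subalgebra.smul_mem _ (Algebra.subset_adjoin (show (x : MM) ∈ matrixSet R from ⟨x, hx, rfl⟩)) α)
      (Subalgebra.smul_mem _ (Algebra.subset_adjoin (show (y : MM) ∈ matrixSet R from ⟨y, hy, rfl⟩)) β)
  · simp only [mul_add, add_mul, Matrix.smul_mul, Matrix.mul_smul, smul_smul, h1, h2, hanti]
    rw [show (α : F) * α = -1 - (β : F) * β by linear_combination hab]
    module
  · rw [Units.val_mul]
    have e1 : (x : MM) * y * x = -((x : MM) * (x * y)) := by rw [mul_assoc, hanti, mul_neg]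
    have e2 : (y : MM) * ((x : MM) * y) = -((x : MM) * y * y) := by rw [← mul_assoc, hanti, neg_mul]
    simp only [mul_add, add_mul, Matrix.smul_mul, Matrix.mul_smul, e1, e2]
    module
  · exact (a.smul_right _).add_right (b.smul_right _)
  · rw [Units.val_mul]; exact a.mul_right b

theorem Ext.exists_frame (hR : Ext R) :
    ∃ (u : Fin 3 → MM) (w : Fin 3 → GG), Three u w ∧ (∀ i, u i ∈ rat R) ∧ (∀ i, w i ∈ R) := by
  obtain ⟨x₁, y₁, x₂, y₂, x₃, y₃, h⟩ := hR.exists_three
  cases h with
  | cons hx1 hy1 ha1 hc1 h => cases h with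
    | cons hx2 hy2 ha2 hc2 h => cases h with
      | cons hx3 hy3 ha3 hc3 h =>
        obtain ⟨u₁, w₁, hu1, hw1, hi1, hcm1⟩ := hR.exists_invol hx1 hy1 ha1
        obtain ⟨u₂, w₂, hu2, hw2, hi2, hcm2⟩ := hR.exists_invol hx2 hy2 ha2
        obtain ⟨u₃, w₃, hu3, hw3, hi3, hcm3⟩ := hR.exists_invol hx3 hy3 ha3
        obtain ⟨a1, a2, a3, a4⟩ := hc1 (x₂, y₂) (by simp)
        obtain ⟨b1, b2, b3, b4⟩ := hc1 (x₃, y₃) (by simp)
        obtain ⟨c1, c2, c3, c4⟩ := hc2 (x₃, y₃) (by simp)
        have p12 := hcm2 _ a1 a2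
        have q12 := hcm2 _ a3 a4
        have p13 := hcm3 _ b1 b2
        have q13 := hcm3 _ b3 b4
        have p23 := hcm3 _ c1 c2
        have q23 := hcm3 _ c3 c4
        have u12 := hcm1 u₂ p12.1.symm q12.1.symm
        have w12 := hcm1 (w₂ : MM) p12.2.symm q12.2.symm
        have u13 := hcm1 u₃ p13.1.symm q13.1.symm
        have w13 := hcm1 (w₃ : MM) p13.2.symm q13.2.symm
        have u23 := hcm2 u₃ p23.1.symm q23.1.symm
        have w23 := hcm2 (w₃ : MM) p23.2.symm q23.2.symm
        refine ⟨![u₁, u₂, u₃], ![w₁, w₂, w₃], ⟨?_, ?_, ?_⟩, ?_, ?_⟩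
        · intro i; fin_cases i <;> assumption
        · intro i j
          fin_cases i <;> fin_cases j <;> simp
          · exact u12.1.symm
          · exact u13.1.symm
          · exact u12.1
          · exact u23.1.symm
          · exact u13.1
          · exact u23.1
        · intro i j hij
          fin_cases i <;> fin_cases j <;> simp at hij ⊢
          · exact u12.2.symm
          · exact u13.2.symm
          · exact w12.1
          · exact u23.2.symm
          · exact w13.1
          · exact w23.1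
        · intro i; fin_cases i <;> assumption
        · intro i; fin_cases i <;> assumption

theorem Ext.trace_mem (hR : Ext R) {A : MM} (hA : A ∈ rat R) : Matrix.trace A ∈ F0 F := by
  induction hA using Algebra.adjoin_induction with
  | mem x hx => exact trace_mem_of hR hx
  | algebraMap c => rw [Algebra.algebraMap_eq_smul_one, Matrix.trace_smul, Matrix.trace_one]
                    exact (F0 F).mul_mem c.2 (natCast_mem _ _)
  | add a b _ _ ha hb => rw [Matrix.trace_add]; exact add_mem ha hb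
  | mul a b ha hb _ _ =>
    have hab : a * b ∈ rat R := Subalgebra.mul_mem _ ha hb
    rw [← Subalgebra.mem_toSubmodule, Algebra.adjoin_eq_span] at hab
    generalize a * b = c at hab ⊢
    induction hab using Submodule.span_induction with
    | mem y hy =>
      refine trace_mem_of hR ?_
      induction hy using Submonoid.closure_induction with
      | mem y hy => exact hy
      | one => exact ⟨1, R.one_mem, rfl⟩
      | mul a b _ _ ha hb =>
        obtain ⟨x, hx, rfl⟩ := ha
        obtain ⟨z, hz, rfl⟩ := hb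
        exact ⟨x * z, R.mul_mem hx hz, rfl⟩
    | zero => rw [Matrix.trace_zero]; exact zero_mem _
    | add a b _ _ ha hb => rw [Matrix.trace_add]; exact add_mem ha hb
    | smul c a _ ha => rw [Matrix.trace_smul]; exact (F0 F).mul_mem c.2 ha
where
  trace_mem_of (hR : Ext R) {A : MM} (hA : A ∈ matrixSet R) : Matrix.trace A ∈ F0 F := by
    obtain ⟨g, hg, rfl⟩ := hA
    by_cases hs : ∃ c : F, (g : MM) = c • (1 : MM)
    · obtain ⟨c, hc⟩ := hs
      show Matrix.trace (g : MM) ∈ _
      rcases scalar_sq (hR.le hg) hc with h | h <;> rw [hc, h, Matrix.trace_smul, Matrix.trace_one]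
      · rw [one_smul]; exact natCast_mem _ _
      · rw [neg_one_smul]; exact neg_mem (natCast_mem _ _)
    · push Not at hs
      obtain ⟨y, hy, hyg⟩ := hR.exists_anti hg hs
      have h1 : Matrix.trace (g : MM) = -Matrix.trace (g : MM) := by
        conv_lhs => rw [← one_mul (g : MM), ← Units.inv_mul y, mul_assoc, Matrix.trace_mul_comm, hyg, neg_mul,
          mul_assoc, Units.mul_inv, mul_one, Matrix.trace_neg]
      show Matrix.trace (g : MM) ∈ _
      have h0 : (2 : F) * Matrix.trace (g : MM) = 0 := by linear_combination h1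
      rw [(mul_eq_zero.mp h0).resolve_left hR.two_ne_zero]
      exact zero_mem _

/-- A group of symplectic type is realisable over the prime field. -/
theorem Ext.realisable (hR : Ext R) : RealisableOver (F0 F) (matrixSet R) := by
  classical
  have h2 := hR.two_ne_zero
  obtain ⟨u, w, h3, hu, hw⟩ := hR.exists_frame
  obtain ⟨hr, ht, hidem, -⟩ := h3.rank_one h2
  set e := proj (u 0) * proj (u 1) * proj (u 2) with he
  have hhalf : ∀ i, proj (u i) ∈ rat R := fun i => by
    have h := Subalgebra.smul_mem (rat R) (Subalgebra.add_mem _ (Subalgebra.one_mem _) (hu i))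
      (⟨(2 : F)⁻¹, inv_mem (natCast_mem (F0 F) 2)⟩ : F0 F)
    exact h
  have heA : e ∈ rat R := Subalgebra.mul_mem _ (Subalgebra.mul_mem _ (hhalf 0) (hhalf 1)) (hhalf 2)
  obtain ⟨⟨v, hv⟩, hv0, hvspan⟩ := finrank_eq_one_iff'.mp hr
  have hv0' : v ≠ 0 := fun h => hv0 (Subtype.ext h)
  have hev : e *ᵥ v = v := (Cfsg.Agent.Lib.TwoPrimeDim.mem_img_idem hidem).mp hv
  have hline : ∀ z, ∃ μ : F, e *ᵥ z = μ • v := fun z => by
    obtain ⟨μ, hμ⟩ := hvspan ⟨e *ᵥ z, z, by rw [Matrix.toLin'_apply]⟩
    exact ⟨μ, (congrArg Subtype.val hμ).symm⟩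
  have hcorner : ∀ X : MM, e *ᵥ (X *ᵥ v) = Matrix.trace (X * e) • v := by
    intro X
    obtain ⟨l, hl⟩ := hline (X *ᵥ v)
    have hX : e * X * e = l • e := Cfsg.Agent.Lib.TwoPrimeDim.eq_of_mulVec fun z => by
      obtain ⟨μ, hμ⟩ := hline z
      rw [← Matrix.mulVec_mulVec, ← Matrix.mulVec_mulVec, hμ, Matrix.mulVec_smul, Matrix.mulVec_smul, hl,
        Matrix.smul_mulVec, hμ, smul_comm]
    have h1 := congrArg Matrix.trace hX
    rw [Matrix.trace_smul, ht, smul_eq_mul, mul_one, mul_assoc, Matrix.trace_mul_comm, mul_assoc, hidem] at h1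
    rw [hl, h1]
  -- a basis made of images of `v`
  have hspan : ⊤ ≤ Submodule.span F {z : VV | ∃ g ∈ R, z = (g : MM) *ᵥ v} := by
    refine ((Cfsg.Agent.Lib.TwoPrimeDim.actsIrreducibly_iff R).mp hR.absIrred.1 _ ?_).resolve_left ?_ |>.ge
    · intro g hg z hz
      induction hz using Submodule.span_induction with
      | mem z hz =>
        obtain ⟨g', hg', rfl⟩ := hz
        exact Submodule.subset_span ⟨g * g', R.mul_mem hg hg', by rw [Units.val_mul, Matrix.mulVec_mulVec]⟩
      | zero => simp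
      | add a b _ _ iha ihb => rw [Matrix.mulVec_add]; exact add_mem iha ihb
      | smul c a _ iha => rw [Matrix.mulVec_smul]; exact Submodule.smul_mem _ _ iha
    · intro h
      refine hv0' ?_
      have hm : v ∈ Submodule.span F {z : VV | ∃ g ∈ R, z = (g : MM) *ᵥ v} :=
        Submodule.subset_span ⟨1, R.one_mem, by simp⟩
      rwa [h, Submodule.mem_bot] at hm
  let b0 := Basis.ofSpan hspan
  haveI : Fintype ↥((linearIndepOn_empty F id).extend
      (Set.empty_subset {z : VV | ∃ g ∈ R, z = (g : MM) *ᵥ v})) :=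
    FiniteDimensional.fintypeBasisIndex b0
  let b := b0.reindex (b0.indexEquiv (Pi.basisFun F II))
  have hb : ∀ j, ∃ g ∈ R, b j = (g : MM) *ᵥ v := fun j => by
    have : b j ∈ Set.range b0 := ⟨(b0.indexEquiv (Pi.basisFun F II)).symm j, by simp [b]⟩
    exact Basis.ofSpan_subset hspan this
  choose r hr' hbr using hb
  let K : Submodule F VV :=
    { carrier := {z | ∀ s ∈ R, e *ᵥ ((s : MM) *ᵥ z) = 0}
      add_mem' := fun {a c} ha hc s hs => by rw [Matrix.mulVec_add, Matrix.mulVec_add, ha s hs, hc s hs, add_zero]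
      zero_mem' := fun s _ => by simp
      smul_mem' := fun c a ha s hs => by rw [Matrix.mulVec_smul, Matrix.mulVec_smul, ha s hs, smul_zero] }
  have hK : K = ⊥ := by
    refine ((Cfsg.Agent.Lib.TwoPrimeDim.actsIrreducibly_iff R).mp hR.absIrred.1 K ?_).resolve_right ?_
    · intro g hg z hz s hs
      rw [Matrix.mulVec_mulVec z (s : MM), ← Units.val_mul]
      exact hz _ (R.mul_mem hs hg)
    · intro h
      have hm : v ∈ K := h ▸ Submodule.mem_top
      exact hv0' (by simpa [hev] using hm 1 R.one_mem)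
  obtain ⟨φ, hφ1, hφr, hφ⟩ := Cfsg.Agent.Lib.PrimeDim.FormDescent.exists_functional (F0 F) (one_ne_zero (α := F))
  let P : MM := Matrix.of fun i j => b j i
  have hP : ∀ c : VV, P *ᵥ c = ∑ j, c j • b j := fun c => by
    funext i
    simp [P, Matrix.mulVec, dotProduct, mul_comm]
  have hPu : IsUnit P := by
    rw [← Matrix.mulVec_injective_iff_isUnit]
    intro a c hac
    rw [hP, hP] at hac
    funext j
    have := congrArg (fun z => b.repr z j) hac
    simp only [b.repr_sum_self] at this
    exact this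
  refine ⟨hPu.unit⁻¹, ?_⟩
  rintro _ ⟨g, hg, rfl⟩ i j
  -- the coordinates of `g • b j` are fixed by the projection to the prime field
  set c : VV := fun k => b.repr ((g : MM) *ᵥ b j) k
  have hPc : P *ᵥ c = (g : MM) *ᵥ b j := by rw [hP]; exact b.sum_repr _
  have heq : P *ᵥ (fun k => φ (c k)) = (g : MM) *ᵥ b j := by
    rw [← sub_eq_zero]
    have hmem : P *ᵥ (fun k => φ (c k)) - (g : MM) *ᵥ b j ∈ K := by
      intro s hs
      have hlin : ∀ d : VV, e *ᵥ ((s : MM) *ᵥ (P *ᵥ d)) =
          (∑ k, d k * Matrix.trace (((s * r k : GG) : MM) * e)) • v := fun d => by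
        simp only [hP, Matrix.mulVec_sum, Matrix.mulVec_smul, Finset.sum_smul, hbr]
        exact Finset.sum_congr rfl fun k _ => by
          rw [Matrix.mulVec_mulVec v (s : MM), ← Units.val_mul, hcorner, smul_smul]
      have hrat : ∀ g' ∈ R, Matrix.trace ((g' : MM) * e) ∈ F0 F := fun g' hg' =>
        hR.trace_mem (Subalgebra.mul_mem _ (Algebra.subset_adjoin ⟨g', hg', rfl⟩) heA)
      have hcv := hlin c
      rw [hPc, hbr, Matrix.mulVec_mulVec v (g : MM), ← Units.val_mul, Matrix.mulVec_mulVec v (s : MM),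
        ← Units.val_mul, hcorner] at hcv
      have hsc := smul_left_injective F hv0' hcv
      rw [Matrix.mulVec_sub, Matrix.mulVec_sub, hlin, hbr, Matrix.mulVec_mulVec v (g : MM), ← Units.val_mul,
        Matrix.mulVec_mulVec v (s : MM), ← Units.val_mul, hcorner, ← sub_smul]
      have hφsum := congrArg φ hsc
      rw [map_sum, Finset.sum_congr rfl fun k _ => hφ _ (c k) (hrat _ (R.mul_mem hs (hr' k)))] at hφsum
      have hfix : φ (Matrix.trace (((s * (g * r j) : GG) : MM) * e)) = Matrix.trace (((s * (g * r j) : GG) : MM) * e) := by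
        have := hφ _ 1 (hrat _ (R.mul_mem hs (R.mul_mem hg (hr' j))))
        rwa [one_mul, hφ1, one_mul] at this
      rw [hfix] at hφsum
      rw [← hφsum, sub_self, zero_smul]
    rwa [hK, Submodule.mem_bot] at hmem
  have hci : φ (c i) = c i := congrFun (Matrix.mulVec_injective_iff_isUnit.mpr hPu (heq.trans hPc.symm)) i
  have hentry : ((hPu.unit⁻¹ : GG) : MM) * (g : MM) * ((hPu.unit⁻¹⁻¹ : GG) : MM) =
      ((hPu.unit⁻¹ : GG) : MM) * ((g : MM) * P) := by rw [inv_inv, mul_assoc]; rfl
  show (((hPu.unit⁻¹ : GG) : MM) * (g : MM) * ((hPu.unit⁻¹⁻¹ : GG) : MM)) i j ∈ F0 F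
  rw [hentry]
  have hcol : (((hPu.unit⁻¹ : GG) : MM) * ((g : MM) * P)) *ᵥ Pi.single j 1 = c := by
    rw [← Matrix.mulVec_mulVec, ← Matrix.mulVec_mulVec, show P *ᵥ Pi.single j 1 = b j by
        funext i; simp [P], ← hPc, Matrix.mulVec_mulVec, IsUnit.val_inv_mul, Matrix.one_mulVec]
  have := congrFun hcol i
  rw [Matrix.mulVec_single_one] at this
  change (((hPu.unit⁻¹ : GG) : MM) * ((g : MM) * P)) i j = c i at this
  rw [this, ← hci]
  exact hφr _

theorem Ext.card_eq (hR : Ext R) : Nat.card R = 128 := by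
  classical
  obtain ⟨x₁, y₁, x₂, y₂, x₃, y₃, hs⟩ := hR.exists_three
  set s := [(x₁, y₁), (x₂, y₂), (x₃, y₃)] with hsdef
  have hlen : (mons s).length = 64 := by rw [length_mons]; rfl
  obtain ⟨u, w, h3, hu, hw⟩ := hR.exists_frame
  -- an element commuting with all three pairs is a scalar
  have hscal : ∀ g ∈ R, (∀ p ∈ s, Commute (g : MM) (p.1 : MM) ∧ Commute (g : MM) (p.2 : MM)) →
      ∃ c : F, (g : MM) = c • (1 : MM) := by
    intro g hg hgc
    by_contra hns
    push Not at hns
    obtain ⟨b, hb, hbg⟩ := hR.exists_anti hg hns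
    obtain ⟨b', hb', m, hm, c, hbm, hb'c⟩ := adjust hR hs b hb
    have hgm := mons_comm hgc m hm
    have hc0 : c ≠ 0 := fun h => unit_ne_zero b (by rw [hbm, h, zero_smul])
    rw [hbm, Matrix.smul_mul, Matrix.mul_smul, ← smul_neg] at hbg
    have h1 := smul_right_injective MM hc0 hbg
    rw [mul_assoc, ← hgm.eq, ← mul_assoc, ← mul_assoc, ← neg_mul] at h1
    have hanti := (Units.mul_left_inj m).mp h1
    have h4 : Pairs R ((g, b') :: s) := .cons hg hb' hanti
      (fun p hp => ⟨(hgc p hp).1, (hgc p hp).2, (hb'c p hp).1, (hb'c p hp).2⟩) hs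
    -- four pairs would cut a line in two
    rw [hsdef] at h4 hgc hb'c
    cases h4 with
    | cons _ _ _ hc0' h => cases h with
      | cons hx1 hy1 ha1 hc1 h => cases h with
        | cons hx2 hy2 ha2 hc2 h => cases h with
          | cons hx3 hy3 ha3 hc3 h =>
            obtain ⟨u₁, w₁, -, -, hi1, hcm1⟩ := hR.exists_invol hx1 hy1 ha1
            obtain ⟨u₂, w₂, -, -, hi2, hcm2⟩ := hR.exists_invol hx2 hy2 ha2
            obtain ⟨u₃, w₃, -, -, hi3, hcm3⟩ := hR.exists_invol hx3 hy3 ha3
            obtain ⟨a1, a2, a3, a4⟩ := hc1 (x₂, y₂) (by simp)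
            obtain ⟨b1, b2, b3, b4⟩ := hc1 (x₃, y₃) (by simp)
            obtain ⟨c1, c2, c3, c4⟩ := hc2 (x₃, y₃) (by simp)
            have p12 := hcm2 _ a1 a2
            have q12 := hcm2 _ a3 a4
            have p13 := hcm3 _ b1 b2
            have q13 := hcm3 _ b3 b4
            have p23 := hcm3 _ c1 c2
            have q23 := hcm3 _ c3 c4
            have u12 := hcm1 u₂ p12.1.symm q12.1.symm
            have w12 := hcm1 (w₂ : MM) p12.2.symm q12.2.symm
            have u13 := hcm1 u₃ p13.1.symm q13.1.symm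
            have w13 := hcm1 (w₃ : MM) p13.2.symm q13.2.symm
            have u23 := hcm2 u₃ p23.1.symm q23.1.symm
            have w23 := hcm2 (w₃ : MM) p23.2.symm q23.2.symm
            have hT : Three ![u₁, u₂, u₃] ![w₁, w₂, w₃] := by
              refine ⟨fun i => by fin_cases i <;> assumption, fun i j => ?_, fun i j hij => ?_⟩
              · fin_cases i <;> fin_cases j <;> simp
                exacts [u12.1.symm, u13.1.symm, u12.1, u23.1.symm, u13.1, u23.1]
              · fin_cases i <;> fin_cases j <;> simp at hij ⊢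
                exacts [u12.2.symm, u13.2.symm, w12.1, u23.2.symm, w13.1, w23.1]
            obtain ⟨hr, -, hidem, -⟩ := hT.rank_one hR.two_ne_zero
            obtain ⟨hg1, hg2⟩ := hgc (x₁, y₁) (by simp)
            obtain ⟨hg3, hg4⟩ := hgc (x₂, y₂) (by simp)
            obtain ⟨hg5, hg6⟩ := hgc (x₃, y₃) (by simp)
            obtain ⟨hk1, hk2⟩ := hb'c (x₁, y₁) (by simp)
            obtain ⟨hk3, hk4⟩ := hb'c (x₂, y₂) (by simp)
            obtain ⟨hk5, hk6⟩ := hb'c (x₃, y₃) (by simp)
            have hge := ((commute_proj (hcm1 _ hg1 hg2).1).mul_right (commute_proj (hcm2 _ hg3 hg4).1)).mul_right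
              (commute_proj (hcm3 _ hg5 hg6).1)
            have hbe := ((commute_proj (hcm1 _ hk1 hk2).1).mul_right (commute_proj (hcm2 _ hk3 hk4).1)).mul_right
              (commute_proj (hcm3 _ hk5 hk6).1)
            simp only [Matrix.cons_val_zero, Matrix.cons_val_one, Matrix.cons_val, Fin.isValue] at hr hidem
            have hr' : finrank F (Cfsg.Agent.Lib.TwoPrimeDim.img (proj u₁ * proj u₂ * proj u₃)) = 1 := hr
            obtain ⟨⟨v, hv⟩, hv0, hvspan⟩ := finrank_eq_one_iff'.mp hr'
            have hact : ∀ X : MM, Commute X (proj u₁ * proj u₂ * proj u₃) → ∃ μ : F, X *ᵥ v = μ • v := by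
              intro X hX
              have hmem : X *ᵥ v ∈ Cfsg.Agent.Lib.TwoPrimeDim.img (proj u₁ * proj u₂ * proj u₃) := by
                have hev : (proj u₁ * proj u₂ * proj u₃) *ᵥ v = v := (Cfsg.Agent.Lib.TwoPrimeDim.mem_img_idem hidem).mp hv
                exact (Cfsg.Agent.Lib.TwoPrimeDim.mem_img_idem hidem).mpr ((Matrix.mulVec_mulVec _ _ _).trans
                  ((congrArg (· *ᵥ v) hX.eq.symm).trans
                    ((Matrix.mulVec_mulVec _ _ _).symm.trans (congrArg (X *ᵥ ·) hev))))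
              obtain ⟨μ, hμ⟩ := hvspan ⟨X *ᵥ v, hmem⟩
              exact ⟨μ, (congrArg Subtype.val hμ).symm⟩
            obtain ⟨μ, hμ⟩ := hact _ hge
            obtain ⟨ν, hν⟩ := hact _ hbe
            have hh := congrArg (fun X : MM => X *ᵥ v) hanti
            simp only [← Matrix.mulVec_mulVec, Matrix.neg_mulVec, hμ, hν, Matrix.mulVec_smul, smul_smul,
              mul_comm ν μ] at hh
            have hz : (2 * (μ * ν)) • v = 0 := by
              rw [two_mul, add_smul]
              conv_lhs => arg 1; rw [hh]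
              exact neg_add_cancel _
            have hv0' : v ≠ 0 := fun h => hv0 (Subtype.ext h)
            rcases mul_eq_zero.mp ((smul_eq_zero.mp hz).resolve_right hv0') with h | h
            · exact hR.two_ne_zero h
            · rcases mul_eq_zero.mp h with h | h
              · exact hv0' (Matrix.mulVec_injective_iff_isUnit.mpr g.isUnit
                  ((hμ.trans (by rw [h, zero_smul])).trans (Matrix.mulVec_zero _).symm))
              · exact hv0' (Matrix.mulVec_injective_iff_isUnit.mpr b'.isUnit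
                  ((hν.trans (by rw [h, zero_smul])).trans (Matrix.mulVec_zero _).symm))
  -- so the monomials form a basis
  let M : Fin (mons s).length → MM := fun i => ((mons s).get i : MM)
  have hwrite : ∀ g ∈ R, ∃ (c : F) (i : Fin (mons s).length), (g : MM) = c • M i := by
    intro g hg
    obtain ⟨g', hg', m, hm, c, hgm, hg'c⟩ := adjust hR hs g hg
    obtain ⟨d, hd⟩ := hscal g' hg' hg'c
    obtain ⟨i, hi⟩ := List.get_of_mem hm
    exact ⟨c * d, i, by rw [hgm, hd, Matrix.smul_mul, Matrix.one_mul, smul_smul, ← congrArg Units.val hi]⟩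
  have hli : LinearIndependent F M := by
    refine linearIndependent_of_top_le_span_of_card_eq_finrank ?_ ?_
    · rw [← hR.span_top, Submodule.span_le]
      rintro _ ⟨g, hg, rfl⟩
      obtain ⟨c, i, hgi⟩ := hwrite g hg
      show (g : MM) ∈ _
      rw [hgi]
      exact Submodule.smul_mem _ _ (Submodule.subset_span ⟨i, rfl⟩)
    · rw [Fintype.card_fin, hlen, Module.finrank_matrix, Module.finrank_self, mul_one]
      simp
  obtain ⟨n1, hn1R, hn1⟩ : ∃ n ∈ R, (n : MM) = -1 := by
    obtain ⟨x, y, hxy⟩ := hR.exists_next .nil (by simp)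
    cases hxy with
    | cons hx hy ha _ _ =>
      refine ⟨y * x * y⁻¹ * x⁻¹, R.mul_mem (R.mul_mem (R.mul_mem hy hx) (R.inv_mem hy)) (R.inv_mem hx), ?_⟩
      rw [Units.val_mul, Units.val_mul, Units.val_mul, ha]
      simp [mul_assoc]
  let f : Bool × Fin (mons s).length → R := fun p =>
    ⟨(if p.1 then n1 else 1) * (mons s).get p.2, R.mul_mem (by split <;> [exact hn1R; exact R.one_mem])
      (mons_mem hs _ (List.get_mem _ _))⟩
  have hfval : ∀ p, ((f p : GG) : MM) = (if p.1 then (-1 : F) else 1) • M p.2 := by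
    rintro ⟨_ | _, i⟩ <;> simp [f, M, hn1]
  have hf : Function.Bijective f := by
    refine ⟨fun p p' h => ?_, fun g => ?_⟩
    · have h1 := congrArg (fun z : R => ((z : GG) : MM)) h
      simp only [hfval] at h1
      have hne : ∀ b : Bool, (if b then (-1 : F) else 1) ≠ 0 := fun b => by cases b <;> simp
      have hi : p.2 = p'.2 := hli.eq_of_smul_apply_eq_smul_apply _ _ _ _ (hne p.1) h1
      obtain ⟨b, i⟩ := p
      obtain ⟨b', i'⟩ := p'
      simp only at hi h1
      subst hi
      have := smul_left_injective F (fun h0 => (hli.ne_zero i) h0) h1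
      have h21 : (-1 : F) ≠ 1 := fun h' => hR.two_ne_zero (by linear_combination -h')
      cases b <;> cases b'
      · rfl
      · exact absurd this h21.symm
      · exact absurd this h21
      · rfl
    · obtain ⟨c, i, hgi⟩ := hwrite g g.2
      have hmem := R.mul_mem g.2 (R.inv_mem (mons_mem hs _ (List.get_mem (mons s) i)))
      have hz : ((g * ((mons s).get i)⁻¹ : GG) : MM) = c • (1 : MM) := by
        rw [Units.val_mul, hgi, Matrix.smul_mul, Units.mul_inv]
      rcases scalar_sq (hR.le hmem) hz with hc | hc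
      · exact ⟨(false, i), Subtype.ext (Units.ext (by rw [hfval, hgi, hc]; simp))⟩
      · exact ⟨(true, i), Subtype.ext (Units.ext (by rw [hfval, hgi, hc]; simp))⟩
  rw [← Nat.card_eq_of_bijective f hf, Nat.card_prod, Nat.card_eq_fintype_card, Nat.card_fin, hlen]
  rfl

end Cfsg.Agent.Lib.SympEight
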