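import Cfsg.Agent.Lib.SympEight.TypeBase

/-!
An absolutely irreducible group of symplectic type inside the symplectic group in dimension eight is of minus type.
-/

set_option autoImplicit false
set_option linter.unusedSectionVars false

namespace Cfsg.Agent.Lib.SympEight

open Matrix Module Cfsg.Geo
open scoped MatrixGroups Matrix

variable {F : Type*} [Field F] [Fintype F]

local notation "II" => (Fin 4 ⊕ Fin 4)
local notation "MM" => Matrix (Fin 4 ⊕ Fin 4) (Fin 4 ⊕ Fin 4) F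
local notation "VV" => (Fin 4 ⊕ Fin 4 → F)
local notation "GG" => Matrix.GeneralLinearGroup (Fin 4 ⊕ Fin 4) F
local notation "SP" => Cfsg.spGL 4 F
local notation "BB" => (Cfsg.Agent.Lib.MaxSub.stdAlt 4 F)

variable {R : Subgroup (Matrix.GeneralLinearGroup (Fin 4 ⊕ Fin 4) F)}

/-- The product of two elements anticommuting with a third commutes with it. -/
theorem commute_mul_of_anti {x y w : MM} (hx : w * x = -(x * w)) (hy : w * y = -(y * w)) : Commute (x * y) w := by
  show x * y * w = w * (x * y)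
  rw [← mul_assoc w, hx, neg_mul, mul_assoc x w, hy, mul_neg, neg_neg, mul_assoc]

/-- An anticommuting element times a commuting one anticommutes. -/
theorem anti_mul_of_commute {x w v : MM} (hw : w * x = -(x * w)) (hv : Commute v x) :
    w * v * x = -(x * (w * v)) := by
  rw [mul_assoc, hv.eq, ← mul_assoc, hw, neg_mul, mul_assoc]

theorem involution_adjoint {g : GG} (hg : g ∈ SP) (hg2 : (g : MM) * g = 1) (x y : VV) :
    (BB).B ((g : MM) *ᵥ x) y = (BB).B x ((g : MM) *ᵥ y) := by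
  have h := Cfsg.Agent.Lib.MaxSub.mem_spGL_iff.mp hg x ((g : MM) *ᵥ y)
  rwa [Matrix.mulVec_mulVec, hg2, Matrix.one_mulVec] at h

theorem proj_adjoint {M : MM} (hM : ∀ x y, (BB).B (M *ᵥ x) y = (BB).B x (M *ᵥ y)) (x y : VV) :
    (BB).B (proj M *ᵥ x) y = (BB).B x (proj M *ᵥ y) := by
  simp only [proj, Matrix.smul_mulVec, Matrix.add_mulVec, Matrix.one_mulVec, map_smul, map_add,
    LinearMap.smul_apply, LinearMap.add_apply, hM]

set_option maxHeartbeats 800000 in
/-- The group is of minus type. -/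
theorem Ext.minus_type (hR : Ext R) : IsOfMinusType 3 R := by
  classical
  intro A hA hA2
  by_contra hcard
  push Not at hcard
  have h2 := hR.two_ne_zero
  let val : A → MM := fun a => (((a : R) : GG) : MM)
  have hinj : Function.Injective val := fun a b h => Subtype.ext (Subtype.ext (Units.ext h))
  have hout : ∀ l : List MM, l.length < 16 → ∃ a : A, val a ∉ l := by
    intro l hl
    by_contra hc
    push Not at hc
    have h1 : Nat.card A ≤ l.toFinset.card := by
      haveI := Fintype.ofFinite A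
      rw [Nat.card_eq_fintype_card, ← Finset.card_univ, ← Finset.card_image_of_injective _ hinj]
      exact Finset.card_le_card fun y hy => by
        obtain ⟨a, -, rfl⟩ := Finset.mem_image.mp hy
        exact List.mem_toFinset.mpr (hc a)
    have h3 := List.toFinset_card_le l
    omega
  have hval2 : ∀ a : A, val a * val a = 1 := fun a => by
    have h := congrArg (fun m : R => ((m : GG) : MM)) (hA2 a a.2)
    simpa [val] using h
  have hcomm : ∀ a b : A, Commute (val a) (val b) := fun a b => by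
    have h := congrArg val (hA.is_comm.comm a b)
    simpa [val, Commute, SemiconjBy] using h
  have hmul : ∀ a b : A, val (a * b) = val a * val b := fun a b => by simp [val]
  have hns : ∀ a : A, val a ≠ 1 → val a ≠ -1 → ∀ c : F, val a ≠ c • (1 : MM) := by
    intro a h1 h1' c hc
    rcases scalar_sq (hR.le (a : R).2) hc with h | h <;> subst h
    · exact h1 (by rw [hc, one_smul])
    · exact h1' (by rw [hc, neg_one_smul])
  have hmove : ∀ a : A, val a ≠ 1 → val a ≠ -1 →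
      ∃ w ∈ R, (w : MM) * val a = -(val a * (w : MM)) := fun a h1 h1' =>
    hR.exists_anti (a : R).2 (hns a h1 h1')
  have hcancel : ∀ a b : A, ∀ M : MM, val (a * b) = M → val b = val a * M := fun a b M h => by
    rw [← h, hmul, ← mul_assoc, hval2, one_mul]
  -- the first involution
  obtain ⟨a, ha⟩ := hout [1, -1] (by norm_num)
  simp only [List.mem_cons, List.not_mem_nil, or_false, not_or] at ha
  obtain ⟨w₁, hw₁, h₁⟩ := hmove a ha.1 ha.2
  -- the second
  obtain ⟨b₀, hb₀⟩ := hout [1, -1, val a, -val a] (by norm_num)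
  simp only [List.mem_cons, List.not_mem_nil, or_false, not_or] at hb₀
  obtain ⟨b, hb1, hb1', hbw⟩ : ∃ b : A, val b ≠ 1 ∧ val b ≠ -1 ∧ Commute (w₁ : MM) (val b) := by
    rcases hR.comm_mat (b₀ : R).2 hw₁ with h | h
    · exact ⟨b₀, hb₀.1, hb₀.2.1, h⟩
    · refine ⟨a * b₀, fun e => hb₀.2.2.1 (by rw [hcancel a b₀ _ e, mul_one]),
        fun e => hb₀.2.2.2 (by rw [hcancel a b₀ _ e, mul_neg, mul_one]), ?_⟩
      rw [hmul]
      exact (commute_mul_of_anti h₁ h).symm
  obtain ⟨v₂, hv₂, hv₂b⟩ := hmove b hb1 hb1'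
  obtain ⟨w₂, hw₂, h₂, h₂a⟩ : ∃ w₂ ∈ R, (w₂ : MM) * val b = -(val b * (w₂ : MM)) ∧ Commute (w₂ : MM) (val a) := by
    rcases hR.comm_mat (a : R).2 hv₂ with h | h
    · exact ⟨v₂, hv₂, hv₂b, h⟩
    · refine ⟨v₂ * w₁, R.mul_mem hv₂ hw₁, ?_, ?_⟩
      · rw [Units.val_mul]; exact anti_mul_of_commute hv₂b hbw
      · rw [Units.val_mul]
        refine commute_mul_of_anti ?_ ?_ <;> [rw [show (v₂ : MM) * val a = -(val a * (v₂ : MM)) from h, neg_neg];
          rw [h₁, neg_neg]]
  -- the third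
  obtain ⟨c₀, hc₀⟩ := hout [1, -1, val a, -val a, val b, -val b, val a * val b, -(val a * val b)] (by norm_num)
  simp only [List.mem_cons, List.not_mem_nil, or_false, not_or] at hc₀
  obtain ⟨c₁, hc₁w, hc₁⟩ : ∃ c₁ : A, Commute (w₁ : MM) (val c₁) ∧
      val c₁ ≠ 1 ∧ val c₁ ≠ -1 ∧ val c₁ ≠ val b ∧ val c₁ ≠ -val b := by
    rcases hR.comm_mat (c₀ : R).2 hw₁ with h | h
    · exact ⟨c₀, h, hc₀.1, hc₀.2.1, hc₀.2.2.2.2.1, hc₀.2.2.2.2.2.1⟩
    · refine ⟨a * c₀, ?_, fun e => hc₀.2.2.1 (by rw [hcancel a c₀ _ e, mul_one]),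
        fun e => hc₀.2.2.2.1 (by rw [hcancel a c₀ _ e, mul_neg, mul_one]),
        fun e => hc₀.2.2.2.2.2.2.1 (hcancel a c₀ _ e),
        fun e => hc₀.2.2.2.2.2.2.2 (by rw [hcancel a c₀ _ e, mul_neg])⟩
      rw [hmul]
      exact (commute_mul_of_anti h₁ h).symm
  obtain ⟨c, hcw₁, hcw₂, hc1, hc1'⟩ : ∃ c : A, Commute (w₁ : MM) (val c) ∧ Commute (w₂ : MM) (val c) ∧
      val c ≠ 1 ∧ val c ≠ -1 := by
    rcases hR.comm_mat (c₁ : R).2 hw₂ with h | h
    · exact ⟨c₁, hc₁w, h, hc₁.1, hc₁.2.1⟩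
    · refine ⟨b * c₁, ?_, ?_, fun e => hc₁.2.2.1 (by rw [hcancel b c₁ _ e, mul_one]),
        fun e => hc₁.2.2.2 (by rw [hcancel b c₁ _ e, mul_neg, mul_one])⟩
      · rw [hmul]; exact hbw.mul_right hc₁w
      · rw [hmul]; exact (commute_mul_of_anti h₂ h).symm
  obtain ⟨v₃, hv₃, hv₃c⟩ := hmove c hc1 hc1'
  obtain ⟨x₃, hx₃, hx₃c, hx₃a⟩ : ∃ x₃ ∈ R, (x₃ : MM) * val c = -(val c * (x₃ : MM)) ∧
      Commute (x₃ : MM) (val a) := by
    rcases hR.comm_mat (a : R).2 hv₃ with h | h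
    · exact ⟨v₃, hv₃, hv₃c, h⟩
    · refine ⟨v₃ * w₁, R.mul_mem hv₃ hw₁, ?_, ?_⟩
      · rw [Units.val_mul]; exact anti_mul_of_commute hv₃c hcw₁
      · rw [Units.val_mul]
        refine commute_mul_of_anti ?_ ?_ <;> [rw [show (v₃ : MM) * val a = -(val a * (v₃ : MM)) from h, neg_neg];
          rw [h₁, neg_neg]]
  obtain ⟨w₃, hw₃, h₃, h₃a, h₃b⟩ : ∃ w₃ ∈ R, (w₃ : MM) * val c = -(val c * (w₃ : MM)) ∧
      Commute (w₃ : MM) (val a) ∧ Commute (w₃ : MM) (val b) := by
    rcases hR.comm_mat (b : R).2 hx₃ with h | h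
    · exact ⟨x₃, hx₃, hx₃c, hx₃a, h⟩
    · refine ⟨x₃ * w₂, R.mul_mem hx₃ hw₂, ?_, ?_, ?_⟩
      · rw [Units.val_mul]; exact anti_mul_of_commute hx₃c hcw₂
      · rw [Units.val_mul]; exact hx₃a.mul_left h₂a
      · rw [Units.val_mul]
        refine commute_mul_of_anti ?_ ?_ <;> [rw [show (x₃ : MM) * val b = -(val b * (x₃ : MM)) from h, neg_neg];
          rw [h₂, neg_neg]]
  have hT : Three ![val a, val b, val c] ![w₁, w₂, w₃] := by
    refine ⟨fun i => ?_, fun i j => ?_, fun i j hij => ?_⟩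
    · fin_cases i
      exacts [⟨hval2 a, h₁⟩, ⟨hval2 b, h₂⟩, ⟨hval2 c, h₃⟩]
    · fin_cases i <;> fin_cases j <;> exact hcomm _ _
    · fin_cases i <;> fin_cases j <;> simp at hij ⊢
      exacts [hbw, hcw₁, h₂a, hcw₂, h₃a, h₃b]
  obtain ⟨hr, -, hidem, -⟩ := hT.rank_one h2
  have hr' : finrank F (Cfsg.Agent.Lib.TwoPrimeDim.img (proj (val a) * proj (val b) * proj (val c))) = 1 := hr
  obtain ⟨⟨v, hv⟩, hv0, hvspan⟩ := finrank_eq_one_iff'.mp hr'
  have hev : (proj (val a) * proj (val b) * proj (val c)) *ᵥ v = v :=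
    (Cfsg.Agent.Lib.TwoPrimeDim.mem_img_idem hidem).mp hv
  have hadj : ∀ d : A, ∀ x y, (BB).B (proj (val d) *ᵥ x) y = (BB).B x (proj (val d) *ᵥ y) := fun d =>
    proj_adjoint (involution_adjoint (hR.le (d : R).2) (hval2 d))
  have hab := commute_proj (commute_proj (hcomm a b)).symm
  have hac := commute_proj (commute_proj (hcomm a c)).symm
  have hbc := commute_proj (commute_proj (hcomm b c)).symm
  have he : ∀ x y, (BB).B ((proj (val a) * proj (val b) * proj (val c)) *ᵥ x) y =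
      (BB).B x ((proj (val a) * proj (val b) * proj (val c)) *ᵥ y) := by
    have ha' := hadj a
    have hb' := hadj b
    have hc' := hadj c
    revert ha' hb' hc' hab hac hbc
    generalize proj (val a) = P, proj (val b) = Q, proj (val c) = S
    intro hab hac hbc ha' hb' hc' x y
    have hrev : S * Q * P = P * Q * S := by
      rw [hbc.eq, mul_assoc Q S P, hac.eq, ← mul_assoc, hab.eq]
    calc (BB).B ((P * Q * S) *ᵥ x) y = (BB).B (P *ᵥ (Q *ᵥ (S *ᵥ x))) y := by
          rw [Matrix.mulVec_mulVec, Matrix.mulVec_mulVec, mul_assoc]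
      _ = (BB).B x (S *ᵥ (Q *ᵥ (P *ᵥ y))) := by rw [ha', hb', hc']
      _ = (BB).B x ((P * Q * S) *ᵥ y) := by rw [Matrix.mulVec_mulVec, Matrix.mulVec_mulVec, hrev]
  refine hv0 (Subtype.ext ((BB).nondeg v fun x => ?_))
  obtain ⟨μ, hμ⟩ := hvspan ⟨(proj (val a) * proj (val b) * proj (val c)) *ᵥ x, x, by rw [Matrix.toLin'_apply]⟩
  have hμ' : μ • v = (proj (val a) * proj (val b) * proj (val c)) *ᵥ x := congrArg Subtype.val hμ
  rw [← hev, ← he, ← hμ', map_smul, LinearMap.smul_apply, (BB).alt, smul_zero]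

end Cfsg.Agent.Lib.SympEight
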