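import Cfsg.Agent.Lib.SympEight.TypeBase
import Cfsg.Agent.Lib.SLTwoPrime.Proper

/-!
helper26: the symplectic group in dimension eight normalises no absolutely irreducible group that is abelian of
exponent two modulo scalars; the centre of such a group has order two.
-/

set_option autoImplicit false
set_option linter.unusedSectionVars false

namespace Cfsg.Agent.Lib.SympEight

open Matrix Module Cfsg.Geo
open scoped MatrixGroups Matrix

variable {F : Type*} [Field F] [Finite F]

local notation "II" => (Fin 4 ⊕ Fin 4)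
local notation "MM" => Matrix (Fin 4 ⊕ Fin 4) (Fin 4 ⊕ Fin 4) F
local notation "VV" => (Fin 4 ⊕ Fin 4 → F)
local notation "GG" => Matrix.GeneralLinearGroup (Fin 4 ⊕ Fin 4) F
local notation "SP" => Cfsg.spGL 4 F
local notation "ZZ" => Cfsg.Geo.scalars (Fin 4 ⊕ Fin 4) F
local notation "BB" => (Cfsg.Agent.Lib.MaxSub.stdAlt 4 F)

variable {R : Subgroup (Matrix.GeneralLinearGroup (Fin 4 ⊕ Fin 4) F)}

namespace Ext

theorem exists_nonscalar (hR : Ext R) : ∃ g ∈ R, ∀ c : F, (g : MM) ≠ c • (1 : MM) := by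
  by_contra hcon
  push Not at hcon
  obtain ⟨c, hc⟩ := hR.scalar_of_commute (M := Matrix.single (Sum.inl 0) (Sum.inl 0) (1 : F)) fun g hg => by
    obtain ⟨d, hd⟩ := hcon g hg
    rw [hd]; simp
  have h0 := congrFun₂ hc (Sum.inl 1) (Sum.inl 1)
  have h1 := congrFun₂ hc (Sum.inl 0) (Sum.inl 0)
  simp at h0 h1
  rw [← h0] at h1
  exact one_ne_zero h1

theorem not_le_normalizer (hR : Ext R) : ¬ SP ≤ subgroupNormalizer R := by
  intro hle
  obtain ⟨g, hg, hgns⟩ := hR.exists_nonscalar
  obtain ⟨c, hc⟩ := SLTwoPrime.scalar_of_eigen (g : MM) fun u => by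
    rcases eq_or_ne u 0 with rfl | hu
    · exact ⟨0, by simp⟩
    obtain ⟨x, hx⟩ : ∃ x, (BB).B x u ≠ 0 := by
      by_contra h
      push Not at h
      exact hu ((BB).nondeg _ h)
    set T := (BB).trans u 1 with hT
    have hTm : ∀ v, (T : MM) *ᵥ v = v + (BB).B v u • u := fun v => by
      rw [hT, (BB).trans_mulVec, one_mul]
    have hTS : T ∈ SP := Cfsg.Agent.Lib.MaxSub.mem_spGL_iff.mpr ((BB).trans_preserves u 1)
    have hTgT : T * g * T⁻¹ ∈ R := ((Subgroup.mem_normalizer_iff.1 (hle hTS)) g).1 hg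
    set h := T * g * T⁻¹ * g⁻¹ with hh
    have hhR : h ∈ R := mul_mem hTgT (inv_mem hg)
    let φ₁ : Module.Dual F VV := (BB).B.flip u
    let φ₂ : Module.Dual F VV := φ₁.comp (g : MM).toLin'
    let W₀ := LinearMap.ker (φ₁.prod φ₂)
    have hW₀ : 6 ≤ Module.finrank F W₀ := by
      have h1 := LinearMap.finrank_range_add_finrank_ker (φ₁.prod φ₂)
      have h3 := Submodule.finrank_le (LinearMap.range (φ₁.prod φ₂))
      simp only [Module.finrank_fintype_fun_eq_card, Fintype.card_sum, Fintype.card_fin, Module.finrank_prod,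
        Module.finrank_self] at h1 h3
      show 6 ≤ Module.finrank F (LinearMap.ker (φ₁.prod φ₂))
      omega
    have hfix : ∀ v ∈ W₀, (h : MM) *ᵥ ((g : MM) *ᵥ v) = (g : MM) *ᵥ v := by
      intro v hv
      have h12 : (BB).B v u = 0 ∧ (BB).B ((g : MM) *ᵥ v) u = 0 := by
        simpa [W₀, φ₁, φ₂, LinearMap.mem_ker, Prod.ext_iff] using hv
      have hTv : ((T⁻¹ : GG) : MM) *ᵥ v = v := by
        conv_lhs => rw [show v = (T : MM) *ᵥ v by rw [hTm, h12.1, zero_smul, add_zero]]
        rw [mulVec_mulVec, ← Units.val_mul, inv_mul_cancel, Units.val_one, one_mulVec]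
      rw [mulVec_mulVec, ← Units.val_mul, hh, inv_mul_cancel_right, Units.val_mul, Units.val_mul, ← mulVec_mulVec,
        ← mulVec_mulVec, hTv, hTm, h12.2, zero_smul, add_zero]
    have hinj : ∀ m : GG, Function.Injective (m : MM).toLin' := fun m a b hab =>
      Matrix.mulVec_injective_iff_isUnit.mpr m.isUnit (by simpa [toLin'_apply] using hab)
    by_cases hsc : ∃ d : F, (h : MM) = d • (1 : MM)
    · obtain ⟨d, hd⟩ := hsc
      obtain ⟨v, hv, hv0⟩ := Submodule.exists_mem_ne_zero_of_ne_bot (p := W₀) (fun hb => by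
        rw [hb, finrank_bot] at hW₀; omega)
      have hgv : (g : MM) *ᵥ v ≠ 0 := fun h0 => hv0 (hinj g (by simpa [toLin'_apply] using h0))
      have hd1 : d = 1 := by
        have := hfix v hv
        rw [hd, smul_mulVec, one_mulVec] at this
        by_contra hne
        exact hgv ((smul_eq_zero.1 (show (d - 1) • ((g : MM) *ᵥ v) = 0 by
          rw [sub_smul, one_smul, this, sub_self])).resolve_left (sub_ne_zero.2 hne))
      have h1 : h = 1 := Units.ext (by rw [hd, hd1, one_smul]; rfl)
      rw [hh, mul_inv_eq_one, mul_inv_eq_iff_eq_mul] at h1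
      have := congrArg (fun m : GG => (m : MM) *ᵥ x) h1
      simp only [Units.val_mul, ← mulVec_mulVec] at this
      rw [hTm, hTm, mulVec_add, mulVec_smul] at this
      refine ⟨((BB).B x u)⁻¹ * (BB).B ((g : MM) *ᵥ x) u, ?_⟩
      rw [mul_smul, add_left_cancel this, smul_smul, inv_mul_cancel₀ hx, one_smul]
    · exfalso
      push Not at hsc
      obtain ⟨y, hy, hyh⟩ := hR.exists_anti hhR hsc
      let W := W₀.map (g : MM).toLin'
      let W' := W.map (y : MM).toLin'
      have hdis : W ⊓ W' = ⊥ := by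
        rw [eq_bot_iff]
        rintro _ ⟨⟨v, hv, rfl⟩, ⟨_, ⟨v', hv', rfl⟩, he⟩⟩
        simp only [toLin'_apply] at he ⊢
        have e1 := hfix v hv
        have e2 := hfix v' hv'
        rw [← he, mulVec_mulVec, show (h : MM) * y = -((y : MM) * h) by rw [hyh, neg_neg],
          neg_mulVec, ← mulVec_mulVec, e2] at e1
        have e3 : (2 : F) • ((g : MM) *ᵥ v) = 0 := by
          rw [two_smul]; nth_rewrite 1 [← he]; rw [← he]; nth_rewrite 1 [← e1]; exact neg_add_cancel _
        exact (Submodule.mem_bot F).2 ((smul_eq_zero.1 e3).resolve_left hR.two_ne_zero)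
      have h1 := Submodule.finrank_sup_add_finrank_inf_eq W W'
      rw [hdis, finrank_bot] at h1
      have hWd : Module.finrank F W = Module.finrank F W₀ :=
        (Submodule.equivMapOfInjective _ (hinj g) W₀).finrank_eq.symm
      have hWd' : Module.finrank F W' = Module.finrank F W :=
        (Submodule.equivMapOfInjective _ (hinj y) W).finrank_eq.symm
      have h3 := Submodule.finrank_le (W ⊔ W')
      rw [Module.finrank_fintype_fun_eq_card, Fintype.card_sum, Fintype.card_fin] at h3
      omega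
  exact hgns c hc

theorem neg_one_mem (hR : Ext R) : (-1 : GG) ∈ R := by
  obtain ⟨x, hx, hns⟩ := hR.exists_nonscalar
  obtain ⟨y, hy, hyx⟩ := hR.exists_anti hx hns
  have h : y * x = -(x * y) := Units.ext (by rw [Units.val_neg, Units.val_mul, Units.val_mul]; exact hyx)
  have h' : (-1 : GG) = (y * x) * (x * y)⁻¹ := by rw [h, neg_mul, mul_inv_cancel]
  rw [h']
  exact R.mul_mem (R.mul_mem hy hx) (R.inv_mem (R.mul_mem hx hy))

theorem center_card (hR : Ext R) : Nat.card (Subgroup.center R) = 2 := by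
  have hm : (⟨-1, hR.neg_one_mem⟩ : R) ∈ Subgroup.center R :=
    Subgroup.mem_center_iff.mpr fun k => Subtype.ext (by simp)
  rw [Nat.card_eq_two_iff]
  refine ⟨1, ⟨⟨-1, hR.neg_one_mem⟩, hm⟩, fun h => ?_, ?_⟩
  · exact hR.ne_neg 1 (by
      have := congrArg (fun z : Subgroup.center R => (((z : R) : GG) : MM)) h
      simpa using this)
  · ext z
    simp only [Set.mem_insert_iff, Set.mem_singleton_iff, Set.mem_univ, iff_true]
    obtain ⟨⟨z, hz⟩, hzc⟩ := z
    obtain ⟨c, hc⟩ := hR.scalar_of_commute (M := (z : MM)) fun k hk => by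
      have := congrArg (fun r : R => ((r : GG) : MM)) (Subgroup.mem_center_iff.mp hzc ⟨k, hk⟩)
      simpa using this.symm
    rcases scalar_sq (hR.le hz) hc with h | h <;> rw [h] at hc
    · left; exact Subtype.ext (Subtype.ext (Units.ext (by simpa using hc)))
    · right; exact Subtype.ext (Subtype.ext (Units.ext (by simpa using hc)))

end Ext

end Cfsg.Agent.Lib.SympEight
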