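import Cfsg.Agent.Lib.SympEight.Type
import Cfsg.Agent.Lib.SympTwoPrime.Forms
import Cfsg.Agent.Lib.SympEight.TypeMinus
import Cfsg.Agent.Lib.SympEight.TypeNorm

/-!
The symplectic type case for maximal subgroups of the symplectic group in dimension eight.
-/

set_option autoImplicit false
set_option linter.unusedSectionVars false

namespace Cfsg.Agent.Lib.SympEight

open Matrix Module Cfsg.Geo
open scoped MatrixGroups Matrix

variable {F : Type*} [Field F] [Fintype F]

local notation "II" => (Fin 4 ⊕ Fin 4)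
local notation "MM" => Matrix (Fin 4 ⊕ Fin 4) (Fin 4 ⊕ Fin 4) F
local notation "VV" => (Fin 4 ⊕ Fin 4 → F)
local notation "GG" => Matrix.GeneralLinearGroup (Fin 4 ⊕ Fin 4) F
local notation "SP" => Cfsg.spGL 4 F
local notation "ZZ" => Cfsg.Geo.scalars (Fin 4 ⊕ Fin 4) F

variable {R : Subgroup (Matrix.GeneralLinearGroup (Fin 4 ⊕ Fin 4) F)}

/-- An element of square minus one anticommuting with a given one. -/
theorem Ext.exists_quat (hR : Ext R) {a : GG} (ha : a ∈ R) (hns : ∀ c : F, (a : MM) ≠ c • (1 : MM)) :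
    ∃ u ∈ R, (u : MM) * u = -1 ∧ (u : MM) * a = -((a : MM) * u) := by
  obtain ⟨b, hb, hba⟩ := hR.exists_anti ha hns
  have hab : (a : MM) * b = -((b : MM) * a) := by rw [hba, neg_neg]
  rcases hR.sq_mat hb with hb2 | hb2
  swap
  · exact ⟨b, hb, hb2, hba⟩
  rcases hR.sq_mat ha with ha2 | ha2
  · refine ⟨a * b, R.mul_mem ha hb, ?_, ?_⟩
    · rw [Units.val_mul, mul_assoc, ← mul_assoc (b : MM), hba, neg_mul, mul_neg, mul_assoc (a : MM) (b : MM),
        hb2, mul_one, ha2]
    · rw [Units.val_mul, mul_assoc, hba, mul_neg]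
  obtain ⟨x, y, hxy⟩ := hR.exists_next (.cons ha hb hba (by simp) .nil) (by simp)
  cases hxy with
  | cons hx hy hyx hc _ =>
    obtain ⟨xa, xb, ya, yb⟩ := hc (a, b) (by simp)
    obtain ⟨z, hz, hz2, za, zb⟩ : ∃ z ∈ R, (z : MM) * z = -1 ∧ Commute (z : MM) (a : MM) ∧
        Commute (z : MM) (b : MM) := by
      rcases hR.sq_mat hx with h1 | h1
      swap
      · exact ⟨x, hx, h1, xa, xb⟩
      rcases hR.sq_mat hy with h2 | h2
      swap
      · exact ⟨y, hy, h2, ya, yb⟩
      refine ⟨x * y, R.mul_mem hx hy, ?_, ?_, ?_⟩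
      · rw [Units.val_mul, mul_assoc, ← mul_assoc (y : MM), hyx, neg_mul, mul_neg, mul_assoc (x : MM) (y : MM),
          h2, mul_one, h1]
      · rw [Units.val_mul]; exact xa.mul_left ya
      · rw [Units.val_mul]; exact xb.mul_left yb
    refine ⟨b * z, R.mul_mem hb hz, ?_, ?_⟩
    · rw [Units.val_mul, mul_assoc, ← mul_assoc (z : MM), zb.eq, mul_assoc (b : MM) (z : MM), hz2, ← mul_assoc,
        hb2, one_mul]
    · rw [Units.val_mul, mul_assoc, za.eq, ← mul_assoc, hba, neg_mul, mul_assoc]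

/-- A characteristic abelian subgroup is scalar. -/
theorem Ext.char_scalar (hR : Ext R) {A : Subgroup R} (hA : A.Characteristic) (hAc : IsMulCommutative A) {a : R}
    (ha : a ∈ A) : ∃ c : F, ((a : GG) : MM) = c • (1 : MM) := by
  by_contra hns
  push Not at hns
  obtain ⟨u, huR, hu2, hua⟩ := hR.exists_quat a.2 hns
  have h2 := hR.two_ne_zero
  have hinv : (1 + (u : MM)) * ((2 : F)⁻¹ • (1 - (u : MM))) = 1 := by
    rw [Matrix.mul_smul, mul_sub, mul_one, add_mul, one_mul, hu2]
    match_scalars <;> field_simp <;> ring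
  let g : GG := Units.mk (1 + (u : MM)) ((2 : F)⁻¹ • (1 - (u : MM))) hinv (mul_eq_one_comm.mp hinv)
  have hconj : ∀ x ∈ R, (g * x * g⁻¹ = x ∧ g⁻¹ * x * g = x) ∨
      (g * x * g⁻¹ = u * x ∧ g⁻¹ * x * g = x * u) := by
    intro x hx
    rcases hR.comm_mat huR hx with h | h
    · left
      have hc : Commute (g : MM) (x : MM) := (Commute.one_left _).add_left h.symm
      refine ⟨?_, ?_⟩
      · rw [mul_inv_eq_iff_eq_mul]; exact Units.ext hc.eq
      · rw [mul_assoc, inv_mul_eq_iff_eq_mul]; exact Units.ext hc.eq.symm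
    · right
      refine ⟨?_, ?_⟩
      · rw [mul_inv_eq_iff_eq_mul]
        apply Units.ext
        simp only [Units.val_mul]
        show (1 + (u : MM)) * x = (u : MM) * x * (1 + (u : MM))
        rw [mul_add, add_mul, one_mul, mul_one, mul_assoc (u : MM) (x : MM) (u : MM), h, mul_neg, ← mul_assoc, hu2]
        simp only [neg_mul, one_mul, neg_neg]
        abel
      · rw [mul_assoc, inv_mul_eq_iff_eq_mul]
        apply Units.ext
        simp only [Units.val_mul]
        show (x : MM) * (1 + (u : MM)) = (1 + (u : MM)) * ((x : MM) * u)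
        rw [mul_add, add_mul, one_mul, mul_one, ← mul_assoc (u : MM) (x : MM) (u : MM),
          show (u : MM) * x = -((x : MM) * u) by rw [h, neg_neg], neg_mul, mul_assoc, hu2]
        simp only [mul_neg, mul_one, neg_neg]
        abel
  have hmem : ∀ x ∈ R, g * x * g⁻¹ ∈ R ∧ g⁻¹ * x * g ∈ R := fun x hx => by
    rcases hconj x hx with ⟨e1, e2⟩ | ⟨e1, e2⟩ <;> rw [e1, e2]
    · exact ⟨hx, hx⟩
    · exact ⟨R.mul_mem huR hx, R.mul_mem hx huR⟩
  let α : R ≃* R :=
    { toFun := fun r => ⟨g * r * g⁻¹, (hmem r r.2).1⟩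
      invFun := fun r => ⟨g⁻¹ * r * g, (hmem r r.2).2⟩
      left_inv := fun r => Subtype.ext (by simp [mul_assoc])
      right_inv := fun r => Subtype.ext (by simp [mul_assoc])
      map_mul' := fun r s => Subtype.ext (by simp [mul_assoc]) }
  have hα : α a ∈ A := (Subgroup.characteristic_iff_map_eq.1 hA α).le ⟨a, ha, rfl⟩
  have hua' : (a : GG) * u = u * a → False := fun h => by
    have h1 := congrArg Units.val h
    rw [Units.val_mul, Units.val_mul, hua] at h1
    exact hR.ne_neg ((a : GG) * u) (by rw [Units.val_mul]; exact h1)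
  have hαa : ((α a : R) : GG) = u * (a : GG) := by
    rcases hconj a a.2 with ⟨e1, -⟩ | ⟨e1, -⟩
    · exfalso
      apply hua'
      have h1 : g * (a : GG) = (a : GG) * g := mul_inv_eq_iff_eq_mul.mp e1
      have h3 := congrArg Units.val h1
      simp only [Units.val_mul] at h3
      change (1 + (u : MM)) * ((a : GG) : MM) = ((a : GG) : MM) * (1 + (u : MM)) at h3
      rw [add_mul, mul_add, one_mul, mul_one] at h3
      exact Units.ext (add_left_cancel h3).symm
    · exact e1
  have hcomm := congrArg (fun m : A => ((m : R) : GG))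
    (hAc.is_comm.comm ⟨a, ha⟩ ⟨α a * a⁻¹, A.mul_mem hα (A.inv_mem ha)⟩)
  simp only [Subgroup.coe_mul, InvMemClass.coe_inv, hαa, mul_inv_cancel_right] at hcomm
  exact hua' hcomm

theorem Ext.symplecticType (hR : Ext R) : IsSymplecticTypeGroup 2 R := by
  classical
  haveI : Fact (Nat.Prime 2) := ⟨Nat.prime_two⟩
  refine ⟨Nat.prime_two, IsPGroup.of_card (n := 7) (by rw [hR.card_eq]; norm_num), fun A hA hAc => ?_, ?_⟩
  · have hsc : ∀ a ∈ A, ∃ c : F, ((a : GG) : MM) = c • (1 : MM) := fun a ha => hR.char_scalar hA hAc ha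
    let i : II := Sum.inl 0
    let ev : A →* F :=
      { toFun := fun a => ((a : R) : GG).val i i
        map_one' := by simp
        map_mul' := fun a b => by
          obtain ⟨c, hc⟩ := hsc a a.2
          obtain ⟨d, hd⟩ := hsc b b.2
          simp [hc, hd, mul_comm] }
    refine isCyclic_of_subgroup_isDomain ev fun a b hab => ?_
    obtain ⟨c, hc⟩ := hsc a a.2
    obtain ⟨d, hd⟩ := hsc b b.2
    have hcd : c = d := by simpa [ev, hc, hd] using hab
    exact Subtype.ext (Subtype.ext (Units.ext (by rw [hc, hd, hcd])))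
  · show Monoid.exponent R = 4
    have hpow : ∀ g : R, g ^ 4 = 1 := fun g => by
      apply Subtype.ext; apply Units.ext
      show (((g : GG) ^ 4 : GG) : MM) = 1
      rw [Units.val_pow_eq_pow_val, show ((g : GG) : MM) ^ 4 = (((g : GG) : MM) * (g : GG)) ^ 2 by rw [← pow_two, ← pow_mul]]
      rcases hR.sq_mat g.2 with h | h <;> rw [h] <;> simp
    refine Nat.dvd_antisymm (Monoid.exponent_dvd_of_forall_pow_eq_one hpow) ?_
    obtain ⟨x, y, hxy⟩ := hR.exists_next .nil (by simp)
    cases hxy with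
    | cons hx hy ha _ _ =>
      obtain ⟨u, hu, hu2, -⟩ := hR.exists_quat hx (hR.nonscalar_of_anti ha)
      have hord : orderOf (⟨u, hu⟩ : R) = 4 := by
        refine orderOf_eq_prime_pow (p := 2) (n := 1) ?_ (hpow _)
        intro h
        have h1 := congrArg (fun m : R => ((m : GG) : MM)) h
        simp [pow_two, hu2] at h1
        exact hR.ne_neg 1 (by simpa using h1.symm)
      have hdvd := Monoid.order_dvd_exponent (⟨u, hu⟩ : R)
      rwa [hord] at hdvd

theorem Ext.similarity (hR : Ext R) : R ≤ similarityGroup (Cfsg.sympForm 4 F) := fun g hg =>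
  ⟨1, fun u v => by
    have h := MaxSub.mem_spGL_iff.1 (hR.le hg) u v
    rw [MaxSub.stdAlt_apply, MaxSub.stdAlt_apply] at h
    rw [h, Units.val_one, one_mul]⟩

theorem card_of_bot_eq_top (h : F0 F = ⊤) (h2 : (2 : F) ≠ 0) :
    ∃ p : ℕ, p.Prime ∧ Odd p ∧ Fintype.card F = p := by
  obtain ⟨p, hp⟩ := CharP.exists F
  haveI := hp
  have hpp : p.Prime := CharP.char_is_prime F p
  haveI := Fact.mk hpp
  refine ⟨p, hpp, hpp.odd_of_ne_two fun e => h2 ?_, ?_⟩
  · have := CharP.cast_eq_zero F p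
    rw [e] at this
    exact_mod_cast this
  · have hsurj : Function.Surjective (ZMod.castHom dvd_rfl F : ZMod p →+* F) := fun x =>
      RingHom.mem_fieldRange.mp ((bot_le : F0 F ≤ (ZMod.castHom dvd_rfl F).fieldRange) (h.ge (Subfield.mem_top x)))
    rw [← Fintype.card_of_bijective ⟨(ZMod.castHom dvd_rfl F).injective, hsurj⟩, ZMod.card]

/-- The case of a normal subgroup of symplectic type. -/
theorem symp_type_cases {H : Subgroup GG} (hH : IsMaximalIn SP H) {R : Subgroup GG}
    (hnorm : H ≤ subgroupNormalizer R) (hR : Ext R) : Cases H := by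
  classical
  by_cases h0 : F0 F = ⊤
  · obtain ⟨p, hp, hodd, hcard⟩ := card_of_bot_eq_top h0 hR.two_ne_zero
    exact Or.inr (Or.inr (Or.inr (Or.inr (Or.inr (Or.inr (Or.inr (Or.inr (Or.inr (Or.inl
      ⟨p, R, hp, hodd, hcard, hR.symplecticType, hR.absIrred, hR.similarity, hR.card_eq, hR.center_card,
        hR.minus_type, SympTwoPrime.eq_of_maximal hH hnorm hR.not_le_normalizer⟩)))))))))
  · obtain ⟨F₁, r, h1, hr, hc, hreal⟩ :=
      PrimeDim.FormDescent.exists_prime_index_realisable h0 hR.realisable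
    have hfix : FixesForm (matrixSet R) (Cfsg.sympForm 4 F) := by
      rintro _ ⟨g, hg, rfl⟩ u v
      have h := MaxSub.mem_spGL_iff.1 (hR.le hg) u v
      rwa [MaxSub.stdAlt_apply, MaxSub.stdAlt_apply] at h
    obtain ⟨B, ζ, hζ, hB, hN⟩ := PrimeDim.FormDescent.exists_bilinear_structure SympTwoPrime.sympBilinear
      SympTwoPrime.sympNondeg hR.absIrred hfix hreal
    exact Or.inr (Or.inr (Or.inr (Or.inr (Or.inr (Or.inr (Or.inr (Or.inr (Or.inl
      ⟨F₁, r, B, ζ, hr, by rw [← Nat.card_eq_fintype_card]; exact hc, hζ, hB,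
        SympTwoPrime.eq_of_maximal hH
          (fun h hh => hN h fun x hx => (Subgroup.mem_normalizer_iff.1 (hnorm hh) x).1 hx)
          (SympTwoPrime.spGL_not_le_subfield (by norm_num) h1 B)⟩))))))))

end Cfsg.Agent.Lib.SympEight
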